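import Groth.Agent.EulerLib.SupportVanishing
import Groth.Agent.EulerLib.Twist
import Groth.Agent.AmpleLib.FTIdeal
import Groth.Agent.Coherent.FinitePres
import Groth.Agent.Coherent.SecBridge
import Groth.Prelude.Def_ClSub2

/-!
# The sequence of a closed subscheme; sections of modules with small support
-/

set_option autoImplicit false
set_option linter.style.haveILetI false
set_option backward.isDefEq.respectTransparency.types false

universe u

open CategoryTheory CategoryTheory.Limits AlgebraicGeometry Opposite TopologicalSpace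
open Groth.Agent.Coherent Groth.Agent.PicLib Groth.Agent.AmpleLib Groth.Agent.EulerLib

namespace Groth.Agent.CurveRR24

variable {X : Scheme.{u}}

theorem epi_toSubscheme (I : X.IdealSheafData) : Epi (ClSub.toSubscheme I) := by
  refine epi_of_locally_surjective _ fun W a y hy => ?_
  obtain ⟨U, hU, hyU, hUW⟩ := exists_isAffineOpen_mem_and_subset (x := y) (U := W) hy
  obtain ⟨b, hb⟩ := I.subschemeι_app_surjective ⟨U, hU⟩
    (resM (ClSub.quotMod I) (show U ≤ W from hUW) a)
  exact ⟨U, hUW, hyU, b, hb⟩

/-- The short exact sequence `0 → I → O_X → O_X/I → 0`. -/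
theorem shortExact_ideal (I : X.IdealSheafData) :
    (ShortComplex.mk (ClSub.idealModι I) (ClSub.toSubscheme I)
      (kernel.condition (ClSub.toSubscheme I))).ShortExact :=
  haveI := epi_toSubscheme I
  { exact := ShortComplex.exact_of_f_is_kernel _ (kernelIsKernel (ClSub.toSubscheme I))
    mono_f := mono_idealModι I }

theorem isCoh_quotMod [IsLocallyNoetherian X] (I : X.IdealSheafData) :
    Coh.IsCoh (ClSub.quotMod I) := by
  haveI : IsLocallyNoetherian I.subscheme := LocallyOfFiniteType.isLocallyNoetherian I.subschemeι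
  exact isCoh_push_finite I.subschemeι (isCoh_structureModule I.subscheme)

theorem isCoh_idealMod' [IsLocallyNoetherian X] (I : X.IdealSheafData) :
    Coh.IsCoh (ClSub.idealMod I) :=
  isCoh_idealMod I fun U => by
    haveI : IsNoetherianRing Γ(X, U) := IsLocallyNoetherian.component_noetherian U
    exact IsNoetherian.noetherian _

theorem support_quotMod_subset (I : X.IdealSheafData) :
    CohB1.support (ClSub.quotMod I) ⊆ (I.support : Set X) := by
  intro z hz
  by_contra hzs
  refine hz (subsingleton_of_forall_eq 0 fun t => ?_)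
  obtain ⟨V, hV, s, rfl⟩ := (ClSub.quotMod I).presheaf.exists_germ_eq t
  let O : X.Opens := ⟨(I.support : Set X)ᶜ, I.support.2.isOpen_compl⟩
  let V₁ : X.Opens := V ⊓ O
  have hbot : I.subschemeι ⁻¹ᵁ V₁ = ⊥ := Opens.ext (Set.eq_empty_of_forall_notMem fun w hw =>
    hw.2 (I.range_subschemeι.subset ⟨w, rfl⟩))
  have : Subsingleton Γ(I.subscheme, I.subschemeι ⁻¹ᵁ V₁) := by
    rw [hbot]
    exact CommRingCat.subsingleton_of_isTerminal I.subscheme.sheaf.isTerminalOfEmpty
  erw [← TopCat.Presheaf.germ_res_apply _ (homOfLE (inf_le_left : V₁ ≤ V)) z ⟨hV, hzs⟩ s]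
  let t₁ : Γ(I.subscheme, I.subschemeι ⁻¹ᵁ V₁) :=
    (ClSub.quotMod I).presheaf.map (homOfLE (inf_le_left : V₁ ≤ V)).op s
  exact (congrArg ((ClSub.quotMod I).presheaf.germ V₁ z ⟨hV, hzs⟩) (this.elim t₁ 0)).trans (map_zero _)

/-- Restriction to an open containing the support is bijective. -/
theorem bijective_resM_of_support (M : X.Modules) (T : Set X) (hT : IsClosed T)
    (hM : CohB1.support M ⊆ T) {W : X.Opens} (hW : T ⊆ (W : Set X)) :
    Function.Bijective (resM M (le_top : W ≤ (⊤ : X.Opens))) := by
  let O : X.Opens := ⟨Tᶜ, hT.isOpen_compl⟩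
  have hsub : ∀ V : X.Opens, V ≤ O → Subsingleton Γ(M, V) := fun V hV =>
    subsingleton_sections_of_disjoint M V (Set.disjoint_left.2 fun x hx hxs => hV hx (hM hxs))
  let F : TopCat.Sheaf Ab X := ⟨M.presheaf, M.isSheaf⟩
  constructor
  · intro a b hab
    refine TopCat.Presheaf.section_ext F ⊤ a b fun z _ => ?_
    by_cases h : z ∈ T
    · have h1 := TopCat.Presheaf.germ_res_apply F.presheaf (homOfLE (le_top (a := W))) z (hW h) a
      have h2 := TopCat.Presheaf.germ_res_apply F.presheaf (homOfLE (le_top (a := W))) z (hW h) b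
      exact h1.symm.trans ((congrArg (F.presheaf.germ W z (hW h)) hab).trans h2)
    · exact (not_not.1 fun hne => h (hM hne) : Subsingleton (M.presheaf.stalk z)).elim _ _
  · intro s
    let U : ULift.{u} Bool → X.Opens := fun b => if b.down then W else O
    let sf : ∀ b, ToType (F.presheaf.obj (op (U b))) := fun b =>
      match b with
      | ⟨true⟩ => (s : Γ(M, W))
      | ⟨false⟩ => (0 : Γ(M, O))
    have hcompat : TopCat.Presheaf.IsCompatible F.presheaf U sf := by
      rintro ⟨_ | _⟩ ⟨_ | _⟩
      · rfl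
      · exact (hsub _ inf_le_left).elim _ _
      · exact (hsub _ inf_le_right).elim _ _
      · rfl
    obtain ⟨g, hg, -⟩ := TopCat.Sheaf.existsUnique_gluing' F U ⊤ (fun _ => homOfLE le_top)
      (fun z _ => by
        by_cases h : z ∈ T
        · exact Opens.mem_iSup.2 ⟨⟨true⟩, hW h⟩
        · exact Opens.mem_iSup.2 ⟨⟨false⟩, h⟩) sf hcompat
    exact ⟨g, hg ⟨true⟩⟩

/-- `H^0` and global sections, linearly over the base. -/
noncomputable def hhZero (A : Type u) [CommRing A] [X.Over (Spec (CommRingCat.of A))] (M : X.Modules) :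
    Coh.HH X M 0 ≃ₗ[A] GA (baseHom A X) M :=
  (HHBaseEquiv A M 0).trans (secA (baseHom A X) M)

end Groth.Agent.CurveRR24
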