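import Groth.Agent.CurveRR24.PointInv
import Groth.Agent.EulerLib.InvClass

/-!
# Riemann-Roch bookkeeping on proper schemes of dimension at most one
-/

set_option autoImplicit false
set_option linter.style.haveILetI false
set_option backward.isDefEq.respectTransparency.types false

universe u

open CategoryTheory CategoryTheory.Limits AlgebraicGeometry Opposite TopologicalSpace
open Groth.Agent.Coherent Groth.Agent.PicLib Groth.Agent.AmpleLib Groth.Agent.EulerLib

namespace Groth.Agent.CurveRR24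

variable {X : Scheme.{u}}
variable (k : Type u) [Field k] [X.Over (Spec (CommRingCat.of k))]

theorem finrank_HH_congr {M N : X.Modules} (e : M ≅ N) (q : ℕ) :
    Module.finrank k (Coh.HH X M q) = Module.finrank k (Coh.HH X N q) :=
  ((HHBaseEquiv k M q).trans ((isoA _ e ⊤ q).trans (HHBaseEquiv k N q).symm)).finrank_eq

theorem subsingleton_HH_congr {M N : X.Modules} (e : M ≅ N) (q : ℕ)
    (h : Subsingleton (Coh.HH X M q)) : Subsingleton (Coh.HH X N q) := by
  rw [subsingleton_HH_iff] at h ⊢
  haveI := h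
  exact (isoA (RingHom.id Γ(X, ⊤)) e ⊤ q).symm.toEquiv.subsingleton

variable [IsProper (X ↘ Spec (CommRingCat.of k))]

include k in
theorem isLocallyNoetherian_of_proper : IsLocallyNoetherian X :=
  LocallyOfFiniteType.isLocallyNoetherian (X ↘ Spec (CommRingCat.of k))

theorem finite_HH_of_isCoh {M : X.Modules} (hM : Coh.IsCoh M) (q : ℕ) : Module.Finite k (Coh.HH X M q) :=
  (finite_HH_iff k M q).2 (finCoh_of_isProper (X ↘ Spec (CommRingCat.of k)) M hM q)

include k in
theorem subsingleton_HH_ge_two (hdim : topologicalKrullDim X ≤ 1) (M : X.Modules) (hM : Coh.IsQCoh M)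
    {q : ℕ} (hq : 1 < q) : Subsingleton (Coh.HH X M q) := by
  haveI := isNoetherian_of_proper k (X := X)
  haveI : X.IsSeparated := ⟨by rw [← terminal.comp_from (X ↘ Spec (CommRingCat.of k))]; infer_instance⟩
  haveI := hM
  exact subsingleton_HH_of_dim (X := X) M (d := 1) (by exact_mod_cast hdim) hq

/-- On a curve `χ = h⁰ - h¹`. -/
theorem euler_eq_h0_sub_h1 (hdim : topologicalKrullDim X ≤ 1) (M : X.Modules) (hM : Coh.IsQCoh M) :
    Curv2.euler k X M =
      (Module.finrank k (Coh.HH X M 0) : ℤ) - (Module.finrank k (Coh.HH X M 1) : ℤ) := by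
  rw [euler_eq_sum k X M 1 fun q hq => subsingleton_HH_ge_two k hdim M hM hq]
  simp [Finset.sum_range_succ]
  ring

include k in
theorem isQCoh_structure : Coh.IsQCoh (Coh.structureModule X) :=
  haveI := isLocallyNoetherian_of_proper k (X := X)
  (isCoh_structureModule X).1

theorem euler_structure (hdim : topologicalKrullDim X ≤ 1) :
    Curv2.euler k X (Coh.structureModule X) =
      (Module.finrank k (Coh.HH X (Coh.structureModule X) 0) : ℤ) - (Curv2.genus k X : ℤ) :=
  euler_eq_h0_sub_h1 k hdim _ (isQCoh_structure k)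

include k in
theorem isCoh_of_isInvertible {L : X.Modules} (hL : PicF.IsInvertible L) : Coh.IsCoh L :=
  haveI := isLocallyNoetherian_of_proper k (X := X)
  isCoh_iso (unitTensorIso L) (isCoh_twist hL (isCoh_structureModule X))

/-- Riemann-Roch in the form `h⁰ - h¹ = deg + h⁰(O) - g`. -/
theorem riemann_roch (hdim : topologicalKrullDim X ≤ 1) {L : X.Modules} (hL : PicF.IsInvertible L) :
    (Module.finrank k (Coh.HH X L 0) : ℤ) - (Module.finrank k (Coh.HH X L 1) : ℤ) =
      Curv2.deg k X L 1 + (Module.finrank k (Coh.HH X (Coh.structureModule X) 0) : ℤ)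
        - (Curv2.genus k X : ℤ) := by
  rw [← euler_eq_h0_sub_h1 k hdim L (isCoh_of_isInvertible k hL).1, Curv2.deg,
    euler_structure k hdim]
  push_cast; ring

omit [IsProper (X ↘ Spec (CommRingCat.of k))] in
theorem deg_congr {E E' : X.Modules} (e : E ≅ E') (n : ℕ) :
    Curv2.deg k X E n = Curv2.deg k X E' n := by
  rw [Curv2.deg, Curv2.deg, euler_congr k X e]

omit [IsProper (X ↘ Spec (CommRingCat.of k))] in
theorem deg_structure : Curv2.deg k X (Coh.structureModule X) 1 = 0 := by
  simp [Curv2.deg]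

/-- The degree is additive on tensor products of invertible modules. -/
theorem deg_tensor (hdim : topologicalKrullDim X ≤ 1) {L N : X.Modules} (hL : PicF.IsInvertible L)
    (hN : PicF.IsInvertible N) :
    Curv2.deg k X (CohB1.tensorMod L N) 1 = Curv2.deg k X L 1 + Curv2.deg k X N 1 := by
  haveI := isLocallyNoetherian_of_proper k (X := X)
  have hlt : topologicalKrullDim (CohB1.support (Coh.structureModule X)) < (2 : ℕ) :=
    lt_of_le_of_lt ((Topology.IsInducing.subtypeVal.topologicalKrullDim_le).trans hdim)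
      (by exact_mod_cast Nat.lt_succ_self 1)
  have h := degLT_chiTwist k 2 (Coh.structureModule X) (isCoh_structureModule X) hlt
    ⟨L, hL⟩ ⟨N, hN⟩
  have h0 := congrFun (show diff (⟨N, hN⟩ : EulerLib.Inv X) (diff ⟨L, hL⟩ (chiTwist k (Coh.structureModule X))) = 0 from h)
    ⟨Coh.structureModule X, isInvertible_structureModule⟩
  have e : ∀ (M : EulerLib.Inv X), chiTwist k (Coh.structureModule X) M = Curv2.euler k X M.1 :=
    fun M => euler_congr k X (unitTensorIso M.1)
  simp only [diff, e, Pi.zero_apply] at h0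
  have e1 : CohB1.tensorMod L (CohB1.tensorMod N (Coh.structureModule X)) ≅ CohB1.tensorMod L N :=
    tensorIso (Iso.refl L) (tensorComm _ _ ≪≫ unitTensorIso N)
  have e2 : CohB1.tensorMod N (Coh.structureModule X) ≅ N := tensorComm _ _ ≪≫ unitTensorIso N
  have e3 : CohB1.tensorMod L (Coh.structureModule X) ≅ L := tensorComm _ _ ≪≫ unitTensorIso L
  simp only [EulerLib.Inv.mul] at h0
  rw [euler_congr k X e1, euler_congr k X e2, euler_congr k X e3] at h0
  simp only [Curv2.deg, Nat.cast_one, one_mul]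
  linarith

section Point

variable {P : X} (hP : IsClosed ({P} : Set X))

/-- `0 → L(-P) → L → L|_P → 0`. -/
noncomputable def ptSeq (L : X.Modules) : ShortComplex X.Modules :=
  twistSeq (ShortComplex.mk (ClSub.idealModι (ptIdeal P hP)) (ClSub.toSubscheme (ptIdeal P hP))
    (kernel.condition (ClSub.toSubscheme (ptIdeal P hP)))) L

variable {L : X.Modules} (hL : PicF.IsInvertible L)

include hL in
omit [IsProper (X ↘ Spec (CommRingCat.of k))] in
theorem shortExact_ptSeq : (ptSeq hP L).ShortExact :=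
  twistSeq_shortExact hL (shortExact_ideal _)

include k hL in
theorem isCoh_ptSeq : Coh.IsCoh (ptSeq hP L).X₁ ∧ Coh.IsCoh (ptSeq hP L).X₂ ∧ Coh.IsCoh (ptSeq hP L).X₃ := by
  haveI := isLocallyNoetherian_of_proper k (X := X)
  exact ⟨isCoh_twist hL (isCoh_idealMod' _), isCoh_twist hL (isCoh_structureModule X),
    isCoh_twist hL (isCoh_quotMod _)⟩

/-- `χ(L(-P)) = χ(L) - [κ(P) : k]`. -/
theorem euler_tensor_ptIdeal (hL : PicF.IsInvertible L) :
    letI := Curv2.resAlgebra k X P
    Curv2.euler k X (CohB1.tensorMod L (ClSub.idealMod (ptIdeal P hP))) =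
      Curv2.euler k X L - (Module.finrank k (X.residueField P) : ℤ) := by
  obtain ⟨h1, h2, h3⟩ := isCoh_ptSeq k hP hL
  have h := euler_additive k X (ptSeq hP L) (shortExact_ptSeq hP hL) h1 h2 h3
  have h0 : Curv2.euler k X (ptSeq hP L).X₂ = Curv2.euler k X L := euler_congr k X (unitTensorIso L)
  rw [h0] at h
  rw [euler_congr k X (tensorComm L (ClSub.idealMod (ptIdeal P hP)))]
  have h' := euler_twist_ptQuot hP k hL
  change Curv2.euler k X L = Curv2.euler k X (CohB1.tensorMod (ClSub.idealMod (ptIdeal P hP)) L) +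
    Curv2.euler k X (CohB1.tensorMod (ClSub.quotMod (ptIdeal P hP)) L) at h
  rw [h'] at h
  linarith

theorem deg_tensor_ptIdeal (hL : PicF.IsInvertible L) :
    letI := Curv2.resAlgebra k X P
    Curv2.deg k X (CohB1.tensorMod L (ClSub.idealMod (ptIdeal P hP))) 1 =
      Curv2.deg k X L 1 - (Module.finrank k (X.residueField P) : ℤ) := by
  simp only [Curv2.deg, euler_tensor_ptIdeal k hP hL]
  ring

theorem deg_ptIdeal :
    letI := Curv2.resAlgebra k X P
    Curv2.deg k X (ClSub.idealMod (ptIdeal P hP)) 1 = - (Module.finrank k (X.residueField P) : ℤ) := by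
  have h := deg_tensor_ptIdeal k hP (L := Coh.structureModule X) isInvertible_structureModule
  rw [deg_congr k (unitTensorIso (ClSub.idealMod (ptIdeal P hP))), deg_structure k] at h
  simpa using h

/-- `h⁰(L(-P)) ≤ h⁰(L) ≤ h⁰(L(-P)) + [κ(P) : k]`. -/
theorem h0_tensor_ptIdeal (hL : PicF.IsInvertible L) :
    letI := Curv2.resAlgebra k X P
    Module.finrank k (Coh.HH X (CohB1.tensorMod L (ClSub.idealMod (ptIdeal P hP))) 0) ≤
        Module.finrank k (Coh.HH X L 0) ∧
      Module.finrank k (Coh.HH X L 0) ≤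
        Module.finrank k (Coh.HH X (CohB1.tensorMod L (ClSub.idealMod (ptIdeal P hP))) 0) +
          Module.finrank k (X.residueField P) := by
  let _ := Curv2.resAlgebra k X P
  obtain ⟨h1, h2, h3⟩ := isCoh_ptSeq k hP hL
  have hS := shortExact_ptSeq hP hL
  rw [finrank_HH_congr k (tensorComm L (ClSub.idealMod (ptIdeal P hP))) 0,
    ← finrank_HH_congr k (unitTensorIso L : (ptSeq hP L).X₂ ≅ L) 0,
    ← finrank_HH_zero_twist_ptQuot hP k hL]
  change Module.finrank k (Coh.HH X (ptSeq hP L).X₁ 0) ≤ Module.finrank k (Coh.HH X (ptSeq hP L).X₂ 0) ∧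
    Module.finrank k (Coh.HH X (ptSeq hP L).X₂ 0) ≤
      Module.finrank k (Coh.HH X (ptSeq hP L).X₁ 0) + Module.finrank k (Coh.HH X (ptSeq hP L).X₃ 0)
  rw [(HHBaseEquiv k (ptSeq hP L).X₁ 0).finrank_eq, (HHBaseEquiv k (ptSeq hP L).X₂ 0).finrank_eq,
    (HHBaseEquiv k (ptSeq hP L).X₃ 0).finrank_eq]
  haveI := finCoh_of_isProper (X ↘ Spec (CommRingCat.of k)) _ h1 0
  haveI := finCoh_of_isProper (X ↘ Spec (CommRingCat.of k)) _ h2 0
  haveI := finCoh_of_isProper (X ↘ Spec (CommRingCat.of k)) _ h3 0
  have hex := exact_postA (baseHom k X) hS (⊤ : X.Opens) 0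
  have hinj := postA_zero_injective (baseHom k X) hS (⊤ : X.Opens)
  refine ⟨LinearMap.finrank_le_finrank_of_injective hinj, ?_⟩
  let g := postA (baseHom k X) (ptSeq hP L).g (⊤ : X.Opens) 0
  rw [← LinearMap.finrank_range_add_finrank_ker g, LinearMap.exact_iff.1 hex,
    LinearMap.finrank_range_of_inj hinj, add_comm]
  exact Nat.add_le_add_left (Submodule.finrank_le _) _

include k in
/-- `H¹(L(-P)) = 0` implies `H¹(L) = 0`. -/
theorem subsingleton_h1_of_tensor_ptIdeal (hL : PicF.IsInvertible L)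
    (h : Subsingleton (Coh.HH X (CohB1.tensorMod L (ClSub.idealMod (ptIdeal P hP))) 1)) :
    Subsingleton (Coh.HH X L 1) :=
  subsingleton_HH_congr (unitTensorIso L : (ptSeq hP L).X₂ ≅ L) 1
    (subsingleton_HH_X₂ (shortExact_ptSeq hP hL) 1
      (subsingleton_HH_congr (tensorComm L (ClSub.idealMod (ptIdeal P hP))) 1 h)
      (subsingleton_HH_twist_ptQuot hP k hL Nat.one_pos))

end Point

end Groth.Agent.CurveRR24
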