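import Groth.Agent.Coherent.FlatBaseChangeMain
import Groth.Agent.AmpleLib.Relative
import Groth.Agent.CurveRR24.RR
import Groth.Prelude.Def_CurvBase

/-!
# Cohomological invariants under extension of the base field
-/

set_option autoImplicit false
set_option linter.style.haveILetI false
set_option backward.isDefEq.respectTransparency.types false

universe u

open CategoryTheory CategoryTheory.Limits AlgebraicGeometry Opposite TopologicalSpace TensorProduct
open Groth.Agent.Coherent Groth.Agent.PicLib Groth.Agent.AmpleLib Groth.Agent.EulerLib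

namespace Groth.Agent.CurveRR24

variable {k K : Type u} [Field k] [Field K] [Algebra k K] {X X' : Scheme.{u}}
  [X.Over (Spec (CommRingCat.of k))] [X'.Over (Spec (CommRingCat.of K))]
  [CompactSpace X] [QuasiSeparatedSpace X] {g : X' ⟶ X}
  (h : IsPullback g (X' ↘ Spec (CommRingCat.of K)) (X ↘ Spec (CommRingCat.of k))
    (Spec.map (CommRingCat.ofHom (algebraMap k K))))
include h

theorem finrank_HH_bc (M : X.Modules) [Coh.IsQCoh M] (i : ℕ) :
    Module.finrank K (Coh.HH X' ((Scheme.Modules.pullback g).obj M) i) =
      Module.finrank k (Coh.HH X M i) := by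
  obtain ⟨e⟩ := nonempty_flat_base_change g M h i
  exact e.finrank_eq.symm.trans Module.finrank_baseChange

theorem finrank_HH_structure_bc (i : ℕ) :
    Module.finrank K (Coh.HH X' (Coh.structureModule X') i) =
      Module.finrank k (Coh.HH X (Coh.structureModule X) i) := by
  haveI : Coh.IsQCoh (Coh.structureModule X) := isQCoh_structureModule (X := X)
  obtain ⟨e⟩ := exists_pullStructureIso g (X := X)
  rw [← finrank_HH_bc h (Coh.structureModule X) i, finrank_HH_congr K e i]

theorem genus_bc : Curv2.genus K X' = Curv2.genus k X := finrank_HH_structure_bc h 1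

theorem euler_bc (M : X.Modules) [Coh.IsQCoh M] :
    Curv2.euler K X' ((Scheme.Modules.pullback g).obj M) = Curv2.euler k X M := by
  simp only [Curv2.euler, finrank_HH_bc h M]

theorem deg_bc (M : X.Modules) [Coh.IsQCoh M] (n : ℕ) :
    Curv2.deg K X' ((Scheme.Modules.pullback g).obj M) n = Curv2.deg k X M n := by
  rw [Curv2.deg, Curv2.deg, euler_bc h M]
  simp only [Curv2.euler, finrank_HH_structure_bc h]

end Groth.Agent.CurveRR24
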