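import Groth.Agent.CurveRR24.Section
import Groth.Agent.Coherent.AffinenessApps

/-!
# `H¹ ≠ 0` forces few sections: vanishing in degree above `2g - 2`

For an injection `M ⟶ L` into an invertible module on an integral curve, every nonzero section `s` of `M`
gives a surjection `H¹(O) → H¹(M)`; hence a nonzero functional on `H¹(M)` embeds `H⁰(M)` into `H¹(O)^∨`.
-/

set_option autoImplicit false
set_option linter.style.haveILetI false
set_option backward.isDefEq.respectTransparency.types false

universe u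

open CategoryTheory CategoryTheory.Limits AlgebraicGeometry Opposite TopologicalSpace
open Groth.Agent.Coherent Groth.Agent.PicLib Groth.Agent.AmpleLib Groth.Agent.EulerLib

namespace Groth.Agent.CurveRR24

variable {X : Scheme.{u}}

local notation "St" => DerSch.stalkFunctor X

theorem hom_ext_one {M : X.Modules} (f g : Coh.structureModule X ⟶ M)
    (h : ∀ V : X.Opens, f.app V (1 : Γ(X, V)) = g.app V (1 : Γ(X, V))) : f = g :=
  Scheme.Modules.hom_ext _ _ fun V => ConcreteCategory.hom_ext _ _ fun r => by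
    rw [app_unit, app_unit]
    exact congrArg ((show Γ(X, V) from r) • ·) (h V)

theorem unitDesc_comp {M N : X.Modules} (s : Γ(M, ⊤)) (ι : M ⟶ N) :
    unitDesc M s ≫ ι = unitDesc N (ι.app ⊤ s) := hom_ext_one _ _ fun V => by
  rw [Scheme.Modules.Hom.comp_app, ConcreteCategory.comp_apply, unitDesc_app, unitDesc_app, one_smul,
    one_smul, app_resM]

theorem unitDesc_add {M : X.Modules} (s t : Γ(M, ⊤)) :
    unitDesc M (s + t) = unitDesc M s + unitDesc M t := hom_ext_one _ _ fun V => by
  refine (unitDesc_app M (s + t) V 1).trans ?_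
  rw [one_smul, map_add]
  rw [Scheme.Modules.Hom.add_app]
  show _ = (unitDesc M s).app V (1 : Γ(X, V)) + (unitDesc M t).app V (1 : Γ(X, V))
  rw [unitDesc_app, unitDesc_app, one_smul, one_smul]

theorem unitDesc_smul {M : X.Modules} (r : Γ(X, ⊤)) (s : Γ(M, ⊤)) :
    unitDesc M (r • s) = unitDesc (Coh.structureModule X) r ≫ unitDesc M s := hom_ext_one _ _ fun V => by
  rw [Scheme.Modules.Hom.comp_app, ConcreteCategory.comp_apply, unitDesc_app, one_smul, unitDesc_app]
  show _ = (unitDesc M s).app V ((1 : Γ(X, V)) * res (le_top : V ≤ ⊤) r)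
  rw [one_mul, unitDesc_app, resM_smul]

theorem toAb_map_unitDesc_structure (r : Γ(X, ⊤)) :
    (toAbFunctor X).map (unitDesc (Coh.structureModule X) r) = smulEndAb (Coh.structureModule X) r := by
  ext U m
  refine (unitDesc_app (Coh.structureModule X) r U.unop m).trans ?_
  refine Eq.trans ?_ (smulEndAb_app (Coh.structureModule X) r U.unop m).symm
  show (show Γ(X, U.unop) from m) * res (le_top : U.unop ≤ ⊤) r = res (le_top : U.unop ≤ ⊤) r * (show Γ(X, U.unop) from m)
  exact mul_comm _ _

theorem mono_unitDesc_of_mono [IsIntegral X] {M L : X.Modules} (hL : PicF.IsInvertible L) (ι : M ⟶ L)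
    [Mono ι] {s : Γ(M, ⊤)} (hs : s ≠ 0) : Mono (unitDesc M s) := by
  haveI : Mono (unitDesc M s ≫ ι) := by
    rw [unitDesc_comp]
    exact mono_unitDesc hL fun h => hs (app_injective_of_mono ι ⊤ (h.trans (map_zero _).symm))
  exact mono_of_mono (unitDesc M s) ι

theorem support_cokernel_unitDesc_of_mono {M L : X.Modules} (ι : M ⟶ L) [Mono ι] (s : Γ(M, ⊤)) :
    CohB1.support (cokernel (unitDesc M s)) ⊆ (glocus L (ι.app ⊤ s) : Set X)ᶜ := by
  intro z hz hzU
  refine hz (subsingleton_of_forall_eq 0 fun a => ?_)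
  obtain ⟨w, rfl⟩ := (ModuleCat.epi_iff_surjective ((St z).map (cokernel.π (unitDesc M s)))).1 inferInstance a
  obtain ⟨V, hV, t, ht⟩ := TopCat.Presheaf.exists_germ_eq M.presheaf w
  let V' : X.Opens := V ⊓ glocus L (ι.app ⊤ s)
  obtain ⟨c, hc⟩ := (isGen_glocus (L := L) (ι.app ⊤ s) V' inf_le_right).2
    (ι.app V' (resM M inf_le_left t))
  beta_reduce at hc
  rw [resM_resM, ← app_resM, ← Scheme.Modules.Hom.app_smul] at hc
  have hc' := app_injective_of_mono ι V' hc
  rw [← ht, stalk_map_germ]
  have h1 : (cokernel.π (unitDesc M s)).app V' (resM M inf_le_left t) = 0 := by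
    rw [← hc', ← unitDesc_app M s V' c]
    exact sections_zero (S := ShortComplex.mk (unitDesc M s) (cokernel.π _) (cokernel.condition _)) _ c
  rw [app_resM] at h1
  refine ((TopCat.Presheaf.germ_res_apply (cokernel (unitDesc M s)).presheaf
    (homOfLE (inf_le_left : V' ≤ V)) z ⟨hV, hzU⟩ _).symm.trans ?_)
  exact (congrArg ((cokernel (unitDesc M s)).presheaf.germ V' z ⟨hV, hzU⟩) h1).trans (map_zero _)

variable (k : Type u) [Field k] [X.Over (Spec (CommRingCat.of k))]
  [IsProper (X ↘ Spec (CommRingCat.of k))] [IsIntegral X]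

include k in
/-- Closed subsets of a curve missing the generic point are finite sets of closed points. -/
theorem closed_small (hdim : topologicalKrullDim X ≤ 1) {T : Set X} (hT : IsClosed T)
    (hη : genericPoint X ∉ T) :
    T.Finite ∧ (∀ t ∈ T, IsClosed ({t} : Set X)) ∧ topologicalKrullDim T < ((1 : ℕ) : WithBot ℕ∞) := by
  haveI := isNoetherian_of_proper k (X := X)
  have huniv : closure ({genericPoint X} : Set X) = Set.univ := genericPoint_spec X
  have hTc : ∀ t ∈ T, IsClosed ({t} : Set X) := fun t ht =>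
    ((CurvesLib24.eq_genericPoint_or_isClosed hdim t).resolve_left fun h => hη (h ▸ ht))
  refine ⟨?_, hTc, dim_lt_of_notMem hT (Set.subset_univ _) isClosed_univ huniv hη
    ((Topology.IsInducing.subtypeVal.topologicalKrullDim_le).trans (by exact_mod_cast hdim))⟩
  obtain ⟨S, hSf, hSc, hSi, hTS⟩ := NoetherianSpace.exists_finite_set_isClosed_irreducible hT
  rw [hTS]
  refine hSf.sUnion fun C hC => ?_
  have hsub : C ⊆ T := hTS ▸ Set.subset_sUnion_of_mem hC
  obtain ⟨c, hc⟩ := QuasiSober.sober (hSi C hC) (hSc C hC)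
  have hcC : c ∈ C := by rw [← hc]; exact subset_closure rfl
  rw [← hc, (hTc c (hsub hcC)).closure_eq]
  exact Set.finite_singleton c

include k in
theorem subsingleton_HH_of_small (hdim : topologicalKrullDim X ≤ 1) {Q : X.Modules} (hQ : Coh.IsQCoh Q)
    {T : Set X} (hT : IsClosed T) (hη : genericPoint X ∉ T) (hQT : CohB1.support Q ⊆ T) {q : ℕ}
    (hq : 0 < q) : Subsingleton (Coh.HH X Q q) := by
  haveI := isNoetherian_of_proper k (X := X)
  haveI : X.IsSeparated := ⟨by rw [← terminal.comp_from (X ↘ Spec (CommRingCat.of k))]; infer_instance⟩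
  exact subsingleton_HH_of_support (X := X) ⟨T, hT⟩ Q hQ hQT q
    (lt_of_lt_of_le (closed_small k hdim hT hη).2.2 (by exact_mod_cast hq))

include k in
/-- A nonzero section gives a surjection on `H¹`. -/
theorem postA_unitDesc_surjective (hdim : topologicalKrullDim X ≤ 1) {M L : X.Modules} (hM : Coh.IsCoh M)
    (hL : PicF.IsInvertible L) (ι : M ⟶ L) [Mono ι] {s : Γ(M, ⊤)} (hs : s ≠ 0) :
    Function.Surjective (postA (baseHom k X) (unitDesc M s) (⊤ : X.Opens) 1) := by
  haveI := isLocallyNoetherian_of_proper k (X := X)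
  haveI := mono_unitDesc_of_mono hL ι hs
  have hQ : Coh.IsCoh (cokernel (unitDesc M s)) := isCoh_cokernel _ (isCoh_structureModule X).1 hM
  let S := ShortComplex.mk (unitDesc M s) (cokernel.π _) (cokernel.condition _)
  have hS : S.ShortExact := { exact := ShortComplex.exact_of_g_is_cokernel _ (cokernelIsCokernel _) }
  have hη : genericPoint X ∉ (glocus L (ι.app ⊤ s) : Set X)ᶜ := fun h => h
    (genericPoint_mem_glocus hL fun h0 => hs (app_injective_of_mono ι ⊤ (h0.trans (map_zero _).symm)))
  have h1 := subsingleton_HH_of_small k hdim hQ.1 (glocus L (ι.app ⊤ s)).2.isClosed_compl hη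
    (support_cokernel_unitDesc_of_mono ι s) Nat.one_pos
  haveI : Subsingleton (HA (baseHom k X) S.X₃ (⊤ : X.Opens) 1) :=
    haveI := h1
    (HHBaseEquiv k (cokernel (unitDesc M s)) 1).symm.toEquiv.subsingleton
  exact fun x => (exact_postA (baseHom k X) hS (⊤ : X.Opens) 1 x).1 (Subsingleton.elim _ _)

/-- If `H¹(M) ≠ 0` then `h⁰(M) ≤ g`. -/
theorem h0_le_genus_of_h1 (hdim : topologicalKrullDim X ≤ 1) {M L : X.Modules} (hM : Coh.IsCoh M)
    (hL : PicF.IsInvertible L) (ι : M ⟶ L) [Mono ι] (h1 : Nontrivial (Coh.HH X M 1)) :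
    Module.finrank k (Coh.HH X M 0) ≤ Curv2.genus k X := by
  haveI := isLocallyNoetherian_of_proper k (X := X)
  let φ := baseHom k X
  haveI := finCoh_of_isProper (X ↘ Spec (CommRingCat.of k)) _ (isCoh_structureModule X) 1
  haveI : Nontrivial (HA φ M (⊤ : X.Opens) 1) := (HHBaseEquiv k M 1).symm.toEquiv.nontrivial
  obtain ⟨v, hv⟩ := exists_ne (0 : HA φ M (⊤ : X.Opens) 1)
  obtain ⟨l, hl⟩ : ∃ l : Module.Dual k (HA φ M (⊤ : X.Opens) 1), l v ≠ 0 := by
    by_contra h
    push Not at h
    exact hv ((Module.forall_dual_apply_eq_zero_iff k v).1 h)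
  let Ψ : GA φ M →ₗ[k] Module.Dual k (HA φ (Coh.structureModule X) (⊤ : X.Opens) 1) :=
    { toFun := fun s => l.comp (postA φ (unitDesc M (show Γ(M, ⊤) from s)) (⊤ : X.Opens) 1)
      map_add' := fun s t => by
        refine LinearMap.ext fun x => ?_
        show l (postHM (unitDesc M ((show Γ(M, ⊤) from s) + (show Γ(M, ⊤) from t))) 1 ⊤ x) = _
        rw [unitDesc_add]
        exact (congrArg l (postHM_add _ _ 1 (⊤ : X.Opens) x)).trans (map_add l _ _)
      map_smul' := fun c s => by
        refine LinearMap.ext fun x => ?_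
        show l (postHM (unitDesc M (φ c • (show Γ(M, ⊤) from s))) 1 ⊤ x) =
          c • l (postHM (unitDesc M (show Γ(M, ⊤) from s)) 1 ⊤ x)
        rw [unitDesc_smul, ← map_smul]
        refine congrArg l ?_
        have hcomp : postHM (unitDesc (Coh.structureModule X) (φ c) ≫ unitDesc M (show Γ(M, ⊤) from s)) 1 ⊤ x =
            postHM (unitDesc M (show Γ(M, ⊤) from s)) 1 ⊤
              (postHM (unitDesc (Coh.structureModule X) (φ c)) 1 ⊤ x) :=
          postHM_comp _ _ 1 (⊤ : X.Opens) x
        have h2 : postHM (unitDesc (Coh.structureModule X) (φ c)) 1 ⊤ x =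
            postH (X := X.toTopCat) (smulEndAb (Coh.structureModule X) (φ c)) 1 ⊤ x := by
          rw [← toAb_map_unitDesc_structure]; rfl
        rw [hcomp, h2]
        exact (postA φ (unitDesc M (show Γ(M, ⊤) from s)) ⊤ 1).map_smul c x }
  have hinj : Function.Injective Ψ := by
    refine (injective_iff_map_eq_zero Ψ).2 fun s hs => ?_
    by_contra hne
    obtain ⟨x, rfl⟩ := postA_unitDesc_surjective k hdim hM hL ι (s := (show Γ(M, ⊤) from s)) hne v
    exact hl (LinearMap.congr_fun hs x)
  rw [finrank_GA_eq k M, Curv2.genus, (HHBaseEquiv k (Coh.structureModule X) 1).finrank_eq]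
  refine le_trans ?_ (Subspace.dual_finrank_eq (K := k) (V := HA φ (Coh.structureModule X) (⊤ : X.Opens) 1)).le
  exact LinearMap.finrank_le_finrank_of_injective (f := Ψ) hinj

end Groth.Agent.CurveRR24
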