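import Groth.Agent.CurveRR24.DegOneIso
import Groth.Agent.CurveRR24.BCField
import Groth.Agent.VarietyLib.Dual
import Groth.Agent.PicLib.PicMonoid
import Groth.Agent.Coherent.ProjSpaceCoh
import Groth.Agent.CurvesLib24.Basic

/-!
# Consequences of the degree one criterion
-/

set_option autoImplicit false
set_option linter.style.haveILetI false
set_option backward.isDefEq.respectTransparency.types false
set_option maxHeartbeats 1000000

universe u

open CategoryTheory CategoryTheory.Limits AlgebraicGeometry Opposite TopologicalSpace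
open Groth.Agent.Coherent Groth.Agent.PicLib Groth.Agent.AmpleLib Groth.Agent.EulerLib

namespace Groth.Agent.CurveRR24

variable (k : Type u) [Field k]

theorem finrank_projLine_structure :
    Module.finrank k (Coh.HH (CohB1.ProjSpace 1 k) (Coh.structureModule (CohB1.ProjSpace 1 k)) 0) = 1 := by
  let P := CohB1.ProjSpace 1 k
  haveI := isIso_appTop_toSpec (n := 1) (R := k)
  let φ := baseHom k P
  have hφ : Function.Bijective φ :=
    (ConcreteCategory.bijective_of_isIso (CohB1.ProjSpace.toSpec 1 k).appTop).comp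
      (ConcreteCategory.bijective_of_isIso (Scheme.ΓSpecIso (CommRingCat.of k)).inv)
  let e : k ≃ₗ[k] GA φ (Coh.structureModule P) :=
    { toFun := fun c => φ c
      map_add' := fun a b => map_add φ a b
      map_smul' := fun c a => map_mul φ c a
      invFun := (Equiv.ofBijective φ hφ).symm
      left_inv := (Equiv.ofBijective φ hφ).left_inv
      right_inv := (Equiv.ofBijective φ hφ).right_inv }
  rw [(hhZero k (Coh.structureModule P)).finrank_eq]
  exact e.finrank_eq.symm.trans (Module.finrank_self k)

theorem finrank_projLine_twist_one :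
    Module.finrank k (Coh.HH (CohB1.ProjSpace 1 k) (Twist.twistProjSpace 1 k 1) 0) = 2 := by
  classical
  obtain ⟨e⟩ := nonempty_HH_zero_twist (n := 1) (R := k) 1
  let g0 : Fin (1 + 1) → {μ : Fin (1 + 1) →₀ ℕ // μ.degree = 1} := fun i =>
    ⟨Finsupp.single i 1, Finsupp.degree_single i 1⟩
  have hg : Function.Bijective g0 := by
    refine ⟨fun a b h => Finsupp.single_left_injective one_ne_zero (congrArg Subtype.val h), fun μ => ?_⟩
    have h2 : μ.1 0 + μ.1 1 = 1 := by
      have h := μ.2
      rw [Finsupp.degree_eq_sum, Fin.sum_univ_two] at h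
      exact h
    rcases Nat.eq_zero_or_pos (μ.1 0) with h | h
    · refine ⟨1, Subtype.ext (Finsupp.ext fun i => ?_)⟩
      fin_cases i <;> simp [g0] <;> omega
    · refine ⟨0, Subtype.ext (Finsupp.ext fun i => ?_)⟩
      fin_cases i <;> simp [g0] <;> omega
  obtain ⟨p⟩ := nonempty_equiv_homogeneous (R := k) 1 (Equiv.ofBijective g0 hg)
  have h := e.finrank_eq.trans p.finrank_eq.symm
  rw [(Finsupp.linearEquivFunOnFinite k k (Fin (1 + 1))).finrank_eq, Module.finrank_fin_fun] at h
  exact h

variable {X : Scheme.{u}} [X.Over (Spec (CommRingCat.of k))] [IsProper (X ↘ Spec (CommRingCat.of k))]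

include k in
omit [IsProper (X ↘ Spec (CommRingCat.of k))] in
theorem exists_inverse {L : X.Modules} (hL : PicF.IsInvertible L) :
    ∃ M : X.Modules, PicF.IsInvertible M ∧ Nonempty (CohB1.tensorMod L M ≅ Coh.structureModule X) := by
  obtain ⟨M, ⟨e⟩⟩ := VarietyLib.exists_isInverseOf hL
  exact ⟨M, PicM.isInvertible_of_tensor hL (glocus_isInvertible_of_iso e.symm isInvertible_structureModule), ⟨e⟩⟩

theorem deg_inverse (hdim : topologicalKrullDim X ≤ 1) {L M : X.Modules} (hL : PicF.IsInvertible L)
    (hM : PicF.IsInvertible M) (e : CohB1.tensorMod L M ≅ Coh.structureModule X) :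
    Curv2.deg k X M 1 = - Curv2.deg k X L 1 := by
  have h := deg_tensor k hdim hL hM
  rw [deg_congr k e, deg_structure] at h
  omega

variable [IsIntegral X]

theorem exists_iso_projLine_of_h1 (hdim : topologicalKrullDim X = 1)
    (h1 : Subsingleton (Coh.HH X (Coh.structureModule X) 1))
    {L : X.Modules} (hL : PicF.IsInvertible L) (hdeg : Curv2.deg k X L 1 = 1) :
    ∃ e : X ≅ CohB1.ProjSpace 1 k, e.hom ≫ CohB1.ProjSpace.toSpec 1 k = X ↘ (Spec (CommRingCat.of k)) := by
  haveI := isNoetherian_of_proper k (X := X)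
  refine exists_iso_projLine k hdim hL hdeg ?_
  have hrr := riemann_roch k hdim.le hL
  have hg : Curv2.genus k X = 0 := Module.finrank_zero_of_subsingleton
  haveI := finite_HH_of_isCoh k (isCoh_structureModule X) 0
  haveI : Nontrivial (GA (baseHom k X) (Coh.structureModule X)) := inferInstanceAs (Nontrivial Γ(X, ⊤))
  haveI : Nontrivial (Coh.HH X (Coh.structureModule X) 0) := (hhZero k _).toEquiv.nontrivial
  have hpos : 0 < Module.finrank k (Coh.HH X (Coh.structureModule X) 0) := Module.finrank_pos
  rw [hdeg, hg] at hrr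
  omega

omit [IsProper (X ↘ Spec (CommRingCat.of k))] [IsIntegral X] in
/-- The line has a degree one invertible module with two sections. -/
theorem exists_deg_one_of_iso (e : X ≅ CohB1.ProjSpace 1 k)
    (he : e.hom ≫ CohB1.ProjSpace.toSpec 1 k = X ↘ (Spec (CommRingCat.of k))) :
    ∃ L : X.Modules, PicF.IsInvertible L ∧ Curv2.deg k X L 1 = 1 ∧ 2 ≤ Module.finrank k (Coh.HH X L 0) := by
  haveI : IsProper (CohB1.ProjSpace.toSpec 1 k) := CurveLib.isProper_projSpace k 1
  haveI : IsProper ((CohB1.ProjSpace 1 k) ↘ Spec (CommRingCat.of k)) :=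
    inferInstanceAs (IsProper (CohB1.ProjSpace.toSpec 1 k))
  haveI := isNoetherian_of_proper k (X := CohB1.ProjSpace 1 k)
  have hpb : IsPullback e.hom (X ↘ Spec (CommRingCat.of k))
      ((CohB1.ProjSpace 1 k) ↘ Spec (CommRingCat.of k))
      (Spec.map (CommRingCat.ofHom (algebraMap k k))) := by
    rw [show CommRingCat.ofHom (algebraMap k k) = 𝟙 _ from rfl, Spec.map_id]
    exact IsPullback.of_horiz_isIso ⟨by rw [Category.comp_id]; exact he⟩
  have hgen := UPLib.adjoin_one_eq_top (UPLib.linForm_mem (R := k) 1) (UPLib.isSymmetricAlgebra_linForm 1)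
  have hT : PicF.IsInvertible (Twist.twistProjSpace 1 k 1) :=
    TwistLib.G.isInvertible_twist (UPLib.exists_degOne hgen) ((1 : ℕ) : ℤ)
  haveI := isQCoh_of_isInvertible hT
  refine ⟨(Scheme.Modules.pullback e.hom).obj (Twist.twistProjSpace 1 k 1), PicLoc.isInvertible_pullback e.hom hT,
    ?_, ?_⟩
  · rw [deg_bc hpb]
    have hO := isQCoh_structureModule (X := CohB1.ProjSpace 1 k)
    have h1 : Curv2.euler k _ (Twist.twistProjSpace 1 k 1) = 2 := by
      rw [euler_eq_sum k _ _ 0 (fun q hq => subsingleton_HH_twist (R := k) (n := 1) (d := 1) q (by omega) (by omega))]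
      simp [finrank_projLine_twist_one]
    have h2 : Curv2.euler k _ (Coh.structureModule (CohB1.ProjSpace 1 k)) = 1 := by
      rw [euler_eq_sum k _ _ 0 (fun q hq => subsingleton_HH_structureModule (R := k) (n := 1) q hq)]
      simp [finrank_projLine_structure]
    simp [Curv2.deg, h1, h2]
  · rw [finrank_HH_bc hpb, finrank_projLine_twist_one]

end Groth.Agent.CurveRR24
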