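import Groth.Agent.CurveRR24.GG
import Groth.Agent.AbSchLib.GlobalSections
import Mathlib.LinearAlgebra.Eigenspace.Triangularizable

/-!
# Curves over algebraically closed fields: `h⁰(O) = 1`, degree one residue fields
-/

set_option autoImplicit false
set_option linter.style.haveILetI false
set_option backward.isDefEq.respectTransparency.types false

universe u

open CategoryTheory CategoryTheory.Limits AlgebraicGeometry Opposite TopologicalSpace
open Groth.Agent.Coherent Groth.Agent.PicLib Groth.Agent.AmpleLib Groth.Agent.EulerLib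

namespace Groth.Agent.CurveRR24

variable {X : Scheme.{u}} (k : Type u) [Field k] [IsAlgClosed k] [X.Over (Spec (CommRingCat.of k))]
  [IsProper (X ↘ Spec (CommRingCat.of k))]

theorem h0_structure [IsReduced X] [ConnectedSpace X] :
    Module.finrank k (Coh.HH X (Coh.structureModule X) 0) = 1 := by
  rw [(hhZero k (Coh.structureModule X)).finrank_eq]
  let F : k →ₗ[k] GA (baseHom k X) (Coh.structureModule X) :=
    { toFun := fun c => (show Γ(Coh.structureModule X, ⊤) from baseHom k X c)
      map_add' := fun a b => map_add (baseHom k X) a b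
      map_smul' := fun a b => map_mul (baseHom k X) a b }
  have hsurj : Function.Surjective F := by
    intro y
    obtain ⟨x, hx⟩ := AbSchLib.surjective_appTop_of_isAlgClosed k (X ↘ Spec (CommRingCat.of k))
      (show Γ(X, ⊤) from y)
    obtain ⟨c, rfl⟩ := (ConcreteCategory.bijective_of_isIso (Scheme.ΓSpecIso (CommRingCat.of k)).inv).2 x
    exact ⟨c, hx⟩
  haveI : Nonempty (⊤ : X.Opens) := ⟨⟨Classical.arbitrary X, trivial⟩⟩
  have hinj : Function.Injective F := fun a b h => (baseHom k X).injective h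
  exact (LinearEquiv.ofBijective F ⟨hinj, hsurj⟩).finrank_eq.symm.trans (Module.finrank_self k)

theorem finrank_resField {P : X} (hP : IsClosed ({P} : Set X)) :
    letI := Curv2.resAlgebra k X P
    Module.finrank k (X.residueField P) = 1 := by
  let _ := Curv2.resAlgebra k X P
  haveI := finite_resField hP k
  have hb := IsAlgClosed.algebraMap_bijective_of_isIntegral (k := k) (K := X.residueField P)
  exact (LinearEquiv.ofBijective (Algebra.linearMap k (X.residueField P)) hb).finrank_eq.symm.trans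
    (Module.finrank_self k)

omit [IsAlgClosed k] in
/-- A section generating at `P` is not a section of `L(-P)`. -/
theorem h0_ne_of_mem_glocus {P : X} (hP : IsClosed ({P} : Set X)) {L : X.Modules}
    (hL : PicF.IsInvertible L) {s : Γ(L, ⊤)} (hs : P ∈ glocus L s) :
    Module.finrank k (Coh.HH X (CohB1.tensorMod L (ClSub.idealMod (ptIdeal P hP))) 0) ≠
      Module.finrank k (Coh.HH X L 0) := by
  intro he
  rw [finrank_HH_congr k (tensorComm L (ClSub.idealMod (ptIdeal P hP))) 0,
    ← finrank_HH_congr k (unitTensorIso L : (ptSeq hP L).X₂ ≅ L) 0] at he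
  change Module.finrank k (Coh.HH X (ptSeq hP L).X₁ 0) = Module.finrank k (Coh.HH X (ptSeq hP L).X₂ 0) at he
  rw [(HHBaseEquiv k (ptSeq hP L).X₁ 0).finrank_eq, (HHBaseEquiv k (ptSeq hP L).X₂ 0).finrank_eq] at he
  obtain ⟨h1, h2, -⟩ := isCoh_ptSeq k hP hL
  haveI := finCoh_of_isProper (X ↘ Spec (CommRingCat.of k)) _ h1 0
  haveI := finCoh_of_isProper (X ↘ Spec (CommRingCat.of k)) _ h2 0
  have hinj := postA_zero_injective (baseHom k X) (shortExact_ptSeq hP hL) (⊤ : X.Opens)
  obtain ⟨z, hz⟩ := (LinearMap.injective_iff_surjective_of_finrank_eq_finrank he).1 hinj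
    ((secA (baseHom k X) (ptSeq hP L).X₂).symm ((unitTensorIso L).inv.app ⊤ s))
  have h3 : (ptSeq hP L).f.app ⊤ (secA (baseHom k X) (ptSeq hP L).X₁ z) = (unitTensorIso L).inv.app ⊤ s := by
    have := congrArg (secA (baseHom k X) (ptSeq hP L).X₂) hz
    rw [secA_natural, LinearEquiv.apply_symm_apply] at this
    exact this
  have h4 : (twistMul (ptIdeal P hP) L).app ⊤ (secA (baseHom k X) (ptSeq hP L).X₁ z) = s := by
    show (unitTensorIso L).hom.app ⊤ ((ptSeq hP L).f.app ⊤ (secA (baseHom k X) (ptSeq hP L).X₁ z)) = s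
    rw [h3]
    exact congrArg (fun φ => φ.app ⊤ s) (unitTensorIso L).inv_hom_id
  have h5 := glocus_twistMul_le (ptIdeal P hP) hL (secA (baseHom k X) (ptSeq hP L).X₁ z)
  rw [h4] at h5
  exact h5 hs ((support_ptIdeal hP).ge rfl)

/-- On an irrational integral curve over an algebraically closed field, `h⁰ ≤ deg` in positive degree. -/
theorem h0_le_deg [IsIntegral X] (hdim : topologicalKrullDim X ≤ 1) (hg : 1 ≤ Curv2.genus k X)
    {L : X.Modules} (hL : PicF.IsInvertible L) (hdeg : 0 < Curv2.deg k X L 1) :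
    (Module.finrank k (Coh.HH X L 0) : ℤ) ≤ Curv2.deg k X L 1 := by
  haveI := isLocallyNoetherian_of_proper k (X := X)
  by_contra hlt
  rw [not_le] at hlt
  let φ := baseHom k X
  have h0 := h0_structure k (X := X)
  have hpos : 0 < Module.finrank k (Coh.HH X L 0) := by omega
  obtain ⟨-, -, hle⟩ := deg_nonneg_of_section k hdim hL (Module.nontrivial_of_finrank_pos hpos)
  rw [h0] at hle
  have hrr := riemann_roch k hdim hL
  rw [h0] at hrr
  have hh1 : Module.finrank k (Coh.HH X L 1) = Curv2.genus k X := by omega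
  have hLc := isCoh_of_isInvertible k hL
  haveI := finCoh_of_isProper (X ↘ Spec (CommRingCat.of k)) _ (isCoh_structureModule X) 1
  haveI := finCoh_of_isProper (X ↘ Spec (CommRingCat.of k)) _ hLc 1
  haveI := finCoh_of_isProper (X ↘ Spec (CommRingCat.of k)) _ hLc 0
  haveI : Module.Finite k (GA φ L) := Module.Finite.equiv (secA φ L)
  have hdims : Module.finrank k (HA φ (Coh.structureModule X) (⊤ : X.Opens) 1) =
      Module.finrank k (HA φ L (⊤ : X.Opens) 1) := by
    rw [← (HHBaseEquiv k (Coh.structureModule X) 1).finrank_eq, ← (HHBaseEquiv k L 1).finrank_eq, hh1]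
    rfl
  let f : Γ(L, ⊤) → (HA φ (Coh.structureModule X) (⊤ : X.Opens) 1 →ₗ[k] HA φ L (⊤ : X.Opens) 1) :=
    fun s => postA φ (unitDesc L s) (⊤ : X.Opens) 1
  have hbij : ∀ s : Γ(L, ⊤), s ≠ 0 → Function.Bijective (f s) := fun s hs =>
    have hsurj := postA_unitDesc_surjective k hdim hLc hL (𝟙 L) hs
    ⟨(LinearMap.injective_iff_surjective_of_finrank_eq_finrank hdims).2 hsurj, hsurj⟩
  haveI : Nontrivial (GA φ L) := Module.nontrivial_of_finrank_pos (R := k)
    (by rw [← finrank_GA_eq k L]; exact hpos)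
  obtain ⟨a, ha⟩ := exists_ne (0 : GA φ L)
  obtain ⟨b, hb⟩ : ∃ b : GA φ L, ∀ c : k, c • a ≠ b := by
    by_contra h
    push Not at h
    have := finrank_le_one a h
    rw [← finrank_GA_eq k L] at this
    omega
  haveI : Nontrivial (HA φ (Coh.structureModule X) (⊤ : X.Opens) 1) := Module.nontrivial_of_finrank_pos (R := k)
    (by rw [← (HHBaseEquiv k (Coh.structureModule X) 1).finrank_eq]; exact hg)
  let A := LinearEquiv.ofBijective (f (show Γ(L, ⊤) from a)) (hbij _ ha)
  obtain ⟨c, hc⟩ := Module.End.exists_eigenvalue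
    ((A.symm.toLinearMap.comp (f (show Γ(L, ⊤) from b))) : Module.End k (HA φ (Coh.structureModule X) (⊤ : X.Opens) 1))
  obtain ⟨v, hv⟩ := hc.exists_hasEigenvector
  have hbv : f (show Γ(L, ⊤) from b) v = c • f (show Γ(L, ⊤) from a) v := by
    have := congrArg A hv.apply_eq_smul
    simp only [LinearMap.comp_apply, LinearEquiv.coe_coe, LinearEquiv.apply_symm_apply, map_smul] at this
    exact this
  have hne : (show Γ(L, ⊤) from (b - c • a)) ≠ 0 := fun h => hb c (sub_eq_zero.1 h).symm
  refine hv.2 ((hbij _ hne).1 (Eq.trans ?_ (map_zero _).symm))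
  have hsub : f (show Γ(L, ⊤) from (b - c • a)) v =
      f (show Γ(L, ⊤) from b) v - c • f (show Γ(L, ⊤) from a) v := by
    have hadd : f (show Γ(L, ⊤) from (b - c • a)) v + f (show Γ(L, ⊤) from (c • a)) v =
        f (show Γ(L, ⊤) from b) v := by
      show postHM (unitDesc L (show Γ(L, ⊤) from (b - c • a))) 1 ⊤ v +
        postHM (unitDesc L (show Γ(L, ⊤) from (c • a))) 1 ⊤ v = postHM (unitDesc L (show Γ(L, ⊤) from b)) 1 ⊤ v
      refine (postHM_add _ _ 1 (⊤ : X.Opens) v).symm.trans ?_
      rw [← unitDesc_add]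
      refine congrArg (fun z => postHM (unitDesc L z) 1 ⊤ v) ?_
      exact sub_add_cancel b (c • a)
    have hsm : f (show Γ(L, ⊤) from (c • a)) v = c • f (show Γ(L, ⊤) from a) v := by
      show postHM (unitDesc L (φ c • (show Γ(L, ⊤) from a))) 1 ⊤ v = _
      rw [unitDesc_smul]
      refine (postHM_comp _ _ 1 (⊤ : X.Opens) v).trans ?_
      refine Eq.trans ?_ ((f (show Γ(L, ⊤) from a)).map_smul c v)
      refine congrArg (postHM (unitDesc L (show Γ(L, ⊤) from a)) 1 ⊤) ?_
      show postH (X := X.toTopCat) ((toAbFunctor X).map (unitDesc (Coh.structureModule X) (φ c))) 1 ⊤ v = _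
      rw [toAb_map_unitDesc_structure]; rfl
    rw [← hadd, hsm, add_sub_cancel_right]
  rw [hsub, hbv, sub_self]

end Groth.Agent.CurveRR24
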