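import Groth.Agent.CurveRR24.DegOneApps

/-!
# The group of degrees of invertible modules
-/

set_option autoImplicit false
set_option linter.style.haveILetI false
set_option backward.isDefEq.respectTransparency.types false

universe u

open CategoryTheory CategoryTheory.Limits AlgebraicGeometry Opposite TopologicalSpace
open Groth.Agent.Coherent Groth.Agent.PicLib Groth.Agent.AmpleLib Groth.Agent.EulerLib

namespace Groth.Agent.CurveRR24

variable (k : Type u) [Field k] {X : Scheme.{u}} [X.Over (Spec (CommRingCat.of k))]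
  [IsProper (X ↘ Spec (CommRingCat.of k))]

/-- The degrees of invertible modules. -/
noncomputable def degGroup (hdim : topologicalKrullDim X ≤ 1) : AddSubgroup ℤ where
  carrier := {d | ∃ L : X.Modules, PicF.IsInvertible L ∧ Curv2.deg k X L 1 = d}
  add_mem' := by
    rintro _ _ ⟨L, hL, rfl⟩ ⟨M, hM, rfl⟩
    exact ⟨_, isInvertible_tensorMod hL hM, deg_tensor k hdim hL hM⟩
  zero_mem' := ⟨_, isInvertible_structureModule, deg_structure k⟩
  neg_mem' := by
    rintro _ ⟨L, hL, rfl⟩
    obtain ⟨M, hM, ⟨e⟩⟩ := exists_inverse k hL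
    exact ⟨M, hM, deg_inverse k hdim hL hM e⟩

theorem finsetGcd_mem (H : AddSubgroup ℤ) {α : Type*} [DecidableEq α] (s : Finset α) (f : α → ℕ)
    (h : ∀ a ∈ s, (f a : ℤ) ∈ H) : ((s.gcd f : ℕ) : ℤ) ∈ H := by
  induction s using Finset.induction_on with
  | empty => simp
  | insert a s ha ih =>
    rw [Finset.gcd_insert]
    show (((f a).gcd (s.gcd f) : ℕ) : ℤ) ∈ H
    rw [Nat.gcd_eq_gcd_ab]
    refine H.add_mem ?_ ?_
    · rw [mul_comm, ← smul_eq_mul]
      exact H.zsmul_mem (h a (Finset.mem_insert_self a s)) _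
    · rw [mul_comm, ← smul_eq_mul]
      exact H.zsmul_mem (ih fun b hb => h b (Finset.mem_insert_of_mem hb)) _

include k in
theorem isInvertible_ptIdeal_of_normal [IsIntegral X] (hdim : topologicalKrullDim X = 1) {P : X}
    (hP : IsClosed ({P} : Set X)) (hn : IsIntegrallyClosed (X.presheaf.stalk P)) :
    PicF.IsInvertible (ClSub.idealMod (ptIdeal P hP)) := by
  haveI := isLocallyNoetherian_of_proper k (X := X)
  haveI := CurvesLib24.isPrincipalIdealRing_stalk hdim.le P hn
  haveI : IsDiscreteValuationRing (X.presheaf.stalk P) :=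
    { not_a_field' := fun h => by
        have h1 := stalk_dim_eq_one hdim hP
        rw [ringKrullDim_eq_zero_of_isField (IsLocalRing.isField_iff_maximalIdeal_eq.2 h)] at h1
        exact zero_ne_one h1 }
  exact isInvertible_ptIdeal_of_dvr hP

theorem deg_mem_degGroup [IsIntegral X] (hdim : topologicalKrullDim X = 1) {P : X}
    (hP : IsClosed ({P} : Set X)) (hn : IsIntegrallyClosed (X.presheaf.stalk P)) :
    letI := Curv2.resAlgebra k X P
    (Module.finrank k (X.residueField P) : ℤ) ∈ degGroup k hdim.le := by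
  let _ := Curv2.resAlgebra k X P
  rw [← neg_neg (Module.finrank k (X.residueField P) : ℤ)]
  exact (degGroup k hdim.le).neg_mem ⟨_, isInvertible_ptIdeal_of_normal k hdim hP hn, deg_ptIdeal k hP⟩

end Groth.Agent.CurveRR24
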