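import Groth.Agent.EmbLib24.Criterion
import Groth.Agent.Coherent.ProjSpaceBase
import Groth.Agent.AmpleLib.GenLocus

/-!
# Base change of a morphism to projective space given by sections
-/

set_option autoImplicit false
set_option linter.style.haveILetI false
set_option backward.isDefEq.respectTransparency.types false
set_option maxHeartbeats 1000000

universe u

open CategoryTheory CategoryTheory.Limits AlgebraicGeometry Opposite TopologicalSpace
open HomogeneousLocalization
open Groth.Agent.Coherent Groth.Agent.PicLib Groth.Agent.AmpleLib Groth.Agent.EmbLib24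

attribute [local instance] MvPolynomial.algebraMvPolynomial

namespace Groth.Agent.CurveRR24

variable {k K : Type u} [Field k] [Field K] [Algebra k K] {n : ℕ}

/-- `P^n_K → P^n_k`. -/
noncomputable abbrev projBC (k K : Type u) [Field k] [Field K] [Algebra k K] (n : ℕ) :
    CohB1.ProjSpace n K ⟶ CohB1.ProjSpace n k :=
  Proj.map (polyGradedMap n k K) (polyGradedMap_irrelevant n k K)

theorem polyGradedMap_X (j : Fin (n + 1)) :
    polyGradedMap n k K (MvPolynomial.X j) = MvPolynomial.X j :=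
  MvPolynomial.map_X _ _

theorem projBC_preimage_chart (j : Fin (n + 1)) : projBC k K n ⁻¹ᵁ chart n k j = chart n K j :=
  (Proj.map_preimage_basicOpen _ _ _).trans (congrArg (Proj.basicOpen _) (polyGradedMap_X j))

theorem mk_congr {A σ : Type u} [CommRing A] [SetLike σ A] [AddSubgroupClass σ A] {𝒜 : ℕ → σ} [GradedRing 𝒜]
    (Y : Scheme.{u}) (e : Proj 𝒜 = Y) {s s' : A} (hs : s ∈ 𝒜 1) (hs' : s' ∈ 𝒜 1) (h : s = s') {a a' : A}
    (ha : a ∈ 𝒜 (1 • 1)) (ha' : a' ∈ 𝒜 (1 • 1)) (h' : a = a') {W : (Proj 𝒜).Opens}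
    (e₁ : W ≤ Proj.basicOpen 𝒜 s) (e₂ : W ≤ Proj.basicOpen 𝒜 s') :
    (Proj 𝒜).presheaf.map (homOfLE e₁).op ((Proj.awayToSection 𝒜 s).hom (Away.mk 𝒜 hs 1 a ha)) =
      (Proj 𝒜).presheaf.map (homOfLE e₂).op ((Proj.awayToSection 𝒜 s').hom (Away.mk 𝒜 hs' 1 a' ha')) := by
  subst h h'
  rfl

theorem appLE_coordFun_bc (j i : Fin (n + 1)) :
    (projBC k K n).appLE (chart n k j) (chart n K j) (projBC_preimage_chart j).ge (coordFun n k j i) =
      coordFun n K j i := by
  have h := ConcreteCategory.congr_hom (Proj.awayToSection_comp_appLE (polyGradedMap n k K)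
    (polyGradedMap_irrelevant n k K) (s := MvPolynomial.X j) (MvPolynomial.isHomogeneous_X k j)) (coordFrac n k j i)
  rw [ConcreteCategory.comp_apply, ConcreteCategory.comp_apply, coordFrac] at h
  erw [Away.map_mk] at h
  have hle : chart n K j ≤ Proj.basicOpen (CohB1.polyGrading n K) (polyGradedMap n k K (MvPolynomial.X j)) :=
    le_of_eq (congrArg (Proj.basicOpen _) (polyGradedMap_X j).symm)
  have h2 := congrArg ((CohB1.ProjSpace n K).presheaf.map (homOfLE hle).op) h
  have h3 := ConcreteCategory.congr_hom (Scheme.Hom.appLE_map (projBC k K n) (U := chart n k j)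
    (V := Proj.basicOpen (CohB1.polyGrading n K) (polyGradedMap n k K (MvPolynomial.X j))) le_rfl (homOfLE hle).op)
    (coordFun n k j i)
  refine h3.symm.trans (h2.trans ?_)
  refine (mk_congr (𝒜 := CohB1.polyGrading n K) _ rfl _ (MvPolynomial.isHomogeneous_X K j) (polyGradedMap_X j)
    _ (by simpa using MvPolynomial.isHomogeneous_X K i) (polyGradedMap_X i) hle le_rfl).trans ?_
  exact congr($((CohB1.ProjSpace n K).presheaf.map_id (op (chart n K j))) _)

variable {X X' : Scheme.{u}} {pX : X ⟶ Spec (CommRingCat.of k)} {pX' : X' ⟶ Spec (CommRingCat.of K)}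
  (g : X' ⟶ X)

/-- Equality of two morphisms to projective space, tested on coordinates. -/
theorem eq_of_coords {q : X' ⟶ Spec (CommRingCat.of k)} (a b : X' ⟶ CohB1.ProjSpace n k)
    (ha : a ≫ CohB1.ProjSpace.toSpec n k = q) (hb : b ≫ CohB1.ProjSpace.toSpec n k = q)
    (hpre : ∀ j, a ⁻¹ᵁ chart n k j = b ⁻¹ᵁ chart n k j)
    (hc : ∀ j i, a.appLE (chart n k j) (a ⁻¹ᵁ chart n k j) le_rfl (coordFun n k j i) =
      b.appLE (chart n k j) (a ⁻¹ᵁ chart n k j) (hpre j).le (coordFun n k j i)) : a = b := by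
  have hcov : IsOpenCover (fun j => a ⁻¹ᵁ chart n k j) := eq_top_iff.2 fun x _ => by
    obtain ⟨j, hj⟩ := exists_chart_mem (a x)
    exact Opens.mem_iSup.2 ⟨j, hj⟩
  refine (X'.openCoverOfIsOpenCover _ hcov).hom_ext _ _ fun j => ?_
  show (a ⁻¹ᵁ chart n k j).ι ≫ a = (a ⁻¹ᵁ chart n k j).ι ≫ b
  refine (UPLib.ι_comp_eq (MvPolynomial.isHomogeneous_X k j) one_pos a _ le_rfl).trans ?_
  refine Eq.trans ?_ (UPLib.ι_comp_eq (MvPolynomial.isHomogeneous_X k j) one_pos b _ (hpre j).le).symm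
  congr 2
  refine congrArg _ (CommRingCat.hom_ext (away_hom_ext n k j (fun c => ?_) fun i => hc j i))
  show a.appLE _ _ _ (Proj.awayToSection _ _ (awayConst n k j c)) =
    b.appLE _ _ _ (Proj.awayToSection _ _ (awayConst n k j c))
  rw [awayToSection_const]
  exact (appLE_gl ha _ c).trans (appLE_gl hb _ c).symm

/-- The morphism given by the pulled back sections is the base change. -/
theorem comp_projBC_eq (hg : g ≫ pX = pX' ≫ Spec.map (CommRingCat.ofHom (algebraMap k K)))
    {L : X.Modules} (hL : PicF.IsInvertible L)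
    {r : X ⟶ CohB1.ProjSpace n k} (hr : r ≫ CohB1.ProjSpace.toSpec n k = pX) (τ : pbO r ≅ L)
    {r' : X' ⟶ CohB1.ProjSpace n K} (hr' : r' ≫ CohB1.ProjSpace.toSpec n K = pX')
    (τ' : pbO r' ≅ (Scheme.Modules.pullback g).obj L)
    (hτ : ∀ i, τ'.hom.app ⊤ (sig r' i) = PicLib.pullSec g (τ.hom.app ⊤ (sig r i))) :
    r' ≫ projBC k K n = g ≫ r := by
  let L' := (Scheme.Modules.pullback g).obj L
  have hpre0 : ∀ j, r' ⁻¹ᵁ chart n K j = g ⁻¹ᵁ (r ⁻¹ᵁ chart n k j) := fun j => by
    rw [preimage_chart r' j, ← glocus_map_iso τ' (sig r' j), hτ j]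
    refine (glocus_pullSec g hL _).trans ?_
    rw [glocus_map_iso, ← preimage_chart r j]
  have hpre : ∀ j, (r' ≫ projBC k K n) ⁻¹ᵁ chart n k j = (g ≫ r) ⁻¹ᵁ chart n k j := fun j => by
    rw [Scheme.Hom.comp_preimage, Scheme.Hom.comp_preimage, projBC_preimage_chart, hpre0]
  refine eq_of_coords (q := g ≫ pX) _ _ ?_ (by rw [Category.assoc, hr]) hpre fun j i => ?_
  · refine (Category.assoc _ _ _).trans ((congrArg (r' ≫ ·) (isPullback_projSpace n k K).w).trans ?_)
    refine (Category.assoc _ _ _).symm.trans ?_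
    rw [hr', hg]
  have hW1 : (r' ≫ projBC k K n) ⁻¹ᵁ chart n k j ≤ r' ⁻¹ᵁ chart n K j := by
    rw [Scheme.Hom.comp_preimage, projBC_preimage_chart]
  let W := (r' ≫ projBC k K n) ⁻¹ᵁ chart n k j
  have hgenW : IsGen L' W (resM L' le_top (τ'.hom.app ⊤ (sig r' j))) := by
    refine (le_glocus_iff _ _).1 (hW1.trans ?_)
    rw [glocus_map_iso, preimage_chart r' j]
  have e1 : (r' ≫ projBC k K n).appLE (chart n k j) W le_rfl (coordFun n k j i) =
      r'.appLE (chart n K j) W hW1 (coordFun n K j i) := by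
    rw [← appLE_coordFun_bc (k := k) (K := K) j i, ← ConcreteCategory.comp_apply, Scheme.Hom.appLE_comp_appLE]
  refine (hgenW W le_rfl).1 ?_
  beta_reduce
  rw [resM_self, e1]
  have hA := congrArg (τ'.hom.app W) (appLE_coordFun_smul r' j i W hW1)
  rw [Scheme.Modules.Hom.app_smul, app_resM, app_resM] at hA
  refine hA.trans ?_
  let V := r ⁻¹ᵁ chart n k j
  have hWV : W ≤ g ⁻¹ᵁ V := by
    rw [← hpre0]; exact hW1
  have hB0 := congrArg (τ.hom.app V) (appLE_coordFun_smul r j i V le_rfl)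
  rw [Scheme.Modules.Hom.app_smul, app_resM, app_resM] at hB0
  have hB := congrArg (fun z => resM L' hWV (PicLib.pullSec g z)) hB0
  beta_reduce at hB
  rw [pullSec_smul, resM_smul, ← resM_pullSec, ← resM_pullSec, resM_resM, resM_resM, ← hτ, ← hτ] at hB
  refine Eq.trans hB.symm (congrArg (fun b : Γ(X', W) => b • _) ?_)
  show (g.app V ≫ X'.presheaf.map (homOfLE hWV).op) (r.appLE (chart n k j) V le_rfl (coordFun n k j i)) = _
  rw [← ConcreteCategory.comp_apply, ← Scheme.Hom.appLE, Scheme.Hom.appLE_comp_appLE]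

end Groth.Agent.CurveRR24
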