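import Groth.Agent.CurveRR24.RatPoint
import Groth.Agent.NeronLib.SepPoints
import Groth.Agent.Et18.SepPointOpen
import Groth.Agent.VarietyLib.SmoothStalk
import Mathlib.AlgebraicGeometry.Geometrically.Reduced

/-!
# Smooth points of geometrically reduced schemes over a field
-/

set_option autoImplicit false
set_option linter.style.haveILetI false
set_option backward.isDefEq.respectTransparency.types false

universe u

open CategoryTheory CategoryTheory.Limits AlgebraicGeometry Opposite TopologicalSpace
open scoped TensorProduct

namespace Groth.Agent.CurveRR24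

/-- A geometrically reduced domain of finite type over a field is smooth near the generic point. -/
theorem exists_away_isStandardSmooth (k A : Type u) [Field k] [CommRing A] [IsDomain A] [Algebra k A]
    [Algebra.FiniteType k A] [Algebra.IsGeometricallyReduced k A] :
    ∃ g : A, g ≠ 0 ∧ Algebra.IsStandardSmooth k (Localization.Away g) := by
  have : Algebra.FinitePresentation k A := Algebra.FinitePresentation.of_finiteType.mp ‹_›
  let p : Ideal A := ⊥
  have : p.IsPrime := Ideal.isPrime_bot
  have hp : p ∈ minimalPrimes A := by rw [IsDomain.minimalPrimes_eq_singleton_bot]; exact rfl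
  let L := Localization.AtPrime p
  have : IsReduced L := isReduced_localizationPreserves p.primeCompl L inferInstance
  have : Ring.KrullDimLE 0 L := .of_isLocalization _ hp _
  have hfield : IsField L := Ring.KrullDimLE.isField_of_isReduced
  let : Field L := hfield.toField
  have : Algebra.IsGeometricallyReduced k L := by
    rw [Algebra.isGeometricallyReduced_field_iff]
    let : Algebra (AlgebraicClosure k ⊗[k] A) (AlgebraicClosure k ⊗[k] L) :=
      (Algebra.TensorProduct.map (AlgHom.id (AlgebraicClosure k) (AlgebraicClosure k))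
        (IsScalarTower.toAlgHom k A L)).toAlgebra
    have : IsScalarTower (AlgebraicClosure k) (AlgebraicClosure k ⊗[k] A) (AlgebraicClosure k ⊗[k] L) :=
      .of_algebraMap_eq fun x => by simp [RingHom.algebraMap_toAlgebra]
    have hloc := IsLocalization.tensorProduct_tensorProduct_right k (AlgebraicClosure k) p.primeCompl L
      (by ext x; simp [RingHom.algebraMap_toAlgebra])
    have hA : IsReduced (AlgebraicClosure k ⊗[k] A) := (Algebra.isGeometricallyReduced_field_iff k A).mp ‹_›
    exact isReduced_localizationPreserves (p.primeCompl.map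
      (Algebra.TensorProduct.includeRight (R := k) (A := AlgebraicClosure k))) (AlgebraicClosure k ⊗[k] L) hA
  have : Algebra.IsSmoothAt k p :=
    (EGA41Lib.formallySmooth_iff_isGeometricallyReduced_field k L).mpr this
  obtain ⟨g, hgp, hg⟩ := Algebra.IsSmoothAt.exists_notMem_isStandardSmooth k p
  exact ⟨g, hgp, hg⟩

/-- A geometrically reduced integral scheme of finite type over a separably closed field has a rational
point at which the local ring is regular. -/
theorem exists_section_regular {k : Type u} [Field k] [IsSepClosed k] {X : Scheme.{u}}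
    (q : X ⟶ Spec (CommRingCat.of k)) [LocallyOfFiniteType q] [GeometricallyReduced q] [IsIntegral X] :
    ∃ s : Spec (CommRingCat.of k) ⟶ X, s ≫ q = 𝟙 _ ∧ ∀ pt, IsRegularLocalRing (X.presheaf.stalk (s pt)) := by
  obtain ⟨x⟩ := (inferInstance : Nonempty X)
  obtain ⟨_, ⟨V, hV, rfl⟩, hxV, -⟩ := X.isBasis_affineOpens.exists_subset_of_mem_open (Set.mem_univ x) isOpen_univ
  haveI : Nonempty V := ⟨⟨x, hxV⟩⟩
  let A := Γ(X, V)
  obtain ⟨φ, hφ⟩ := Spec.map_surjective (hV.fromSpec ≫ q)
  let _ : Algebra k A := φ.hom.toAlgebra
  have hSp : Spec.map (CommRingCat.ofHom (algebraMap k A)) = hV.fromSpec ≫ q := hφ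
  haveI : Algebra.FiniteType k A := by
    have h : LocallyOfFiniteType (Spec.map φ) := by rw [hφ]; infer_instance
    exact (HasRingHomProperty.Spec_iff (P := @LocallyOfFiniteType)).1 h
  haveI : Algebra.IsGeometricallyReduced k A := by
    rw [Algebra.isGeometricallyReduced_field_iff]
    let K := AlgebraicClosure k
    let g := Spec.map (CommRingCat.ofHom (algebraMap k K))
    haveI : IsReduced (pullback q g) := GeometricallyReduced.geometrically_isReduced _ _ _ (.of_hasPullback _ _)
    let e : pullback (hV.fromSpec ≫ q) g ≅ Spec (CommRingCat.of (A ⊗[k] K)) :=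
      pullback.congrHom hSp.symm rfl ≪≫ pullbackSpecIso k A K
    let m : pullback (hV.fromSpec ≫ q) g ⟶ pullback q g :=
      pullback.map _ _ _ _ hV.fromSpec (𝟙 _) (𝟙 _) (by simp) (by simp)
    haveI : IsReduced (pullback (hV.fromSpec ≫ q) g) := isReduced_of_isOpenImmersion m
    haveI : IsReduced (Spec (CommRingCat.of (A ⊗[k] K))) := isReduced_of_isOpenImmersion e.inv
    haveI : _root_.IsReduced (A ⊗[k] K) := (affine_isReduced_iff (CommRingCat.of (A ⊗[k] K))).1 inferInstance
    exact isReduced_of_injective (Algebra.TensorProduct.comm k K A).toRingHom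
      (Algebra.TensorProduct.comm k K A).injective
  obtain ⟨g, hg0, hstd⟩ := exists_away_isStandardSmooth k A
  let B := Localization.Away g
  let j : Spec (CommRingCat.of B) ⟶ X := Spec.map (CommRingCat.ofHom (algebraMap A B)) ≫ hV.fromSpec
  haveI : IsOpenImmersion (Spec.map (CommRingCat.ofHom (algebraMap A B))) :=
    IsOpenImmersion.of_isLocalization g
  haveI : Smooth (j ≫ q) := by
    have h : j ≫ q = Spec.map (CommRingCat.ofHom (algebraMap k B)) := by
      rw [Category.assoc, ← hSp, ← Spec.map_comp, ← CommRingCat.ofHom_comp, ← IsScalarTower.algebraMap_eq]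
    rw [h, HasRingHomProperty.Spec_iff (P := @Smooth), CommRingCat.hom_ofHom, RingHom.smooth_algebraMap]
    infer_instance
  haveI : Nontrivial B := (IsLocalization.injective B (powers_le_nonZeroDivisors_of_noZeroDivisors hg0)).nontrivial
  obtain ⟨w⟩ : Nonempty (Spec (CommRingCat.of B)) := inferInstanceAs (Nonempty (PrimeSpectrum B))
  obtain ⟨t, ht, -⟩ := Et18.SepPointOpen.exists_point_mem (j ≫ q) ⊤ w trivial
  refine ⟨t ≫ j, by rw [Category.assoc, ht], fun pt => ?_⟩
  haveI := VarietyLib.isRegularLocalRing_stalk_of_smooth k _ (j ≫ q) (t pt)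
  exact IsRegularLocalRing.of_ringEquiv (asIso (j.stalkMap (t pt))).symm.commRingCatIsoToRingEquiv

end Groth.Agent.CurveRR24
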