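import Groth.Agent.CurveRR24.DegGroup
import Groth.Agent.Props12.KerReduced
import Groth.Agent.Props12.Components

/-!
# Rational points of curves
-/

set_option autoImplicit false
set_option linter.style.haveILetI false
set_option backward.isDefEq.respectTransparency.types false

universe u

open CategoryTheory CategoryTheory.Limits AlgebraicGeometry Opposite TopologicalSpace
open Groth.Agent.Coherent Groth.Agent.PicLib Groth.Agent.AmpleLib Groth.Agent.EulerLib

namespace Groth.Agent.CurveRR24

theorem isIntegral_of_normal_connected {k : Type u} [Field k] {X : Scheme.{u}}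
    (f : X ⟶ Spec (CommRingCat.of k)) [LocallyOfFiniteType f] [QuasiCompact f] [ConnectedSpace X]
    (hN : Pi1.IsNormalScheme X) : IsIntegral X := by
  have hd : ∀ x : X, IsDomain (X.presheaf.stalk x) := fun x => (hN x).1
  haveI := hd
  haveI : IsReduced X := isReduced_of_isReduced_stalk X
  have : IsLocallyNoetherian X := LocallyOfFiniteType.isLocallyNoetherian f
  have : CompactSpace X := QuasiCompact.compactSpace_of_compactSpace f
  have : IsNoetherian X := {}
  obtain ⟨x⟩ := (inferInstance : Nonempty X)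
  have ho : IsOpen (irreducibleComponent x) :=
    Props12.isOpen_component hd (fun y => ⟨⊤, trivial, (NoetherianSpace.finite_irreducibleComponents).subset fun C hC => hC.1⟩)
      (irreducibleComponent_mem_irreducibleComponents x)
  have hc : IsClopen (irreducibleComponent x) := ⟨isClosed_irreducibleComponent, ho⟩
  rcases isClopen_iff.1 hc with h | h
  · exact absurd (mem_irreducibleComponent (x := x)) (h ▸ Set.notMem_empty x)
  have : IrreducibleSpace X := by
    rw [irreducibleSpace_def, Set.top_eq_univ, ← h]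
    exact isIrreducible_irreducibleComponent
  exact isIntegral_of_irreducibleSpace_of_isReduced X

variable {k : Type u} [Field k] {X : Scheme.{u}} [X.Over (Spec (CommRingCat.of k))]
  [IsProper (X ↘ Spec (CommRingCat.of k))] (s : Spec (CommRingCat.of k) ⟶ X)

omit [X.Over (Spec (CommRingCat.of k))] [IsProper (X ↘ Spec (CommRingCat.of k))] in
theorem range_section (pt : Spec (CommRingCat.of k)) : Set.range s = {s pt} := by
  refine Set.eq_singleton_iff_unique_mem.2 ⟨⟨pt, rfl⟩, ?_⟩
  rintro _ ⟨q, rfl⟩
  exact congrArg s (Subsingleton.elim (α := PrimeSpectrum k) q pt)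

variable (hs : s ≫ (X ↘ Spec (CommRingCat.of k)) = 𝟙 _)
include hs

theorem isClosed_section_point (pt : Spec (CommRingCat.of k)) : IsClosed ({s pt} : Set X) := by
  haveI : IsClosedImmersion (s ≫ (X ↘ Spec (CommRingCat.of k))) := by rw [hs]; infer_instance
  haveI : IsClosedImmersion s := IsClosedImmersion.of_comp s (X ↘ Spec (CommRingCat.of k))
  rw [← range_section s pt]
  exact s.isClosedEmbedding.isClosed_range

theorem ker_section (pt : Spec (CommRingCat.of k)) :
    s.ker = ptIdeal (s pt) (isClosed_section_point s hs pt) := by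
  rw [Props12.ker_eq_vanishingIdeal]
  refine congrArg _ (Closeds.ext ?_)
  show closure (Set.range s) = _
  rw [range_section s pt, (isClosed_section_point s hs pt).closure_eq]
  rfl

omit [IsProper (X ↘ Spec (CommRingCat.of k))] in
theorem finrank_resField_section (pt : Spec (CommRingCat.of k)) :
    letI := Curv2.resAlgebra k X (s pt)
    Module.finrank k (X.residueField (s pt)) = 1 := by
  let _ := Curv2.resAlgebra k X (s pt)
  let S := Spec (CommRingCat.of k)
  let ρ : k → S.residueField pt := fun c =>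
    S.residue pt (S.presheaf.germ ⊤ pt trivial ((Scheme.ΓSpecIso (CommRingCat.of k)).inv c))
  have hρ : Function.Surjective ρ := fun v => by
    obtain ⟨w, rfl⟩ := S.residue_surjective pt v
    obtain ⟨U, hU, a, rfl⟩ := TopCat.Presheaf.exists_germ_eq S.presheaf w
    obtain rfl : U = ⊤ := top_le_iff.1 fun q _ => (Subsingleton.elim (α := PrimeSpectrum k) pt q) ▸ hU
    obtain ⟨c, rfl⟩ := (ConcreteCategory.bijective_of_isIso (Scheme.ΓSpecIso (CommRingCat.of k)).inv).2 a
    exact ⟨c, rfl⟩
  have hcomp : ∀ c, s.residueFieldMap pt (Curv2.resMap k X (s pt) c) = ρ c := fun c => by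
    show (X.residue (s pt) ≫ s.residueFieldMap pt) _ = _
    rw [Scheme.residue_residueFieldMap, ConcreteCategory.comp_apply]
    refine congrArg _ ?_
    show s.stalkMap pt (X.presheaf.germ ⊤ (s pt) trivial _) = _
    rw [Scheme.Hom.germ_stalkMap_apply]
    show S.presheaf.germ ⊤ pt trivial (((X ↘ S).appTop ≫ s.appTop) _) = _
    rw [← Scheme.Hom.comp_appTop, hs, Scheme.Hom.id_appTop]
    rfl
  have hinj : Function.Injective (s.residueFieldMap pt) := (s.residueFieldMap pt).hom.injective
  have hsur : Function.Surjective (algebraMap k (X.residueField (s pt))) := fun v => by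
    obtain ⟨c, hc⟩ := hρ (s.residueFieldMap pt v)
    exact ⟨c, hinj ((hcomp c).trans hc)⟩
  exact (LinearEquiv.ofBijective (Algebra.linearMap k (X.residueField (s pt)))
    ⟨(algebraMap k _).injective, hsur⟩).finrank_eq.symm.trans (Module.finrank_self k)

omit hs in
/-- Linearly equivalent rational points give the line. -/
theorem exists_iso_projLine_of_linEquiv [IsIntegral X] (hdim : topologicalKrullDim X = 1)
    (hN : Pi1.IsNormalScheme X) (x y : Spec (CommRingCat.of k) ⟶ X)
    (hx : x ≫ (X ↘ Spec (CommRingCat.of k)) = 𝟙 _) (hy : y ≫ (X ↘ Spec (CommRingCat.of k)) = 𝟙 _)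
    (hxy : x ≠ y) (hlin : Nonempty (ClSub.idealMod x.ker ≅ ClSub.idealMod y.ker)) :
    ∃ e : X ≅ CohB1.ProjSpace 1 k, e.hom ≫ CohB1.ProjSpace.toSpec 1 k = X ↘ (Spec (CommRingCat.of k)) := by
  haveI := isNoetherian_of_proper k (X := X)
  obtain ⟨pt⟩ : Nonempty (Spec (CommRingCat.of k)) := inferInstanceAs (Nonempty (PrimeSpectrum k))
  let P := x pt
  let Q := y pt
  have hP := isClosed_section_point x hx pt
  have hQ := isClosed_section_point y hy pt
  rw [ker_section x hx pt, ker_section y hy pt] at hlin
  obtain ⟨φ⟩ := hlin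
  have hPQ : P ≠ Q := fun h => hxy (ext_of_point x y hx hy pt h)
  have hI := isInvertible_ptIdeal_of_normal k hdim hP (hN P).2
  obtain ⟨L, hL, ⟨e⟩⟩ := exists_inverse k hI
  have hdeg : Curv2.deg k X L 1 = 1 := by
    rw [deg_inverse k hdim.le hI hL e, deg_ptIdeal k hP]
    rw [finrank_resField_section x hx pt]
    norm_num
  refine exists_iso_projLine k hdim hL hdeg ?_
  let e' : CohB1.tensorMod (ClSub.idealMod (ptIdeal Q hQ)) L ≅ Coh.structureModule X :=
    tensorIso φ.symm (Iso.refl L) ≪≫ e
  let one : Γ(Coh.structureModule X, ⊤) := oneSec ⊤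
  let z₁ := e.inv.app ⊤ one
  let z₂ := e'.inv.app ⊤ one
  let s₁ := (twistMul (ptIdeal P hP) L).app ⊤ z₁
  let s₂ := (twistMul (ptIdeal Q hQ) L).app ⊤ z₂
  have hone : ∀ w : X, w ∈ glocus (Coh.structureModule X) one := fun w => by
    have h : (⊤ : X.Opens) ≤ glocus (Coh.structureModule X) one := by
      refine (le_glocus_iff one ⊤).2 ?_
      rw [resM_self]
      exact isGen_oneSec ⊤
    exact h trivial
  have h1P : P ∉ glocus L s₁ := fun h =>
    glocus_twistMul_le (ptIdeal P hP) hL z₁ h ((support_ptIdeal hP).ge rfl)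
  have h1Q : Q ∈ glocus L s₁ := by
    refine mem_glocus_twistMul hL z₁ (fun h => hPQ ((support_ptIdeal hP).le h).symm) ?_
    rw [show z₁ = e.symm.hom.app ⊤ one from rfl, glocus_map_iso]
    exact hone Q
  have h2Q : Q ∉ glocus L s₂ := fun h =>
    glocus_twistMul_le (ptIdeal Q hQ) hL z₂ h ((support_ptIdeal hQ).ge rfl)
  have h2P : P ∈ glocus L s₂ := by
    refine mem_glocus_twistMul hL z₂ (fun h => hPQ ((support_ptIdeal hQ).le h)) ?_
    rw [show z₂ = e'.symm.hom.app ⊤ one from rfl, glocus_map_iso]
    exact hone P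
  let φb := baseHom k X
  haveI : Module.Finite k (GA φb L) := by
    haveI := finite_HH_of_isCoh k (isCoh_of_isInvertible k hL) 0
    exact Module.Finite.equiv (hhZero k L)
  rw [finrank_GA_eq k]
  have hzero : ∀ w : X, w ∉ glocus L (0 : Γ(L, ⊤)) := fun w h =>
    (mem_glocus_iff_germ hL 0 w).1 h (by rw [map_zero]; exact Submodule.zero_mem _)
  let u₁ : GA φb L := s₁
  let u₂ : GA φb L := s₂
  have hind : LinearIndependent k (M := GA φb L) ![u₁, u₂] := by
    have hne₁ : u₁ ≠ 0 := fun h => hzero Q ((show s₁ = (0 : Γ(L, ⊤)) from h) ▸ h1Q)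
    refine (LinearIndependent.pair_iff' hne₁).2 fun a ha => ?_
    have h : φb a • s₁ = s₂ := ha
    rcases eq_or_ne a 0 with rfl | hne
    · rw [map_zero, zero_smul] at h
      exact hzero P (h ▸ h2P)
    · rw [← h, glocus_smul_eq hL, X.basicOpen_of_isUnit ((isUnit_iff_ne_zero.2 hne).map φb)] at h2P
      exact h1P h2P.1
  simpa using hind.fintype_card_le_finrank
where
  ext_of_point (x y : Spec (CommRingCat.of k) ⟶ X) (hx : x ≫ (X ↘ Spec (CommRingCat.of k)) = 𝟙 _)
      (hy : y ≫ (X ↘ Spec (CommRingCat.of k)) = 𝟙 _) (pt : Spec (CommRingCat.of k)) (h : x pt = y pt) : x = y := by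
    haveI : IsClosedImmersion (x ≫ (X ↘ Spec (CommRingCat.of k))) := by rw [hx]; infer_instance
    haveI : IsClosedImmersion x := IsClosedImmersion.of_comp x (X ↘ Spec (CommRingCat.of k))
    have hk : x.ker ≤ y.ker := by
      rw [ker_section x hx pt, ker_section y hy pt]
      refine le_of_eq ?_
      congr 1
    obtain ⟨t, ht⟩ := IsClosedImmersion.lift_fac x y hk |> fun h => (⟨_, h⟩ : ∃ t, t ≫ x = y)
    have h2 : t = 𝟙 _ := by
      have h3 := congrArg (· ≫ (X ↘ Spec (CommRingCat.of k))) ht
      beta_reduce at h3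
      rw [Category.assoc, hx, hy, Category.comp_id] at h3
      exact h3
    rw [← ht, h2, Category.id_comp]

end Groth.Agent.CurveRR24
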