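import Groth.Agent.CurveRR24.VeryAmpleField
import Groth.Agent.CurveRR24.SmoothPoint
import Groth.Agent.CurveRR24.DegGroup
import Groth.Agent.S14512
import Mathlib.AlgebraicGeometry.Morphisms.LocalFlatDescent

/-!
# Geometrically integral curves of genus zero
-/

set_option autoImplicit false
set_option linter.style.haveILetI false
set_option backward.isDefEq.respectTransparency.types false
set_option maxHeartbeats 800000

universe u

open CategoryTheory CategoryTheory.Limits AlgebraicGeometry Opposite TopologicalSpace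
open Groth.Agent.Coherent Groth.Agent.PicLib Groth.Agent.AmpleLib Groth.Agent.EulerLib

namespace Groth.Agent.CurveRR24

variable (k : Type u) [Field k] {X : Scheme.{u}} [X.Over (Spec (CommRingCat.of k))]
  [IsProper (X ↘ Spec (CommRingCat.of k))]

theorem h0_structure_of_geomIntegral [GeometricallyIntegral (X ↘ Spec (CommRingCat.of k))] :
    Module.finrank k (Coh.HH X (Coh.structureModule X) 0) = 1 := by
  let q := X ↘ Spec (CommRingCat.of k)
  let K := AlgebraicClosure k
  let X' := pullback q (Spec.map (CommRingCat.ofHom (algebraMap k K)))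
  let g : X' ⟶ X := pullback.fst _ _
  let _ : X'.Over (Spec (CommRingCat.of K)) := ⟨pullback.snd _ _⟩
  let q' := X' ↘ Spec (CommRingCat.of K)
  have hpb : IsPullback g q' q (Spec.map (CommRingCat.ofHom (algebraMap k K))) :=
    IsPullback.of_hasPullback _ _
  haveI : IsProper q' := inferInstanceAs (IsProper (pullback.snd q (Spec.map (CommRingCat.ofHom (algebraMap k K)))))
  haveI : IsIntegral X' := GeometricallyIntegral.geometrically_isIntegral (f := q)
    (Spec.map (CommRingCat.ofHom (algebraMap k K))) g q' hpb
  haveI := isNoetherian_of_proper k (X := X)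
  haveI := isNoetherian_of_proper K (X := X')
  rw [← finrank_HH_structure_bc hpb 0]
  exact h0_structure K

theorem smooth_of_genus_zero [GeometricallyIntegral (X ↘ Spec (CommRingCat.of k))]
    (hdim : topologicalKrullDim X = 1) (hg : Curv2.genus k X = 0) : Smooth (X ↘ Spec (CommRingCat.of k)) := by
  let q := X ↘ Spec (CommRingCat.of k)
  let K := AlgebraicClosure k
  let X' := pullback q (Spec.map (CommRingCat.ofHom (algebraMap k K)))
  let g : X' ⟶ X := pullback.fst _ _
  let _ : X'.Over (Spec (CommRingCat.of K)) := ⟨pullback.snd _ _⟩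
  let q' := X' ↘ Spec (CommRingCat.of K)
  have hpb : IsPullback g q' q (Spec.map (CommRingCat.ofHom (algebraMap k K))) :=
    IsPullback.of_hasPullback _ _
  haveI : IsProper q' := inferInstanceAs (IsProper (pullback.snd q (Spec.map (CommRingCat.ofHom (algebraMap k K)))))
  haveI : IsIntegral X' := GeometricallyIntegral.geometrically_isIntegral (f := q)
    (Spec.map (CommRingCat.ofHom (algebraMap k K))) g q' hpb
  haveI := isNoetherian_of_proper k (X := X)
  haveI := isNoetherian_of_proper K (X := X')
  have hs : Smooth q' := S14512.result K X' ((DimLib.topologicalKrullDim_bc q K).trans hdim) ((genus_bc hpb).trans hg)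
  exact MorphismProperty.of_isPullback_of_descendsAlong (P := @Smooth)
    (Q := @Surjective ⊓ @Flat ⊓ @QuasiCompact) hpb.flip ⟨⟨inferInstance, inferInstance⟩, inferInstance⟩ hs

theorem exists_deg_one_of_section [IsIntegral X] [Smooth (X ↘ Spec (CommRingCat.of k))]
    (hdim : topologicalKrullDim X = 1) (s : Spec (CommRingCat.of k) ⟶ X)
    (hs : s ≫ (X ↘ Spec (CommRingCat.of k)) = 𝟙 _) :
    ∃ L : X.Modules, PicF.IsInvertible L ∧ Curv2.deg k X L 1 = 1 := by
  obtain ⟨pt⟩ : Nonempty (Spec (CommRingCat.of k)) := inferInstanceAs (Nonempty (PrimeSpectrum k))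
  have hP := isClosed_section_point s hs pt
  haveI := VarietyLib.isRegularLocalRing_stalk_of_smooth k _ (X ↘ Spec (CommRingCat.of k)) (s pt)
  haveI := isLocallyNoetherian_of_proper k (X := X)
  haveI : IsDomain (X.presheaf.stalk (s pt)) := CAlgH3.isDomain_of_isRegularLocalRing _
  haveI : IsDiscreteValuationRing (X.presheaf.stalk (s pt)) :=
    IsLocalRing.finrank_CotangentSpace_eq_one_iff.1 (by
      have h := (IsRegularLocalRing.iff_finrank_cotangentSpace (X.presheaf.stalk (s pt))).1 inferInstance
      rw [stalk_dim_eq_one hdim hP] at h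
      exact_mod_cast h)
  have h := deg_mem_degGroup k hdim hP inferInstance
  rw [finrank_resField_section s hs pt] at h
  exact h

omit [IsProper (X ↘ Spec (CommRingCat.of k))] in
theorem exists_section_of_iso (e : X ≅ CohB1.ProjSpace 1 k)
    (he : e.hom ≫ CohB1.ProjSpace.toSpec 1 k = X ↘ (Spec (CommRingCat.of k))) :
    ∃ s : Spec (CommRingCat.of k) ⟶ X, s ≫ (X ↘ (Spec (CommRingCat.of k))) = 𝟙 _ := by
  refine ⟨Spec.map (CommRingCat.ofHom (MvPolynomial.eval (fun _ : PUnit.{u + 1} => (0 : k)))) ≫
    P1Lib24.chart k 0 ≫ e.inv, ?_⟩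
  rw [Category.assoc, Category.assoc, ← he, Iso.inv_hom_id_assoc, P1Lib24.chart_toSpec, ← Spec.map_comp,
    ← CommRingCat.ofHom_comp, ← Spec.map_id]
  congr 1
  exact CommRingCat.hom_ext (RingHom.ext fun r => MvPolynomial.eval_C (f := fun _ : PUnit.{u + 1} => (0 : k)) r)

end Groth.Agent.CurveRR24
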