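import Groth.Agent.CurveLib.Completion
import Groth.Agent.CurveRR24.VeryAmpleField
import Groth.Agent.CurveRR24.DegGroup
import Groth.Agent.CurveRR24.AlgClosed
import Groth.Agent.CurveRR24.DoubleCover.Insep
import Groth.Agent.EGA43.FibDepth.GeomPoints
import Groth.Agent.AbVarLib.AlgClosedIntegral
import Groth.Agent.DimLib.Points
import Groth.Agent.CAlgH3.Serre
import Groth.Agent.S2116

/-! # Smooth projective completions of curves over an algebraically closed field -/

set_option autoImplicit false
set_option linter.style.haveILetI false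
set_option backward.isDefEq.respectTransparency.types false
set_option maxHeartbeats 1000000

universe u

open CategoryTheory CategoryTheory.Limits AlgebraicGeometry Opposite TopologicalSpace

namespace Groth.Agent.CurveRR24

variable {k : Type u} [Field k]

/-- Over an algebraically closed field, regular local rings at closed points mean smooth. -/
theorem smooth_of_regular_closedPoints [IsAlgClosed k] {X : Scheme.{u}} (q : X ⟶ Spec (CommRingCat.of k))
    [LocallyOfFiniteType q]
    (h : ∀ x : X, IsClosed ({x} : Set X) → IsRegularLocalRing (X.presheaf.stalk x)) : Smooth q := by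
  haveI : LocallyOfFinitePresentation q := inferInstance
  haveI := LocallyOfFiniteType.jacobsonSpace q
  rw [← Scheme.Hom.smoothLocus_eq_top_iff, ← TopologicalSpace.Opens.coe_eq_univ]
  by_contra hne
  obtain ⟨x, hx, hxc⟩ := nonempty_inter_closedPoints (X := X) (Set.nonempty_compl.2 hne)
    q.smoothLocus.2.isClosed_compl.isLocallyClosed
  refine hx ?_
  obtain ⟨V, hV, hxV, -⟩ := exists_isAffineOpen_mem_and_subset (x := x) (U := (⊤ : X.Opens)) trivial
  let A := Γ(X, V)
  let _ : Algebra k A := (EmbLib24.gl q V).toAlgebra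
  have hcomp : hV.fromSpec ≫ q = Spec.map (CommRingCat.ofHom (algebraMap k A)) := by
    rw [IsAffineOpen.fromSpec, Category.assoc, EmbLib24.toSpecΓ_gl, ← hV.isoSpec_hom, Iso.inv_hom_id_assoc]
    try rfl
  haveI : Algebra.FiniteType k A := by
    have h : LocallyOfFiniteType (Spec.map (CommRingCat.ofHom (algebraMap k A))) := by
      rw [← hcomp]; infer_instance
    exact RingHom.finiteType_algebraMap.1 ((HasRingHomProperty.Spec_iff (P := @LocallyOfFiniteType)).1 h)
  haveI : Algebra.FinitePresentation k A := Algebra.FinitePresentation.of_finiteType.1 inferInstance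
  let p := hV.primeIdealOf ⟨x, hxV⟩
  have hp : hV.fromSpec p = x := hV.fromSpec_primeIdealOf ⟨x, hxV⟩
  haveI : p.asIdeal.IsMaximal := by
    refine (PrimeSpectrum.isClosed_singleton_iff_isMaximal p).1 ?_
    have := hxc.preimage hV.fromSpec.continuous
    rwa [← hp, show ({hV.fromSpec p} : Set X) = hV.fromSpec '' {p} from Set.image_singleton.symm,
      Set.preimage_image_eq _ hV.fromSpec.isOpenEmbedding.injective] at this
  show (q.stalkMap x).hom.FormallySmooth
  rw [← hp]
  refine (EGA43.FibDepth.formallySmooth_stalkMap_chart_iff hV.fromSpec q hcomp p).2 ?_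
  refine (S2116.result p.asIdeal).1 ?_
  haveI := h x hxc
  let _ := TopCat.Presheaf.algebra_section_stalk X.presheaf (⟨x, hxV⟩ : V)
  haveI := hV.isLocalization_stalk ⟨x, hxV⟩
  exact IsRegularLocalRing.of_ringEquiv (IsLocalization.algEquiv p.asIdeal.primeCompl (X.presheaf.stalk x)
    (Localization.AtPrime p.asIdeal)).toRingEquiv

/-- A smooth curve over an algebraically closed field has a smooth projective completion. -/
theorem exists_smooth_projective_completion [IsAlgClosed k] {X : Scheme.{u}} (sX : X ⟶ Spec (CommRingCat.of k))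
    [IsIntegral X] [LocallyOfFiniteType sX] [QuasiCompact sX] [IsSeparated sX] [Smooth sX]
    (hdim : topologicalKrullDim X = 1) :
    ∃ (Y : Scheme.{u}) (sY : Y ⟶ Spec (CommRingCat.of k)) (j : X ⟶ Y), IsOpenImmersion j ∧ j ≫ sY = sX ∧
      IsIntegral Y ∧ Smooth sY ∧ topologicalKrullDim Y = 1 ∧
      ∃ (n : ℕ) (i : Y ⟶ CohB1.ProjSpace n k), IsClosedImmersion i ∧ i ≫ CohB1.ProjSpace.toSpec n k = sY := by
  let _ : X.Over (Spec (CommRingCat.of k)) := ⟨sX⟩
  haveI := LocallyOfFiniteType.isLocallyNoetherian sX
  obtain ⟨Y, sY, j, hj, hdense, hjs, hproper, hYn, hYd⟩ := CurveLib.exists_completion_integral X sX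
    (fun x hx => stalk_dim_eq_one hdim hx)
    (NeronLib.isNormalScheme_of_smooth sX (isNormalScheme_spec_field k))
  haveI : IrreducibleSpace Y := by
    have h := (IrreducibleSpace.isIrreducible_univ X).image j j.continuous.continuousOn
    rw [Set.image_univ] at h
    exact { toPreirreducibleSpace := ⟨by rw [← hdense.closure_eq]; exact h.isPreirreducible.closure⟩
            toNonempty := ⟨j (genericPoint X)⟩ }
  haveI : IsReduced Y := by
    haveI : ∀ y : Y, IsReduced (Y.presheaf.stalk y) := fun y => by
      haveI := (hYn y).1; infer_instance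
    exact isReduced_of_isReduced_stalk Y
  haveI : IsIntegral Y := isIntegral_of_irreducibleSpace_of_isReduced Y
  let _ : Y.Over (Spec (CommRingCat.of k)) := ⟨sY⟩
  haveI : IsProper (Y ↘ Spec (CommRingCat.of k)) := hproper
  haveI := LocallyOfFiniteType.isLocallyNoetherian sY
  have hdimY : topologicalKrullDim Y = 1 := by
    rw [DimLib.topologicalKrullDim_eq_ptDim_genericPoint sY, ← genericPoint_eq_of_isOpenImmersion j,
      ← DimLib.ptDim_of_isIso, hjs, ← DimLib.topologicalKrullDim_eq_ptDim_genericPoint sX]
    exact hdim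
  have hreg : ∀ y : Y, IsClosed ({y} : Set Y) → IsRegularLocalRing (Y.presheaf.stalk y) := fun y hy => by
    haveI := (hYn y).1
    haveI := (hYn y).2
    exact CAlgH3.isRegularLocalRing_of_normal_dim_le_one (hYd y hy).le
  have hsm : Smooth sY := smooth_of_regular_closedPoints sY hreg
  haveI : GeometricallyIntegral (Y ↘ Spec (CommRingCat.of k)) := AbVarLib.geometricallyIntegral_of_isAlgClosed sY
  haveI := EulerLib.isNoetherian_of_proper k (X := Y)
  haveI := LocallyOfFiniteType.jacobsonSpace sY
  have h0 := h0_structure k (X := Y)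
  obtain ⟨P, hP⟩ : ∃ P : Y, IsClosed ({P} : Set Y) :=
    (IsClosed.exists_closed_singleton isClosed_univ Set.univ_nonempty).imp fun _ h => h.2
  have h1 : (1 : ℤ) ∈ degGroup (X := Y) k hdimY.le := by
    have h := (degGroup (X := Y) k hdimY.le).neg_mem ⟨_, isInvertible_ptIdeal_of_regular k hP (hreg P hP)
      (stalk_dim_eq_one hdimY hP), deg_ptIdeal k hP⟩
    rwa [neg_neg, finrank_resField k hP] at h
  obtain ⟨L, hL, hdeg⟩ := (degGroup (X := Y) k hdimY.le).zsmul_mem h1 (2 * (Curv2.genus k Y : ℤ) + 1)
  rw [zsmul_eq_mul, mul_one] at hdeg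
  obtain ⟨n, i, hi, hic, -⟩ := exists_closedImmersion_of_deg k hdimY h0 hL hdeg.ge
  exact ⟨Y, sY, j, hj, hjs, inferInstance, hsm, hdimY, n, i, hi, hic⟩

end Groth.Agent.CurveRR24
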