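import Groth.Agent.CurveRR24.AlgClosed
import Groth.Agent.EmbLib24.Criterion
import Groth.Agent.UPLib.ProjSpace
import Groth.Agent.CurveLib.ProjLine
import Groth.Agent.CurvesLib24.Basic
import Groth.Agent.CAlgH3.RegularLocal

/-!
# The point criterion for very ampleness on a regular curve over an algebraically closed field
-/

set_option autoImplicit false
set_option linter.style.haveILetI false
set_option backward.isDefEq.respectTransparency.types false
set_option maxHeartbeats 1000000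

universe u

open CategoryTheory CategoryTheory.Limits AlgebraicGeometry Opposite TopologicalSpace
open Groth.Agent.Coherent Groth.Agent.PicLib Groth.Agent.AmpleLib Groth.Agent.EulerLib

namespace Groth.Agent.CurveRR24

variable {X : Scheme.{u}}

theorem germ_smul_gen {M : X.Modules} {U : X.Opens} {g : Γ(M, U)} {P : X} (hP : P ∈ U) (s : Γ(M, ⊤))
    {f : Γ(X, U)} (h : resM M (le_top : U ≤ ⊤) s = f • g) :
    M.presheaf.germ ⊤ P trivial s = X.presheaf.germ U P hP f • M.presheaf.germ U P hP g := by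
  rw [← QCohLoc.germ_smul', ← h]
  exact (TopCat.Presheaf.germ_res_apply M.presheaf (homOfLE (le_top (a := U))) P hP s).symm

/-- A section generates at a point iff its germ is nonzero in the fibre. -/
theorem mem_glocus_iff_germ {M : X.Modules} (hM : PicF.IsInvertible M) (s : Γ(M, ⊤)) (P : X) :
    P ∈ glocus M s ↔ M.presheaf.germ ⊤ P trivial s ∉
      (IsLocalRing.maximalIdeal (X.presheaf.stalk P) • (⊤ : Submodule (X.presheaf.stalk P) (M.presheaf.stalk P))) := by
  obtain ⟨U, hPU, g, hg⟩ := exists_isGen hM P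
  obtain ⟨f, hf⟩ := (hg U le_rfl).2 (resM M le_top s)
  beta_reduce at hf
  rw [resM_self] at hf
  rw [germ_smul_gen hPU s hf.symm, EmbLib24.mem_smul_top_iff _ (EmbLib24.bijective_smul_germ hg hPU),
    IsLocalRing.mem_maximalIdeal, mem_nonunits_iff, not_not, ← X.mem_basicOpen f P hPU]
  have h := glocus_inf s hg
  rw [hg.coef_eq le_rfl (r := f) (by rw [resM_self]; exact hf)] at h
  exact ⟨fun hs => h.le ⟨hs, hPU⟩, fun hf' => (h.ge hf').1⟩

/-- Multiplication by the ideal sends a generating section to a generating section off the zeros. -/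
theorem mem_glocus_twistMul {I : X.IdealSheafData} {L : X.Modules} (hL : PicF.IsInvertible L)
    (z : Γ(CohB1.tensorMod (ClSub.idealMod I) L, ⊤)) {y : X} (hy : y ∉ I.support)
    (hz : y ∈ glocus _ z) : y ∈ glocus L ((twistMul I L).app ⊤ z) := by
  obtain ⟨U₀, hyU₀, g₀, hg₀⟩ := exists_isGen hL y
  obtain ⟨k, hk⟩ := exists_idealModι_eq_one I
  let O : X.Opens := ⟨(I.support : Set X)ᶜ, I.support.2.isOpen_compl⟩
  let U : X.Opens := U₀ ⊓ O ⊓ glocus _ z
  have hyU : y ∈ U := ⟨⟨hyU₀, hy⟩, hz⟩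
  let g := resM L (inf_le_left.trans inf_le_left : U ≤ U₀) g₀
  have hg : IsGen L U g := hg₀.restrict _
  obtain ⟨c, hc⟩ := (bijective_tmul_gen (M := ClSub.idealMod I) hg U le_rfl).2 (resM _ le_top z)
  beta_reduce at hc
  rw [resM_self] at hc
  let kU : Γ(ClSub.idealMod I, U) := resM _ (inf_le_left.trans inf_le_right : U ≤ O) k
  have hkU : (ClSub.idealModι I).app U kU = (1 : Γ(X, U)) := by
    rw [app_resM]
    exact (congrArg (resM (Coh.structureModule X) (inf_le_left.trans inf_le_right : U ≤ O)) hk).trans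
      (map_one (res (inf_le_left.trans inf_le_right : U ≤ O)))
  let f : Γ(X, U) := (ClSub.idealModι I).app U c
  have hcf : c = f • kU := by
    haveI := mono_idealModι I
    apply app_injective_of_mono (ClSub.idealModι I) U
    rw [Scheme.Modules.Hom.app_smul, hkU]
    exact (mul_one f).symm
  have hgen : IsGen (CohB1.tensorMod (ClSub.idealMod I) L) U (tmul c g) := by
    rw [hc]
    have := (isGen_glocus (L := CohB1.tensorMod (ClSub.idealMod I) L) z).restrict (inf_le_right : U ≤ _)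
    rwa [resM_resM] at this
  obtain ⟨r, hr⟩ := (hgen U le_rfl).2 (tmul kU g)
  beta_reduce at hr
  rw [resM_self] at hr
  have hrf : r * f = 1 := by
    have h1 := congrArg ((twistMul I L).app U) hr
    rw [Scheme.Modules.Hom.app_smul, twistMul_tmul, twistMul_tmul, smul_smul, hkU] at h1
    refine (hg U le_rfl).1 ?_
    beta_reduce
    rw [resM_self]
    exact h1
  have h2 : resM L (le_top : U ≤ ⊤) ((twistMul I L).app ⊤ z) = f • g := by
    rw [← app_resM, ← hc, twistMul_tmul]
  have h3 := glocus_inf ((twistMul I L).app ⊤ z) hg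
  rw [hg.coef_eq le_rfl (r := f) (by rw [resM_self]; exact h2.symm)] at h3
  refine (h3.ge ?_).1
  rw [X.mem_basicOpen f y hyU]
  exact (IsUnit.of_mul_eq_one_right r hrf).map _

/-- A generator of the ideal of a point generates the maximal ideal there. -/
theorem span_germ_gen {P : X} (hP : IsClosed ({P} : Set X)) {U : X.Opens} (hPU : P ∈ U)
    {k : Γ(ClSub.idealMod (ptIdeal P hP), U)} (hk : IsGen (ClSub.idealMod (ptIdeal P hP)) U k) :
    IsLocalRing.maximalIdeal (X.presheaf.stalk P) =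
      Ideal.span {X.presheaf.germ U P hPU ((ClSub.idealModι (ptIdeal P hP)).app U k)} := by
  let I := ptIdeal P hP
  let a : Γ(X, U) := (ClSub.idealModι I).app U k
  refine le_antisymm (fun z hz => ?_) ((Ideal.span_singleton_le_iff_mem _).2 ?_)
  · obtain ⟨W, hPW, w, hw⟩ := TopCat.Presheaf.exists_germ_eq X.presheaf z
    obtain ⟨A, hA, hPA, hAW⟩ := exists_isAffineOpen_mem_and_subset (x := P) (U := W ⊓ U) ⟨hPW, hPU⟩
    have hA1 : A ≤ W := fun y hy => (hAW hy).1
    have hA2 : A ≤ U := fun y hy => (hAW hy).2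
    have hmem : res hA1 w ∈ I.ideal ⟨A, hA⟩ := by
      refine (mem_ptIdeal_iff hP ⟨A, hA⟩ _).2 fun h => ?_
      rw [X.mem_basicOpen _ P hPA] at h
      refine hz ?_
      rw [← hw, ← TopCat.Presheaf.germ_res_apply X.presheaf (homOfLE hA1) P hPA w]
      exact h
    obtain ⟨c, hc⟩ := (mem_range_idealModι I A (res hA1 w)).2
      (RingHom.mem_ker.1 ((I.ker_subschemeι_app ⟨A, hA⟩).symm ▸ hmem))
    obtain ⟨r, hr⟩ := (hk A hA2).2 c
    refine Ideal.mem_span_singleton'.2 ⟨X.presheaf.germ A P hPA r, ?_⟩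
    rw [← hw, ← TopCat.Presheaf.germ_res_apply X.presheaf (homOfLE hA1) P hPA w,
      ← TopCat.Presheaf.germ_res_apply X.presheaf (homOfLE hA2) P hPA a, ← map_mul]
    refine congrArg _ ?_
    show r * res hA2 a = res hA1 w
    rw [← hc, ← hr, Scheme.Modules.Hom.app_smul, app_resM]
    rfl
  · intro h
    exact basicOpen_idealModι_le I U k ((X.mem_basicOpen a P hPU).2 h) ((support_ptIdeal hP).ge rfl)

variable (k : Type u) [Field k] [IsAlgClosed k] [X.Over (Spec (CommRingCat.of k))]
  [IsProper (X ↘ Spec (CommRingCat.of k))]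

include k in
theorem isInvertible_ptIdeal_of_regular {P : X} (hP : IsClosed ({P} : Set X))
    (hreg : IsRegularLocalRing (X.presheaf.stalk P)) (hd : ringKrullDim (X.presheaf.stalk P) = 1) :
    PicF.IsInvertible (ClSub.idealMod (ptIdeal P hP)) := by
  haveI := isLocallyNoetherian_of_proper k (X := X)
  haveI := hreg
  haveI : IsDomain (X.presheaf.stalk P) := CAlgH3.isDomain_of_isRegularLocalRing _
  haveI : IsDiscreteValuationRing (X.presheaf.stalk P) :=
    IsLocalRing.finrank_CotangentSpace_eq_one_iff.1 (by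
      have h := (IsRegularLocalRing.iff_finrank_cotangentSpace (X.presheaf.stalk P)).1 hreg
      rw [hd] at h
      exact_mod_cast h)
  exact isInvertible_ptIdeal_of_dvr hP

/-- Separation of two points or of a tangent by sections. -/
theorem separation_of_drop {L : X.Modules} (hL : PicF.IsInvertible L)
    {P Q : X} (hP : IsClosed ({P} : Set X)) (hQ : IsClosed ({Q} : Set X))
    (hI : PicF.IsInvertible (ClSub.idealMod (ptIdeal P hP)))
    (h : Module.finrank k (Coh.HH X (CohB1.tensorMod L (CohB1.tensorMod (ClSub.idealMod (ptIdeal P hP))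
      (ClSub.idealMod (ptIdeal Q hQ)))) 0) + 2 = Module.finrank k (Coh.HH X L 0)) :
    ∃ z : Γ(CohB1.tensorMod (ClSub.idealMod (ptIdeal P hP)) L, ⊤), Q ∈ glocus _ z := by
  have hL' : PicF.IsInvertible (CohB1.tensorMod (ClSub.idealMod (ptIdeal P hP)) L) :=
    isInvertible_tensorMod hI hL
  refine exists_mem_glocus_of_h0_ne k hQ hL' fun he => ?_
  obtain ⟨a⟩ := exists_assocIso' (ClSub.idealMod (ptIdeal Q hQ)) hI hL
  have e : CohB1.tensorMod (CohB1.tensorMod (ClSub.idealMod (ptIdeal P hP)) L) (ClSub.idealMod (ptIdeal Q hQ)) ≅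
      CohB1.tensorMod L (CohB1.tensorMod (ClSub.idealMod (ptIdeal P hP)) (ClSub.idealMod (ptIdeal Q hQ))) :=
    tensorComm _ _ ≪≫ a.symm ≪≫ tensorComm _ _ ≪≫ tensorIso (Iso.refl L) (tensorComm _ _)
  rw [finrank_HH_congr k e 0] at he
  obtain ⟨-, hge⟩ := h0_tensor_ptIdeal k hP hL
  rw [finrank_resField k hP, finrank_HH_congr k (tensorComm L (ClSub.idealMod (ptIdeal P hP))) 0] at hge
  omega

/-- The criterion. -/
theorem exists_closedImmersion_of_drop [Nonempty X]
    (hreg : ∀ P : X, IsClosed ({P} : Set X) →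
      IsRegularLocalRing (X.presheaf.stalk P) ∧ ringKrullDim (X.presheaf.stalk P) = 1)
    {L : X.Modules} (hL : PicF.IsInvertible L)
    (h : ∀ (P Q : X) (hP : IsClosed ({P} : Set X)) (hQ : IsClosed ({Q} : Set X)),
      Module.finrank k (Coh.HH X (CohB1.tensorMod L (CohB1.tensorMod (ClSub.idealMod (ptIdeal P hP))
        (ClSub.idealMod (ptIdeal Q hQ)))) 0) + 2 = Module.finrank k (Coh.HH X L 0)) :
    ∃ (n : ℕ) (i : X ⟶ CohB1.ProjSpace n k), IsClosedImmersion i ∧
      i ≫ CohB1.ProjSpace.toSpec n k = (X ↘ (Spec (CommRingCat.of k))) ∧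
      Nonempty ((Scheme.Modules.pullback i).obj (Twist.twistProjSpace n k 1) ≅ L) := by
  classical
  haveI := isNoetherian_of_proper k (X := X)
  have hI := fun (P : X) (hP : IsClosed ({P} : Set X)) =>
    isInvertible_ptIdeal_of_regular k hP (hreg P hP).1 (hreg P hP).2
  let pX := X ↘ Spec (CommRingCat.of k)
  let φ := baseHom k X
  haveI : Module.Finite k (GA φ L) := by
    haveI := finite_HH_of_isCoh k (isCoh_of_isInvertible k hL) 0
    exact Module.Finite.equiv (hhZero k L)
  obtain ⟨n, v, hv⟩ := Module.Finite.exists_fin (R := k) (M := GA φ L)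
  let σ : Fin (n + 1) → Γ(L, ⊤) := Fin.cons 0 (fun i => (show Γ(L, ⊤) from v i))
  have hσ : ∀ s : Γ(L, ⊤), ∃ c : Fin (n + 1) → k, ∑ i, ProjUP.toGlobal pX (c i) • σ i = s := fun s => by
    obtain ⟨c, hc⟩ := (Submodule.mem_span_range_iff_exists_fun k).1
      (hv ▸ Submodule.mem_top : (show GA φ L from s) ∈ Submodule.span k (Set.range v))
    refine ⟨Fin.cons 0 c, ?_⟩
    rw [Fin.sum_univ_succ]
    simp only [σ, Fin.cons_zero, Fin.cons_succ, smul_zero, zero_add]
    exact hc
  have hgen : ∀ P : X, IsClosed ({P} : Set X) → ∃ s : Γ(L, ⊤), P ∈ glocus L s := fun P hP => by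
    refine exists_mem_glocus_of_h0_ne k hP hL fun he => ?_
    have h1 := h P P hP hP
    have hL' := isInvertible_tensorMod hL (hI P hP)
    obtain ⟨-, hge⟩ := h0_tensor_ptIdeal k hP hL'
    rw [finrank_resField k hP] at hge
    obtain ⟨a⟩ := exists_assocIso' L (hI P hP) (hI P hP)
    rw [finrank_HH_congr k a 0, he] at hge
    omega
  have hcov : ∀ x : X, ∃ i, x ∈ glocus L (σ i) := fun x => by
    obtain ⟨P, hPx, hP⟩ := (isClosed_closure (s := ({x} : Set X))).exists_closed_singleton ⟨x, subset_closure rfl⟩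
    obtain ⟨s, hs⟩ := hgen P hP
    by_contra hcon
    push Not at hcon
    have hPn : ∀ i, P ∉ glocus L (σ i) := fun i hi =>
      hcon i ((specializes_iff_mem_closure.2 hPx).mem_open (glocus L (σ i)).2 hi)
    obtain ⟨c, rfl⟩ := hσ s
    rw [mem_glocus_iff_germ hL, map_sum] at hs
    refine hs (Submodule.sum_mem _ fun i _ => ?_)
    rw [QCohLoc.germ_smul']
    exact Submodule.smul_mem _ _ (not_not.1 ((mem_glocus_iff_germ hL _ P).not.1 (hPn i)))
  obtain ⟨r, hr, τ, hτ⟩ := UPLib.exists_hom_projSpace n pX hL σ hcov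
  haveI : IsProper (CohB1.ProjSpace.toSpec n k) := CurveLib.isProper_projSpace k n
  haveI : IsProper (r ≫ CohB1.ProjSpace.toSpec n k) := by rw [hr]; infer_instance
  haveI : IsProper r := IsProper.of_comp r (CohB1.ProjSpace.toSpec n k)
  let M := EmbLib24.pbO r
  have hM : PicF.IsInvertible M := glocus_isInvertible_of_iso τ.symm hL
  have hback : ∀ c : Fin (n + 1) → k, τ.hom.app ⊤ (∑ i, ProjUP.toGlobal pX (c i) • EmbLib24.sig r i) =
      ∑ i, ProjUP.toGlobal pX (c i) • σ i := fun c => by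
    rw [map_sum]
    exact Finset.sum_congr rfl fun i _ => (τ.hom.app_smul (U := ⊤) _ _).trans (congrArg (_ • ·) (hτ i))
  have hiff : ∀ (c : Fin (n + 1) → k) (P : X), M.presheaf.germ ⊤ P trivial
      (∑ i, ProjUP.toGlobal pX (c i) • EmbLib24.sig r i) ∈
      (IsLocalRing.maximalIdeal (X.presheaf.stalk P) • (⊤ : Submodule (X.presheaf.stalk P) (M.presheaf.stalk P))) ↔
      P ∉ glocus L (∑ i, ProjUP.toGlobal pX (c i) • σ i) := fun c P => by
    rw [← hback c, glocus_map_iso, mem_glocus_iff_germ hM, not_not]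
  refine ⟨n, r, ?_, hr, ⟨τ⟩⟩
  refine EmbLib24.isClosedImmersion_of_separates r hr (pX := pX) (fun P Q hP hQ hne => ?_) fun P hP => ?_
  · obtain ⟨z, hz⟩ := separation_of_drop k hL hP hQ (hI P hP) (h P Q hP hQ)
    obtain ⟨c, hc⟩ := hσ ((twistMul (ptIdeal P hP) L).app ⊤ z)
    refine ⟨c, Or.inl ⟨(hiff c P).2 ?_, ?_⟩⟩
    · rw [hc]
      exact fun h => glocus_twistMul_le (ptIdeal P hP) hL z h ((support_ptIdeal hP).ge rfl)
    · rw [hiff c Q, not_not, hc]
      exact mem_glocus_twistMul hL z (fun h => hne ((support_ptIdeal hP).le h).symm) hz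
  · obtain ⟨z, hz⟩ := separation_of_drop k hL hP hP (hI P hP) (h P P hP hP)
    obtain ⟨U₀, hPU₀, g₀, hg₀⟩ := exists_isGen hL P
    obtain ⟨U₁, hPU₁, k₁, hk₁⟩ := exists_isGen (hI P hP) P
    let U : X.Opens := U₀ ⊓ U₁
    have hPU : P ∈ U := ⟨hPU₀, hPU₁⟩
    let g := resM L (inf_le_left : U ≤ U₀) g₀
    have hg : IsGen L U g := hg₀.restrict _
    let kU := resM _ (inf_le_right : U ≤ U₁) k₁
    have hkU : IsGen (ClSub.idealMod (ptIdeal P hP)) U kU := hk₁.restrict _
    have hgen' := isGen_tmul hkU hg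
    obtain ⟨c', hc'⟩ := (hgen' U le_rfl).2 (resM _ le_top z)
    beta_reduce at hc'
    rw [resM_self] at hc'
    have hunit : P ∈ X.basicOpen c' := by
      have h1 := glocus_inf z hgen'
      rw [hgen'.coef_eq le_rfl (r := c') (by rw [resM_self]; exact hc')] at h1
      exact h1.le ⟨hz, hPU⟩
    let t : Γ(X, U) := (ClSub.idealModι (ptIdeal P hP)).app U kU
    have hs : resM L (le_top : U ≤ ⊤) ((twistMul (ptIdeal P hP) L).app ⊤ z) = (c' * t) • g := by
      rw [← app_resM, ← hc', Scheme.Modules.Hom.app_smul, twistMul_tmul, smul_smul]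
    obtain ⟨c, hc⟩ := hσ ((twistMul (ptIdeal P hP) L).app ⊤ z)
    let u := ∑ i, ProjUP.toGlobal pX (c i) • EmbLib24.sig r i
    let gM : Γ(M, U) := τ.inv.app U g
    have hgM : IsGen M U gM := isGen_map_iso τ.symm hg
    have hu : resM M (le_top : U ≤ ⊤) u = (c' * t) • gM := by
      have h1 : u = τ.inv.app ⊤ ((twistMul (ptIdeal P hP) L).app ⊤ z) := by
        rw [← hc, ← hback c]
        exact (congrArg (fun φ => φ.app ⊤ u) τ.hom_inv_id).symm
      rw [h1, ← app_resM, hs, Scheme.Modules.Hom.app_smul]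
    intro w hw
    refine Submodule.mem_sup_left ?_
    obtain ⟨a, rfl⟩ := (EmbLib24.bijective_smul_germ hgM hPU).2 w
    rw [EmbLib24.mem_smul_top_iff _ (EmbLib24.bijective_smul_germ hgM hPU), span_germ_gen hP hPU hkU,
      Ideal.mem_span_singleton'] at hw
    obtain ⟨b, rfl⟩ := hw
    obtain ⟨e, he⟩ := ((X.mem_basicOpen c' P hPU).1 hunit).exists_left_inv
    have hgu : M.presheaf.germ ⊤ P trivial u =
        X.presheaf.germ U P hPU (c' * t) • M.presheaf.germ U P hPU gM := germ_smul_gen hPU u hu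
    have hmem : M.presheaf.germ ⊤ P trivial u ∈ Submodule.span (X.presheaf.stalk P)
        {v | ∃ c : Fin (n + 1) → k, v = M.presheaf.germ ⊤ P trivial (∑ i, ProjUP.toGlobal pX (c i) • EmbLib24.sig r i) ∧
          v ∈ (IsLocalRing.maximalIdeal (X.presheaf.stalk P) •
            (⊤ : Submodule (X.presheaf.stalk P) (M.presheaf.stalk P)))} := by
      refine Submodule.subset_span ⟨c, rfl, (hiff c P).2 ?_⟩
      rw [hc]
      exact fun h => glocus_twistMul_le (ptIdeal P hP) hL z h ((support_ptIdeal hP).ge rfl)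
    have := Submodule.smul_mem _ (b * e) hmem
    rw [hgu, smul_smul, map_mul, mul_assoc, ← mul_assoc e, he, one_mul] at this
    exact this

/-- A section that is mapped to a generating section generates. -/
theorem mem_glocus_of_app {M L : X.Modules} (hM : PicF.IsInvertible M) (hL : PicF.IsInvertible L)
    (φ : M ⟶ L) (z : Γ(M, ⊤)) {Q : X} (h : Q ∈ glocus L (φ.app ⊤ z)) : Q ∈ glocus M z := by
  obtain ⟨U₀, hQ₀, g₀, hg₀⟩ := exists_isGen hM Q
  obtain ⟨U₁, hQ₁, g₁, hg₁⟩ := exists_isGen hL Q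
  let U : X.Opens := U₀ ⊓ U₁
  let g := resM M (inf_le_left : U ≤ U₀) g₀
  have hg : IsGen M U g := hg₀.restrict _
  let g' := resM L (inf_le_right : U ≤ U₁) g₁
  have hg' : IsGen L U g' := hg₁.restrict _
  obtain ⟨r, hr⟩ := (hg U le_rfl).2 (resM M le_top z)
  beta_reduce at hr
  rw [resM_self] at hr
  obtain ⟨f, hf⟩ := (hg' U le_rfl).2 (φ.app U g)
  beta_reduce at hf
  rw [resM_self] at hf
  have h1 : resM L (le_top : U ≤ ⊤) (φ.app ⊤ z) = (r * f) • g' := by
    rw [← app_resM, ← hr, Scheme.Modules.Hom.app_smul, ← hf, smul_smul]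
  have h2 := glocus_inf (φ.app ⊤ z) hg'
  rw [hg'.coef_eq le_rfl (r := r * f) (by rw [resM_self]; exact h1.symm)] at h2
  have h3 : Q ∈ X.basicOpen (r * f) := h2.le ⟨h, hQ₀, hQ₁⟩
  rw [Scheme.basicOpen_mul] at h3
  have h4 := glocus_inf z hg
  rw [hg.coef_eq le_rfl (r := r) (by rw [resM_self]; exact hr)] at h4
  exact (h4.ge h3.1).1

theorem stalk_dim_eq_one [IsIntegral X] (hdim : topologicalKrullDim X = 1) {P : X}
    (hP : IsClosed ({P} : Set X)) : ringKrullDim (X.presheaf.stalk P) = 1 := by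
  refine le_antisymm ((CurvesLib24.stalk_dim_le_topologicalKrullDim P).trans hdim.le) ?_
  rw [ringKrullDim_stalk_eq_coheight]
  have hne : P ≠ genericPoint X := fun h => CurvesLib24.not_isClosed_genericPoint hdim (h ▸ hP)
  have hlt : P < genericPoint X :=
    lt_of_le_not_ge (genericPoint_specializes P) fun h'' =>
      hne (Specializes.antisymm h'' (genericPoint_specializes P)).eq
  have h1 : (1 : ℕ∞) ≤ Order.coheight P := le_trans le_add_self (Order.coheight_add_one_le hlt)
  exact_mod_cast h1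

include k in
/-- A section not generating at `P` comes from `L(-P)`. -/
theorem exists_twistMul_eq {L : X.Modules} (hL : PicF.IsInvertible L) {P : X}
    (hP : IsClosed ({P} : Set X)) {s₀ : Γ(L, ⊤)} (h₀ : P ∈ glocus L s₀) (s : Γ(L, ⊤))
    (hs : P ∉ glocus L s) : ∃ z, (twistMul (ptIdeal P hP) L).app ⊤ z = s := by
  haveI := isNoetherian_of_proper k (X := X)
  obtain ⟨hle, hge⟩ := h0_tensor_ptIdeal k hP hL
  have hne := h0_ne_of_mem_glocus k hP hL h₀
  rw [finrank_resField k hP] at hge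
  let φ := baseHom k X
  let A := postA φ (ptSeq hP L).f (⊤ : X.Opens) 0
  have hinj := postA_zero_injective φ (shortExact_ptSeq hP hL) (⊤ : X.Opens)
  obtain ⟨h1, h2, -⟩ := isCoh_ptSeq k hP hL
  haveI := finCoh_of_isProper (X ↘ Spec (CommRingCat.of k)) _ h1 0
  haveI := finCoh_of_isProper (X ↘ Spec (CommRingCat.of k)) _ h2 0
  let w : Γ(L, ⊤) → _ := fun s => (secA φ (ptSeq hP L).X₂).symm ((unitTensorIso L).inv.app ⊤ s)
  have hw : ∀ z s, A z = w s →
      (twistMul (ptIdeal P hP) L).app ⊤ (secA φ (ptSeq hP L).X₁ z) = s := fun z s hz => by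
    have h3 : (ptSeq hP L).f.app ⊤ (secA φ (ptSeq hP L).X₁ z) = (unitTensorIso L).inv.app ⊤ s := by
      have := congrArg (secA φ (ptSeq hP L).X₂) hz
      rw [secA_natural, LinearEquiv.apply_symm_apply] at this
      exact this
    show (unitTensorIso L).hom.app ⊤ ((ptSeq hP L).f.app ⊤ (secA φ (ptSeq hP L).X₁ z)) = s
    rw [h3]
    exact congrArg (fun φ => φ.app ⊤ s) (unitTensorIso L).inv_hom_id
  have hx : w s₀ ∉ LinearMap.range A := by
    rintro ⟨z, hz⟩
    have h5 := glocus_twistMul_le (ptIdeal P hP) hL (secA φ (ptSeq hP L).X₁ z)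
    rw [hw z s₀ hz] at h5
    exact h5 h₀ ((support_ptIdeal hP).ge rfl)
  have htop : LinearMap.range A ⊔ Submodule.span k {w s₀} = ⊤ := by
    refine Submodule.eq_top_of_finrank_eq (le_antisymm (Submodule.finrank_le _) ?_)
    have hlt : LinearMap.range A < LinearMap.range A ⊔ Submodule.span k {w s₀} :=
      lt_of_le_not_ge le_sup_left fun h => hx (h (Submodule.mem_sup_right (Submodule.mem_span_singleton_self _)))
    have h6 := Submodule.finrank_lt_finrank_of_lt hlt
    rw [LinearMap.finrank_range_of_inj hinj] at h6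
    have e1 : Module.finrank k (Coh.HH X (ptSeq hP L).X₁ 0) =
        Module.finrank k (HA φ (ptSeq hP L).X₁ (⊤ : X.Opens) 0) := (HHBaseEquiv k (ptSeq hP L).X₁ 0).finrank_eq
    have e2 : Module.finrank k (Coh.HH X (ptSeq hP L).X₂ 0) =
        Module.finrank k (HA φ (ptSeq hP L).X₂ (⊤ : X.Opens) 0) := (HHBaseEquiv k (ptSeq hP L).X₂ 0).finrank_eq
    have e3 : Module.finrank k (Coh.HH X (ptSeq hP L).X₁ 0) =
        Module.finrank k (Coh.HH X (CohB1.tensorMod L (ClSub.idealMod (ptIdeal P hP))) 0) :=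
      (finrank_HH_congr k (tensorComm L (ClSub.idealMod (ptIdeal P hP))) 0).symm
    have e4 : Module.finrank k (Coh.HH X (ptSeq hP L).X₂ 0) = Module.finrank k (Coh.HH X L 0) :=
      finrank_HH_congr k (unitTensorIso L : (ptSeq hP L).X₂ ≅ L) 0
    omega
  obtain ⟨_, ⟨z, rfl⟩, _, hb, hsum⟩ :=
    Submodule.mem_sup.1 (htop ▸ Submodule.mem_top : w s ∈ LinearMap.range A ⊔ Submodule.span k {w s₀})
  obtain ⟨a, rfl⟩ := Submodule.mem_span_singleton.1 hb
  by_cases ha : a = 0
  · exact ⟨_, hw z s (by rw [← hsum, ha, zero_smul, add_zero])⟩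
  · exfalso
    have h6 : A z + a • w s₀ = w s := hsum
    let G := (mapGA φ (unitTensorIso L).hom).comp (secA φ (ptSeq hP L).X₂).toLinearMap
    have hG : ∀ t, G (w t) = t := fun t => by
      show (unitTensorIso L).hom.app ⊤ (secA φ (ptSeq hP L).X₂
        ((secA φ (ptSeq hP L).X₂).symm ((unitTensorIso L).inv.app ⊤ t))) = t
      rw [LinearEquiv.apply_symm_apply]
      exact congrArg (fun φ => φ.app ⊤ t) (unitTensorIso L).inv_hom_id
    have hz' : G (A z) = (twistMul (ptIdeal P hP) L).app ⊤ (secA φ (ptSeq hP L).X₁ z) := by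
      show (unitTensorIso L).hom.app ⊤ (secA φ (ptSeq hP L).X₂ (A z)) = _
      rw [secA_natural]
      rfl
    have h7 := congrArg G h6
    rw [map_add, map_smul, hG, hG, hz'] at h7
    have h8 : φ a • s₀ = s - (twistMul (ptIdeal P hP) L).app ⊤ (secA φ (ptSeq hP L).X₁ z) :=
      eq_sub_of_add_eq' h7
    have hm1 := not_not.1 ((mem_glocus_iff_germ hL s P).not.1 hs)
    have hm2 := not_not.1 ((mem_glocus_iff_germ hL _ P).not.1 fun h =>
      glocus_twistMul_le (ptIdeal P hP) hL (secA φ (ptSeq hP L).X₁ z) h ((support_ptIdeal hP).ge rfl))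
    have hm3 := (QCohLoc.germ_smul' (M := L) (V := ⊤) (x := P) trivial (φ a) s₀).symm.trans
      ((congrArg (L.presheaf.germ ⊤ P trivial) h8).trans (map_sub _ _ _))
    have hm4 := Submodule.sub_mem _ hm1 hm2
    rw [← hm3] at hm4
    obtain ⟨b, hb⟩ := (((isUnit_iff_ne_zero.2 ha).map φ).map
      (X.presheaf.germ ⊤ P trivial).hom).exists_left_inv
    refine (mem_glocus_iff_germ hL s₀ P).1 h₀ ?_
    have hm5 := Submodule.smul_mem _ b hm4
    rwa [smul_smul, hb, one_smul] at hm5

/-- The point conditions for a closed immersion. -/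
theorem drop_of_closedImmersion [IsIntegral X] (hdim : topologicalKrullDim X = 1)
    (hreg : ∀ P : X, IsRegularLocalRing (X.presheaf.stalk P))
    {L : X.Modules} (hL : PicF.IsInvertible L) {n : ℕ} (f : X ⟶ CohB1.ProjSpace n k) [IsClosedImmersion f]
    (hf : f ≫ CohB1.ProjSpace.toSpec n k = (X ↘ (Spec (CommRingCat.of k))))
    (τ : EmbLib24.pbO f ≅ L) {P Q : X} (hP : IsClosed ({P} : Set X)) (hQ : IsClosed ({Q} : Set X)) :
    Module.finrank k (Coh.HH X (CohB1.tensorMod L (CohB1.tensorMod (ClSub.idealMod (ptIdeal P hP))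
        (ClSub.idealMod (ptIdeal Q hQ)))) 0) + 2 = Module.finrank k (Coh.HH X L 0) := by
  haveI := isNoetherian_of_proper k (X := X)
  haveI : IsProper (CohB1.ProjSpace.toSpec n k) := CurveLib.isProper_projSpace k n
  have hI := fun (P : X) (hP : IsClosed ({P} : Set X)) =>
    isInvertible_ptIdeal_of_regular k hP (hreg P) (stalk_dim_eq_one hdim hP)
  let pX := X ↘ Spec (CommRingCat.of k)
  have hM : PicF.IsInvertible (EmbLib24.pbO f) := glocus_isInvertible_of_iso τ.symm hL
  have hiff : ∀ (u : Γ(EmbLib24.pbO f, ⊤)) (P : X), (EmbLib24.pbO f).presheaf.germ ⊤ P trivial u ∈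
      (IsLocalRing.maximalIdeal (X.presheaf.stalk P) •
        (⊤ : Submodule (X.presheaf.stalk P) ((EmbLib24.pbO f).presheaf.stalk P))) ↔
      P ∉ glocus L (τ.hom.app ⊤ u) := fun u P => by
    rw [glocus_map_iso, mem_glocus_iff_germ hM, not_not]
  have hgen : ∀ P : X, ∃ s₀ : Γ(L, ⊤), P ∈ glocus L s₀ := fun P => by
    obtain ⟨j, hj⟩ := EmbLib24.exists_chart_mem (f P)
    refine ⟨τ.hom.app ⊤ (EmbLib24.sig f j), ?_⟩
    rw [glocus_map_iso]
    exact (EmbLib24.preimage_chart f j).le hj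
  obtain ⟨s₀, hs₀⟩ := hgen P
  have hL' : PicF.IsInvertible (CohB1.tensorMod (ClSub.idealMod (ptIdeal P hP)) L) :=
    isInvertible_tensorMod (hI P hP) hL
  have hz : ∃ z : Γ(CohB1.tensorMod (ClSub.idealMod (ptIdeal P hP)) L, ⊤), Q ∈ glocus _ z := by
    by_cases hPQ : P = Q
    · subst hPQ
      by_contra hcon
      push Not at hcon
      have key : ∀ c : Fin (n + 1) → k, (EmbLib24.pbO f).presheaf.germ ⊤ P trivial
          (∑ i, ProjUP.toGlobal pX (c i) • EmbLib24.sig f i) ∈
          (IsLocalRing.maximalIdeal (X.presheaf.stalk P) •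
            (⊤ : Submodule (X.presheaf.stalk P) ((EmbLib24.pbO f).presheaf.stalk P))) →
          (EmbLib24.pbO f).presheaf.germ ⊤ P trivial (∑ i, ProjUP.toGlobal pX (c i) • EmbLib24.sig f i) ∈
          (IsLocalRing.maximalIdeal (X.presheaf.stalk P) ^ 2 •
            (⊤ : Submodule (X.presheaf.stalk P) ((EmbLib24.pbO f).presheaf.stalk P))) := fun c hc => by
        obtain ⟨z, hz⟩ := exists_twistMul_eq k hL hP hs₀ _ ((hiff _ P).1 hc)
        obtain ⟨U₀, hPU₀, g₀, hg₀⟩ := exists_isGen hL P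
        obtain ⟨U₁, hPU₁, k₁, hk₁⟩ := exists_isGen (hI P hP) P
        let U : X.Opens := U₀ ⊓ U₁
        have hPU : P ∈ U := ⟨hPU₀, hPU₁⟩
        let g := resM L (inf_le_left : U ≤ U₀) g₀
        have hg : IsGen L U g := hg₀.restrict _
        let kU := resM _ (inf_le_right : U ≤ U₁) k₁
        have hkU : IsGen (ClSub.idealMod (ptIdeal P hP)) U kU := hk₁.restrict _
        have hgen' := isGen_tmul hkU hg
        obtain ⟨c', hc'⟩ := (hgen' U le_rfl).2 (resM _ le_top z)
        beta_reduce at hc'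
        rw [resM_self] at hc'
        let t : Γ(X, U) := (ClSub.idealModι (ptIdeal P hP)).app U kU
        have hs : resM L (le_top : U ≤ ⊤) ((twistMul (ptIdeal P hP) L).app ⊤ z) = (c' * t) • g := by
          rw [← app_resM, ← hc', Scheme.Modules.Hom.app_smul, twistMul_tmul, smul_smul]
        have hc'm : X.presheaf.germ U P hPU c' ∈ IsLocalRing.maximalIdeal (X.presheaf.stalk P) := by
          rw [IsLocalRing.mem_maximalIdeal, mem_nonunits_iff, ← X.mem_basicOpen c' P hPU]
          intro h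
          have h1 := glocus_inf z hgen'
          rw [hgen'.coef_eq le_rfl (r := c') (by rw [resM_self]; exact hc')] at h1
          exact hcon z (h1.ge h).1
        let gM : Γ(EmbLib24.pbO f, U) := τ.inv.app U g
        have hgM : IsGen (EmbLib24.pbO f) U gM := isGen_map_iso τ.symm hg
        have hu : resM (EmbLib24.pbO f) (le_top : U ≤ ⊤)
            (∑ i, ProjUP.toGlobal pX (c i) • EmbLib24.sig f i) = (c' * t) • gM := by
          have h1 : (∑ i, ProjUP.toGlobal pX (c i) • EmbLib24.sig f i) =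
              τ.inv.app ⊤ ((twistMul (ptIdeal P hP) L).app ⊤ z) := by
            rw [hz]
            exact (congrArg (fun φ => φ.app ⊤ (∑ i, ProjUP.toGlobal pX (c i) • EmbLib24.sig f i))
              τ.hom_inv_id).symm
          rw [h1, ← app_resM, hs, Scheme.Modules.Hom.app_smul]
        rw [germ_smul_gen hPU _ hu, EmbLib24.mem_smul_top_iff _ (EmbLib24.bijective_smul_germ hgM hPU),
          map_mul, pow_two]
        refine Ideal.mul_mem_mul hc'm ?_
        rw [span_germ_gen hP hPU hkU]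
        exact Ideal.mem_span_singleton_self _
      have htan := EmbLib24.tangents_of_isClosedImmersion f (pX := pX) hf hP
      have h1 : IsLocalRing.maximalIdeal (X.presheaf.stalk P) ≤
          IsLocalRing.maximalIdeal (X.presheaf.stalk P) ^ 2 := fun a ha => by
        obtain ⟨U, hPU, g, hg⟩ := exists_isGen hM P
        have hb := EmbLib24.bijective_smul_germ hg hPU
        rw [← EmbLib24.mem_smul_top_iff _ hb]
        have hle := htan ((EmbLib24.mem_smul_top_iff _ hb _ a).2 ha)
        refine SetLike.le_def.1 (sup_le (Submodule.span_le.2 ?_) le_rfl) hle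
        rintro _ ⟨c, rfl, hv⟩
        exact key c hv
      have h2 : IsLocalRing.maximalIdeal (X.presheaf.stalk P) = ⊥ := by
        refine Submodule.eq_bot_of_le_smul_of_le_jacobson_bot (IsLocalRing.maximalIdeal (X.presheaf.stalk P)) _
          (IsNoetherian.noetherian _) ?_ (IsLocalRing.maximalIdeal_le_jacobson _)
        rw [smul_eq_mul, ← pow_two]
        exact h1
      have h3 := stalk_dim_eq_one hdim hP
      rw [ringKrullDim_eq_zero_of_isField (IsLocalRing.isField_iff_maximalIdeal_eq.2 h2)] at h3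
      exact zero_ne_one h3
    · obtain ⟨c, hc1, hc2⟩ := EmbLib24.separates_of_isClosedImmersion f (pX := pX) hf hP hQ hPQ
      obtain ⟨z, hz⟩ := exists_twistMul_eq k hL hP hs₀ _ ((hiff _ P).1 hc1)
      refine ⟨z, mem_glocus_of_app hL' hL (twistMul (ptIdeal P hP) L) z ?_⟩
      rw [hz]
      exact not_not.1 ((hiff _ Q).not.1 hc2)
  obtain ⟨z, hz⟩ := hz
  obtain ⟨hle1, hge1⟩ := h0_tensor_ptIdeal k hP hL
  have hne1 := h0_ne_of_mem_glocus k hP hL hs₀
  obtain ⟨hle2, hge2⟩ := h0_tensor_ptIdeal k hQ hL'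
  have hne2 := h0_ne_of_mem_glocus k hQ hL' hz
  rw [finrank_resField k hP] at hge1
  rw [finrank_resField k hQ] at hge2
  rw [finrank_HH_congr k (tensorComm L (ClSub.idealMod (ptIdeal P hP))) 0] at hle1 hge1 hne1
  obtain ⟨a⟩ := exists_assocIso' (ClSub.idealMod (ptIdeal Q hQ)) (hI P hP) hL
  have e : CohB1.tensorMod (CohB1.tensorMod (ClSub.idealMod (ptIdeal P hP)) L) (ClSub.idealMod (ptIdeal Q hQ)) ≅
      CohB1.tensorMod L (CohB1.tensorMod (ClSub.idealMod (ptIdeal P hP)) (ClSub.idealMod (ptIdeal Q hQ))) :=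
    tensorComm _ _ ≪≫ a.symm ≪≫ tensorComm _ _ ≪≫ tensorIso (Iso.refl L) (tensorComm _ _)
  rw [finrank_HH_congr k e 0] at hle2 hge2 hne2
  omega

end Groth.Agent.CurveRR24
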