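import Groth.Agent.SerreDual.Curve
import Groth.Agent.Props12.FinLocFree
import Groth.Agent.Coherent.FinitePres
import Groth.Agent.PicLib.FiniteSetTriv
import Groth.Agent.CurveRR24.DegGroup
import Groth.Agent.CurveRR24.VeryAmple
import Groth.Agent.VarietyLib.SmoothStalk

/-!
# The dualizing module of an integral proper curve with free stalks is invertible
-/

set_option autoImplicit false
set_option linter.style.haveILetI false
set_option backward.isDefEq.respectTransparency.types false
set_option maxHeartbeats 1000000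

universe u

open CategoryTheory CategoryTheory.Limits AlgebraicGeometry Opposite TopologicalSpace
open Groth.Agent.Coherent Groth.Agent.PicLib Groth.Agent.AmpleLib Groth.Agent.EulerLib

namespace Groth.Agent.CurveRR24

variable (k : Type u) [Field k] {X : Scheme.{u}} [X.Over (Spec (CommRingCat.of k))]
  [IsProper (X ↘ Spec (CommRingCat.of k))] [IsIntegral X]
  {ω : X.Modules} {t : Coh.HH X ω 1 →ₗ[k] k}

variable {k} (hrep : ∀ F : X.Modules, Coh.IsQCoh F → SerreDual.Rep t F)

include hrep in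
/-- An invertible module mapping injectively to the dualizing module, isomorphically over a nonempty open. -/
theorem exists_invertible_to_dualizing (hdim : topologicalKrullDim X = 1) (hω : Coh.IsQCoh ω) :
    ∃ (M : X.Modules) (j : M ⟶ ω) (O : X.Opens), PicF.IsInvertible M ∧ genericPoint X ∈ O ∧
      ∀ W : X.Opens, W ≤ O → Function.Bijective (j.app W) := by
  haveI := isNoetherian_of_proper k (X := X)
  haveI := hω
  obtain ⟨L, hL, -, hdegL⟩ := SerreDual.exists_ample_curve k hdim (X := X)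
  obtain ⟨M, hM, h1M⟩ : ∃ M : X.Modules, PicF.IsInvertible M ∧ 0 < Module.finrank k (Coh.HH X M 1) := by
    let m := (Curv2.euler k X (Coh.structureModule X)).toNat + 1
    obtain ⟨M, hM, ⟨e⟩⟩ := exists_inverse k (isInvertible_tensorPow hL m)
    refine ⟨M, hM, ?_⟩
    have h := deg_inverse k hdim.le (isInvertible_tensorPow hL m) hM e
    rw [deg_tensorPow k hdim.le hL] at h
    have hm : (m : ℤ) * 1 ≤ (m : ℤ) * Curv2.deg k X L 1 := by gcongr; omega
    have hχ := euler_eq_h0_sub_h1 k hdim.le M (isCoh_of_isInvertible k hM).1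
    simp only [m, Curv2.deg, Nat.cast_one, one_mul] at h hm hχ ⊢
    push_cast at h hm hχ ⊢
    omega
  obtain ⟨hfinM, hrankM⟩ := SerreDual.finrank_hom_eq_h1 hrep (isCoh_of_isInvertible k hM)
  haveI := hfinM
  haveI : Nontrivial (M ⟶ ω) := Module.nontrivial_of_finrank_pos (R := k) (hrankM ▸ h1M)
  obtain ⟨j, hne⟩ := exists_ne (0 : M ⟶ ω)
  haveI := SerreDual.mono_of_ne_zero hrep hdim.le hω hM j hne
  have hωc := SerreDual.isCoh_dualizing hrep hdim hω
  have hη := SerreDual.genericPoint_notMem_support_cokernel hrep hdim hM hωc (𝟙 ω) j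
  have hQ : Coh.IsCoh (cokernel j) := isCoh_cokernel _ (isCoh_of_isInvertible k hM).1 hωc
  let T : Set X := closure (CohB1.support (cokernel j))
  have hT : genericPoint X ∉ T := by
    have h := isClosed_support (cokernel j) (locallyFinGen_of_isFT _ hQ.2)
    rwa [show T = CohB1.support (cokernel j) from h.closure_eq]
  refine ⟨M, j, ⟨Tᶜ, isClosed_closure.isOpen_compl⟩, hM, hT, fun W hW => ?_⟩
  let S := ShortComplex.mk j (cokernel.π j) (cokernel.condition j)
  have hS : S.ShortExact := { exact := ShortComplex.exact_of_g_is_cokernel _ (cokernelIsCokernel _) }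
  refine ⟨sections_injective hS W, fun a => ?_⟩
  haveI : Subsingleton Γ(S.X₃, W) := subsingleton_sections_of_disjoint _ W
    (Set.disjoint_left.2 fun y hy hys => hW hy (subset_closure hys))
  exact sections_exact hS a (Subsingleton.elim _ _)

include hrep in
/-- The dualizing module has no nonzero sections vanishing on a dense open, near closed points. -/
theorem stalk_torsionFree (hdim : topologicalKrullDim X = 1) (hω : Coh.IsQCoh ω) {x : X}
    (hx : IsClosed ({x} : Set X)) (r : X.presheaf.stalk x) (hr : r ≠ 0) (z : ω.presheaf.stalk x)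
    (hrz : r • z = 0) : z = 0 := by
  classical
  haveI := isNoetherian_of_proper k (X := X)
  obtain ⟨V₁, hxV₁, a, rfl⟩ := TopCat.Presheaf.exists_germ_eq ω.presheaf z
  obtain ⟨V₂, hxV₂, c, rfl⟩ := TopCat.Presheaf.exists_germ_eq X.presheaf r
  let U₁ : X.Opens := V₁ ⊓ V₂
  have hxU₁ : x ∈ U₁ := ⟨hxV₁, hxV₂⟩
  let a₁ := resM ω (inf_le_left : U₁ ≤ V₁) a
  let c₁ := res (inf_le_right : U₁ ≤ V₂) c
  have ha₁ : ω.presheaf.germ U₁ x hxU₁ a₁ = ω.presheaf.germ V₁ x hxV₁ a :=
    TopCat.Presheaf.germ_res_apply ω.presheaf (homOfLE inf_le_left) x hxU₁ a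
  have hc₁ : X.presheaf.germ U₁ x hxU₁ c₁ = X.presheaf.germ V₂ x hxV₂ c :=
    TopCat.Presheaf.germ_res_apply X.presheaf (homOfLE inf_le_right) x hxU₁ c
  rw [← hc₁, ← ha₁, ← QCohLoc.germ_smul', ← map_zero (ω.presheaf.germ U₁ x hxU₁).hom] at hrz
  obtain ⟨U₂, hxU₂, i₁, i₂, heq⟩ := TopCat.Presheaf.germ_eq ω.presheaf x hxU₁ hxU₁ (c₁ • a₁) 0 hrz
  have hle : U₂ ≤ U₁ := i₁.le
  have heq' : resM ω hle (c₁ • a₁) = 0 := by
    have : resM ω hle (c₁ • a₁) = resM ω hle (0 : Γ(ω, U₁)) := heq
    rwa [map_zero] at this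
  let c₂ := res hle c₁
  let a₂ := resM ω hle a₁
  have hca : c₂ • a₂ = 0 := by rw [← heq', resM_smul]
  let B := X.basicOpen c₂
  have hηB : genericPoint X ∈ B := by
    refine ((genericPoint_spec X).mem_open_set_iff B.2).2 ?_
    rw [Set.univ_inter]
    by_contra hB
    have h0 : c₂ = 0 := (basicOpen_eq_bot_iff c₂).1 (Opens.ext ((Set.not_nonempty_iff_eq_empty.1 hB).trans Opens.coe_bot.symm))
    refine hr ?_
    rw [← hc₁, ← TopCat.Presheaf.germ_res_apply X.presheaf (homOfLE hle) x hxU₂ c₁]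
    exact (congrArg (X.presheaf.germ U₂ x hxU₂) h0).trans (map_zero _)
  have haB : resM ω (X.basicOpen_le c₂) a₂ = 0 := by
    have hu : IsUnit (res (X.basicOpen_le c₂) c₂) := RingedSpace.isUnit_res_basicOpen X.toRingedSpace c₂
    have h := congrArg (resM ω (X.basicOpen_le c₂)) hca
    rw [resM_smul, map_zero] at h
    exact hu.smul_eq_zero.1 h
  -- the finitely many points where the section might not vanish
  obtain ⟨hTf, hTc, -⟩ := closed_small k hdim.le (B.2.isClosed_compl) (fun h => h hηB)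
  have hT' : IsClosed (((B : Set X)ᶜ) \ {x}) := by
    rw [← Set.biUnion_of_singleton (((B : Set X)ᶜ) \ {x})]
    exact (hTf.subset Set.sdiff_subset).isClosed_biUnion fun y hy => hTc y hy.1
  let U₃ : X.Opens := U₂ ⊓ ⟨(((B : Set X)ᶜ) \ {x})ᶜ, hT'.isOpen_compl⟩
  have hxU₃ : x ∈ U₃ := ⟨hxU₂, fun h => h.2 rfl⟩
  let a₃ := resM ω (inf_le_left : U₃ ≤ U₂) a₂
  let P : X.Opens := ⟨({x} : Set X)ᶜ, hx.isOpen_compl⟩
  let F : TopCat.Sheaf Ab X := ⟨ω.presheaf, ω.isSheaf⟩
  let U : Bool → X.Opens := fun b => if b then U₃ else P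
  let sf : ∀ b, ToType (F.presheaf.obj (op (U b))) := fun b => match b with
    | true => (a₃ : Γ(ω, U₃))
    | false => (0 : Γ(ω, P))
  have hUP : ∀ (W : X.Opens) (h1 : W ≤ U₃), W ≤ P → resM ω h1 a₃ = 0 := fun W h1 h2 => by
    have hWB : W ≤ B := fun y hy => by
      by_contra hyB
      exact (h1 hy).2 ⟨hyB, h2 hy⟩
    have := congrArg (resM ω hWB) haB
    rw [resM_resM, map_zero] at this
    rw [show resM ω h1 a₃ = resM ω (h1.trans inf_le_left) a₂ from resM_resM ω inf_le_left h1 a₂]
    exact this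
  obtain ⟨g, hg, -⟩ := TopCat.Sheaf.existsUnique_gluing' F U ⊤ (fun _ => homOfLE le_top)
    (fun y _ => by
      by_cases hy : y = x
      · exact Opens.mem_iSup.2 ⟨true, hy ▸ hxU₃⟩
      · exact Opens.mem_iSup.2 ⟨false, hy⟩) sf (by
      rintro (_ | _) (_ | _)
      · rfl
      · show resM ω (inf_le_left : P ⊓ U₃ ≤ P) 0 = resM ω (inf_le_right : P ⊓ U₃ ≤ U₃) a₃
        rw [map_zero, hUP _ _ inf_le_left]
      · show resM ω (inf_le_left : U₃ ⊓ P ≤ U₃) a₃ = resM ω (inf_le_right : U₃ ⊓ P ≤ P) 0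
        rw [map_zero, hUP _ _ inf_le_right]
      · rfl)
  have hgP : resM ω (le_top : P ≤ ⊤) (g : Γ(ω, ⊤)) = 0 := hg false
  have hP : (P : Set X).Nonempty := by
    refine ⟨genericPoint X, genericPoint_notMem_of_dim hdim (T := ({x} : Set X)) hx ?_⟩
    exact topologicalKrullDim_zero_of_discreteTopology _
  have h0 : unitDesc ω (g : Γ(ω, ⊤)) = 0 :=
    SerreDual.hom_eq_zero_of_app hrep hdim.le hω (isCoh_structureModule X) _ hP fun W hW c => by
      refine (unitDesc_app ω _ W c).trans ?_
      rw [← resM_resM ω (le_top : P ≤ ⊤) hW, hgP, map_zero, smul_zero]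
  have hg0 : (g : Γ(ω, ⊤)) = 0 := by
    have := congrArg (fun φ => φ.app ⊤ (1 : Γ(X, ⊤))) h0
    beta_reduce at this
    exact (SerreDual.unitDesc_one_app _).symm.trans this
  have ha₃ : a₃ = 0 := by
    rw [← show resM ω (le_top : U₃ ≤ ⊤) (g : Γ(ω, ⊤)) = a₃ from hg true, hg0, map_zero]
  rw [← ha₁, ← TopCat.Presheaf.germ_res_apply ω.presheaf (homOfLE hle) x hxU₂ a₁,
    ← TopCat.Presheaf.germ_res_apply ω.presheaf (homOfLE (inf_le_left : U₃ ≤ U₂)) x hxU₃]
  exact (congrArg (ω.presheaf.germ U₃ x hxU₃) ha₃).trans (map_zero _)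

include hrep in
/-- With free stalks, the dualizing module is invertible. -/
theorem isInvertible_dualizing (hdim : topologicalKrullDim X = 1) (hω : Coh.IsQCoh ω)
    (hfree : ∀ x : X, Module.Free (X.presheaf.stalk x) (ω.presheaf.stalk x)) : PicF.IsInvertible ω := by
  haveI := isNoetherian_of_proper k (X := X)
  haveI := hω
  obtain ⟨M, j, O, hM, hηO, hbij⟩ := exists_invertible_to_dualizing hrep hdim hω
  have hωc := SerreDual.isCoh_dualizing hrep hdim hω
  intro x
  obtain ⟨U, n, hxU, ⟨e⟩⟩ := Props12.exists_nhd_free ω (isFP_of_isCoh hωc) x (hfree x)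
  obtain ⟨U₁, hη₁, g, hg⟩ := exists_isGen hM (genericPoint X)
  have hηU : genericPoint X ∈ U :=
    ((genericPoint_spec X).mem_open_set_iff U.2).2 ⟨x, trivial, hxU⟩
  obtain ⟨A, hA, hηA, hAle⟩ := exists_isAffineOpen_mem_and_subset (x := genericPoint X) (U := U ⊓ O ⊓ U₁)
    ⟨⟨hηU, hηO⟩, hη₁⟩
  have hA1 : A ≤ U := fun y hy => (hAle hy).1.1
  have hA2 : A ≤ O := fun y hy => (hAle hy).1.2
  have hA3 : A ≤ U₁ := fun y hy => (hAle hy).2
  obtain ⟨b⟩ := Props12.exists_basis_sections e hA1
  let l : Γ(X, A) →ₗ[Γ(X, A)] Γ(ω, A) :=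
    { toFun := fun r => j.app A (r • resM M hA3 g)
      map_add' := fun r r' => by rw [add_smul, map_add]
      map_smul' := fun r r' => by rw [smul_eq_mul, mul_smul, Scheme.Modules.Hom.app_smul]; rfl }
  have hl : Function.Bijective l := (hbij A hA2).comp (hg A hA3)
  haveI : Nonempty A := ⟨⟨_, hηA⟩⟩
  have hn : n = 1 := by
    have := Fintype.card_congr (((Module.Basis.singleton (Fin 1) Γ(X, A)).map
      (LinearEquiv.ofBijective l hl)).indexEquiv b)
    simpa using this.symm
  subst hn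
  exact ⟨U, hxU, ⟨e ≪≫ freeModOneIso _⟩⟩

include hrep in
/-- Regular stalks give free stalks of the dualizing module. -/
theorem free_stalk_of_regular (hdim : topologicalKrullDim X = 1) (hω : Coh.IsQCoh ω)
    (hreg : ∀ x : X, IsPrincipalIdealRing (X.presheaf.stalk x)) (x : X) :
    Module.Free (X.presheaf.stalk x) (ω.presheaf.stalk x) := by
  haveI := isNoetherian_of_proper k (X := X)
  haveI := hω
  haveI := hreg x
  haveI := Props12.finite_stalk_of_isFT ω (SerreDual.isCoh_dualizing hrep hdim hω).2 x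
  haveI : IsDomain (X.presheaf.stalk x) := inferInstance
  rcases CurvesLib24.eq_genericPoint_or_isClosed hdim.le x with rfl | hx
  · let _ : Field (X.presheaf.stalk (genericPoint X)) := inferInstanceAs (Field X.functionField)
    infer_instance
  haveI : Module.IsTorsionFree (X.presheaf.stalk x) (ω.presheaf.stalk x) :=
    Module.IsTorsionFree.mk fun r hr z₁ z₂ h => sub_eq_zero.1
      (stalk_torsionFree hrep hdim hω hx r hr.ne_zero _ ((smul_sub r z₁ z₂).trans (sub_eq_zero.2 h)))
  exact Module.free_of_finite_type_torsion_free'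

include hrep in
/-- The degree of an invertible dualizing module. -/
theorem deg_dualizing (hdim : topologicalKrullDim X = 1) (hω : PicF.IsInvertible ω) :
    Curv2.deg k X ω 1 = -2 * Curv2.euler k X (Coh.structureModule X) := by
  haveI := isNoetherian_of_proper k (X := X)
  have hωc := isCoh_of_isInvertible k hω
  obtain ⟨N, hN, ⟨e⟩⟩ := exists_inverse k hω
  obtain ⟨hf, hr⟩ := SerreDual.finrank_hom_eq_h1 hrep hωc
  haveI := hf
  obtain ⟨-, hh⟩ := SerreDual.finrank_hom_eq (k := k) ω hω hN e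
  rw [finrank_HH_congr k e 0, hr] at hh
  obtain ⟨-, h0⟩ := SerreDual.h0_omega_eq hrep
  have h1 := euler_eq_h0_sub_h1 k hdim.le ω hωc.1
  have h2 := euler_eq_h0_sub_h1 k hdim.le (Coh.structureModule X) Coherent.isQCoh_structureModule
  simp only [Curv2.deg, Nat.cast_one, one_mul]
  omega

/-- An odd degree line bundle on a curve of genus zero with an invertible dualizing module gives the line. -/
theorem exists_iso_projLine_of_odd (hdim : topologicalKrullDim X = 1)
    (h0 : Module.finrank k (Coh.HH X (Coh.structureModule X) 0) = 1) (hg : Curv2.genus k X = 0)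
    (hinv : ∀ (ω : X.Modules) (t : Coh.HH X ω 1 →ₗ[k] k), Coh.IsQCoh ω →
      (∀ F : X.Modules, Coh.IsQCoh F → SerreDual.Rep t F) → PicF.IsInvertible ω)
    {L : X.Modules} (hL : PicF.IsInvertible L) (hodd : Odd (Curv2.deg k X L 1)) :
    ∃ e : X ≅ CohB1.ProjSpace 1 k, e.hom ≫ CohB1.ProjSpace.toSpec 1 k = X ↘ (Spec (CommRingCat.of k)) := by
  haveI := isNoetherian_of_proper k (X := X)
  obtain ⟨ω, t, hω, hrep⟩ := SerreDual.exists_dualizing k X (d := 1) (by rw [hdim]; norm_num)
  have hi := hinv ω t hω hrep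
  have hd := deg_dualizing hrep hdim hi
  rw [euler_structure k hdim.le, h0, hg] at hd
  obtain ⟨m, hm⟩ := hodd
  obtain ⟨N, hN, hN1⟩ : ∃ N : X.Modules, PicF.IsInvertible N ∧ Curv2.deg k X N 1 = 1 := by
    have h1 : Curv2.deg k X L 1 ∈ degGroup k hdim.le := ⟨L, hL, rfl⟩
    have h2 : Curv2.deg k X ω 1 ∈ degGroup k hdim.le := ⟨ω, hi, rfl⟩
    have h := (degGroup k hdim.le).add_mem h1 ((degGroup k hdim.le).zsmul_mem h2 m)
    rw [hd, hm, smul_eq_mul] at h
    norm_num at h
    rw [show 2 * m + 1 + -(m * 2) = 1 by ring] at h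
    exact h
  have h1 : Subsingleton (Coh.HH X (Coh.structureModule X) 1) := by
    haveI := finite_HH_of_isCoh k (isCoh_structureModule X) 1
    exact (Module.finrank_zero_iff (R := k)).1 hg
  exact exists_iso_projLine_of_h1 k hdim h1 hN hN1

omit [IsProper (X ↘ Spec (CommRingCat.of k))] in
include k in
/-- Smooth curves have principal local rings. -/
theorem isPrincipalIdealRing_stalk_of_smooth [Smooth (X ↘ Spec (CommRingCat.of k))]
    (hdim : topologicalKrullDim X = 1) (x : X) : IsPrincipalIdealRing (X.presheaf.stalk x) := by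
  haveI : IsLocallyNoetherian X := LocallyOfFiniteType.isLocallyNoetherian (X ↘ Spec (CommRingCat.of k))
  rcases CurvesLib24.eq_genericPoint_or_isClosed hdim.le x with rfl | hx
  · let _ : Field (X.presheaf.stalk (genericPoint X)) := inferInstanceAs (Field X.functionField)
    infer_instance
  haveI := VarietyLib.isRegularLocalRing_stalk_of_smooth k _ (X ↘ Spec (CommRingCat.of k)) x
  haveI : IsDiscreteValuationRing (X.presheaf.stalk x) :=
    IsLocalRing.finrank_CotangentSpace_eq_one_iff.1 (by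
      have h := (IsRegularLocalRing.iff_finrank_cotangentSpace (X.presheaf.stalk x)).1 inferInstance
      rw [stalk_dim_eq_one hdim hx] at h
      exact_mod_cast h)
  infer_instance

/-- A smooth curve has an invertible dualizing module. -/
theorem isInvertible_dualizing_of_smooth [Smooth (X ↘ Spec (CommRingCat.of k))]
    (hdim : topologicalKrullDim X = 1) (hω : Coh.IsQCoh ω)
    (hrep : ∀ F : X.Modules, Coh.IsQCoh F → SerreDual.Rep t F) : PicF.IsInvertible ω :=
  isInvertible_dualizing hrep hdim hω fun x =>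
    free_stalk_of_regular hrep hdim hω (isPrincipalIdealRing_stalk_of_smooth (k := k) hdim) x

end Groth.Agent.CurveRR24
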