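import Groth.Agent.CurveRR24.RR
import Groth.Agent.EulerLib.Positive
import Groth.Agent.CurveLib.Basic
import Groth.Agent.CurvesLib24.Basic

/-!
# Global sections of invertible modules on integral curves
-/

set_option autoImplicit false
set_option linter.style.haveILetI false
set_option backward.isDefEq.respectTransparency.types false

universe u

open CategoryTheory CategoryTheory.Limits AlgebraicGeometry Opposite TopologicalSpace
open Groth.Agent.Coherent Groth.Agent.PicLib Groth.Agent.AmpleLib Groth.Agent.EulerLib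

namespace Groth.Agent.CurveRR24

variable {X : Scheme.{u}}

local notation "St" => DerSch.stalkFunctor X

theorem unitDesc_app (M : X.Modules) (s : Γ(M, ⊤)) (V : X.Opens) (r : Γ(X, V)) :
    (unitDesc M s).app V r = r • resM M (le_top : V ≤ ⊤) s := by
  rw [app_unit, unitVal_unitDesc]

theorem isZero_of_sections {M : X.Modules} (h : ∀ (V : X.Opens) (s : Γ(M, V)), s = 0) : IsZero M :=
  ModStalk.isZero_of_stalks fun y => by
    rw [ModuleCat.isZero_iff_subsingleton]
    refine subsingleton_of_forall_eq 0 fun t => ?_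
    obtain ⟨V, hV, s, hs⟩ := TopCat.Presheaf.exists_germ_eq M.presheaf t
    rw [← hs, h V s]
    exact map_zero _

theorem genericPoint_mem_glocus [IsIntegral X] {L : X.Modules} (hL : PicF.IsInvertible L)
    {s : Γ(L, ⊤)} (hs : s ≠ 0) : genericPoint X ∈ glocus L s := by
  by_contra h
  refine hs (TopCat.Presheaf.section_ext (⟨L.presheaf, L.isSheaf⟩ : TopCat.Sheaf Ab X) ⊤ s 0
    fun z _ => ?_)
  obtain ⟨W, hzW, g, hg⟩ := exists_isGen hL z
  let f := hg.coef le_rfl (resM L le_top s)
  have hf : f • g = resM L (le_top : W ≤ ⊤) s := by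
    have := hg.coef_spec le_rfl (resM L le_top s); rwa [resM_self] at this
  have hηW : genericPoint X ∈ W := (genericPoint_spec X).mem_open_set_iff W.2 |>.2 ⟨z, trivial, hzW⟩
  have hf0 : f = 0 := by
    refine (basicOpen_eq_bot_iff f).1 ?_
    by_contra hne
    obtain ⟨y, hy⟩ := (X.basicOpen f).ne_bot_iff_nonempty.1 hne
    have hη : genericPoint X ∈ X.basicOpen f :=
      (genericPoint_spec X).mem_open_set_iff (X.basicOpen f).2 |>.2 ⟨y, trivial, hy⟩
    exact h ((glocus_inf s hg).ge hη).1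
  have h0 : resM L (le_top : W ≤ ⊤) s = resM L (le_top : W ≤ ⊤) 0 := by
    rw [← hf, hf0, zero_smul, map_zero]
  let F : TopCat.Sheaf Ab X := ⟨L.presheaf, L.isSheaf⟩
  exact (TopCat.Presheaf.germ_res_apply F.presheaf (homOfLE (le_top (a := W))) z hzW s).symm.trans
    ((congrArg (F.presheaf.germ W z hzW) h0).trans
      (TopCat.Presheaf.germ_res_apply F.presheaf (homOfLE (le_top (a := W))) z hzW 0))

theorem mono_unitDesc [IsIntegral X] {L : X.Modules} (hL : PicF.IsInvertible L)
    {s : Γ(L, ⊤)} (hs : s ≠ 0) : Mono (unitDesc L s) := by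
  refine Preadditive.mono_of_isZero_kernel _ (isZero_of_sections fun V a => ?_)
  refine app_injective_of_mono (kernel.ι (unitDesc L s)) V ?_
  rw [map_zero]
  have ha := kernel_ι_app_zero (unitDesc L s) V a
  rw [unitDesc_app] at ha
  refine TopCat.Presheaf.section_ext X.sheaf V _ _ fun z hz => ?_
  obtain ⟨W, hzW, g, hg⟩ := exists_isGen hL z
  let f := hg.coef le_rfl (resM L le_top s)
  have hf : f • g = resM L (le_top : W ≤ ⊤) s := by
    have := hg.coef_spec le_rfl (resM L le_top s); rwa [resM_self] at this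
  let V' : X.Opens := V ⊓ W
  haveI : Nonempty V' := ⟨⟨z, hz, hzW⟩⟩
  let b : Γ(X, V) := (kernel.ι (unitDesc L s)).app V a
  have h1 : (res (inf_le_left : V' ≤ V) b * res (inf_le_right : V' ≤ W) f) • resM L (inf_le_right : V' ≤ W) g =
      (0 : Γ(X, V')) • resM L (inf_le_right : V' ≤ W) g := by
    rw [zero_smul, mul_smul]
    show res (inf_le_left : V' ≤ V) b • res (inf_le_right : V' ≤ W) f • resM L (inf_le_right : V' ≤ W) g = 0
    rw [← resM_smul L (inf_le_right : V' ≤ W), hf, resM_resM,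
      ← resM_resM L (le_top : V ≤ ⊤) (inf_le_left : V' ≤ V), ← resM_smul L (inf_le_left : V' ≤ V)]
    exact (congrArg (resM L (inf_le_left : V' ≤ V)) ha).trans (map_zero _)
  have h2 := (hg V' inf_le_right).1 h1
  have hfne : res (inf_le_right : V' ≤ W) f ≠ 0 := by
    intro h0
    have hη : genericPoint X ∈ glocus L s ⊓ W :=
      ⟨genericPoint_mem_glocus hL hs, (genericPoint_spec X).mem_open_set_iff W.2 |>.2 ⟨z, trivial, hzW⟩⟩
    rw [glocus_inf s hg] at hη
    have hη' : genericPoint X ∈ X.basicOpen (res (inf_le_right : V' ≤ W) f) := by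
      rw [Scheme.basicOpen_res]
      exact ⟨(genericPoint_spec X).mem_open_set_iff V'.2 |>.2 ⟨z, trivial, hz, hzW⟩, hη⟩
    rw [h0, Scheme.basicOpen_zero] at hη'
    exact hη'
  have h3 : res (inf_le_left : V' ≤ V) b = res (inf_le_left : V' ≤ V) 0 := by
    rw [map_zero]; exact (mul_eq_zero.1 h2).resolve_right hfne
  exact (TopCat.Presheaf.germ_res_apply X.presheaf (homOfLE (inf_le_left : V' ≤ V)) z ⟨hz, hzW⟩ b).symm.trans
    ((congrArg (X.presheaf.germ V' z ⟨hz, hzW⟩) h3).trans
      (TopCat.Presheaf.germ_res_apply X.presheaf (homOfLE (inf_le_left : V' ≤ V)) z ⟨hz, hzW⟩ 0))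

theorem support_cokernel_unitDesc {L : X.Modules} (s : Γ(L, ⊤)) :
    CohB1.support (cokernel (unitDesc L s)) ⊆ (glocus L s : Set X)ᶜ := by
  intro z hz hzU
  refine hz (subsingleton_of_forall_eq 0 fun a => ?_)
  obtain ⟨w, rfl⟩ := (ModuleCat.epi_iff_surjective ((St z).map (cokernel.π (unitDesc L s)))).1 inferInstance a
  obtain ⟨V, hV, t, ht⟩ := TopCat.Presheaf.exists_germ_eq L.presheaf w
  let V' : X.Opens := V ⊓ glocus L s
  obtain ⟨c, hc⟩ := (isGen_glocus (L := L) s V' inf_le_right).2 (resM L inf_le_left t)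
  rw [← ht, stalk_map_germ]
  have h1 : (cokernel.π (unitDesc L s)).app V' (resM L inf_le_left t) = 0 := by
    rw [← hc]
    beta_reduce
    have h2 : (unitDesc L s).app V' c = c • resM L (inf_le_right : V' ≤ glocus L s) (resM L le_top s) := by
      rw [resM_resM, unitDesc_app]
    rw [← h2]
    exact sections_zero (S := ShortComplex.mk (unitDesc L s) (cokernel.π _) (cokernel.condition _)) _ c
  rw [app_resM] at h1
  refine ((TopCat.Presheaf.germ_res_apply (cokernel (unitDesc L s)).presheaf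
    (homOfLE (inf_le_left : V' ≤ V)) z ⟨hV, hzU⟩ _).symm.trans ?_)
  exact (congrArg ((cokernel (unitDesc L s)).presheaf.germ V' z ⟨hV, hzU⟩) h1).trans (map_zero _)

/-- A coherent module with finite support made of closed points and no global sections is zero. -/
theorem isZero_of_finite_support {M : X.Modules} {T : Set X} (hTf : T.Finite)
    (hTc : ∀ t ∈ T, IsClosed ({t} : Set X)) (hM : CohB1.support M ⊆ T)
    (h0 : ∀ s : Γ(M, ⊤), s = 0) : IsZero M := by
  classical
  refine isZero_of_support_eq_empty (Set.eq_empty_of_forall_notMem fun z hz => hz ?_)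
  refine subsingleton_of_forall_eq 0 fun t => ?_
  obtain ⟨V, hV, s, hs⟩ := TopCat.Presheaf.exists_germ_eq M.presheaf t
  have hclosed : IsClosed (T \ {z}) := by
    rw [show T \ {z} = ⋃ y ∈ (T \ {z}), ({y} : Set X) from (Set.biUnion_of_singleton _).symm]
    exact (hTf.subset Set.sdiff_subset).isClosed_biUnion fun y hy => hTc y hy.1
  let V₀ : X.Opens := V ⊓ ⟨(T \ {z})ᶜ, hclosed.isOpen_compl⟩
  let O : X.Opens := ⟨({z} : Set X)ᶜ, (hTc z (hM hz)).isOpen_compl⟩
  have hz0 : z ∈ V₀ := ⟨hV, fun h => h.2 rfl⟩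
  let F : TopCat.Sheaf Ab X := ⟨M.presheaf, M.isSheaf⟩
  let U : ULift.{u} Bool → X.Opens := fun b => if b.down then V₀ else O
  let sf : ∀ b, ToType (F.presheaf.obj (op (U b))) := fun b =>
    match b with
    | ⟨true⟩ => (resM M (inf_le_left : V₀ ≤ V) s : Γ(M, V₀))
    | ⟨false⟩ => (0 : Γ(M, O))
  have hdis : ∀ W : X.Opens, W ≤ V₀ → W ≤ O → Subsingleton Γ(M, W) := fun W h1 h2 =>
    subsingleton_sections_of_disjoint M W (Set.disjoint_left.2 fun x hx hxs =>
      (h1 hx).2 ⟨hM hxs, h2 hx⟩)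
  have hcompat : TopCat.Presheaf.IsCompatible F.presheaf U sf := by
    rintro ⟨_ | _⟩ ⟨_ | _⟩
    · rfl
    · exact (hdis _ inf_le_right inf_le_left).elim _ _
    · exact (hdis _ inf_le_left inf_le_right).elim _ _
    · rfl
  obtain ⟨g, hg, -⟩ := TopCat.Sheaf.existsUnique_gluing' F U ⊤ (fun _ => homOfLE le_top)
    (fun y _ => by
      by_cases h : y = z
      · exact Opens.mem_iSup.2 ⟨⟨true⟩, by rw [h]; exact hz0⟩
      · exact Opens.mem_iSup.2 ⟨⟨false⟩, h⟩) sf hcompat
  have h1 : resM M (le_top : V₀ ≤ ⊤) (g : Γ(M, ⊤)) = resM M (inf_le_left : V₀ ≤ V) s := hg ⟨true⟩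
  rw [← hs, ← TopCat.Presheaf.germ_res_apply M.presheaf (homOfLE (inf_le_left : V₀ ≤ V)) z hz0 s]
  refine (congrArg (M.presheaf.germ V₀ z hz0) h1.symm).trans ?_
  rw [h0 g, map_zero]
  exact map_zero _

variable (k : Type u) [Field k] [X.Over (Spec (CommRingCat.of k))]
  [IsProper (X ↘ Spec (CommRingCat.of k))] [IsIntegral X]

omit [IsProper (X ↘ Spec (CommRingCat.of k))] [IsIntegral X] in
theorem finrank_GA_eq (M : X.Modules) :
    Module.finrank k (Coh.HH X M 0) = Module.finrank k (GA (baseHom k X) M) :=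
  (hhZero k M).finrank_eq

include k in
/-- The divisor of a nonzero section on a curve. -/
theorem exists_cokernel (hdim : topologicalKrullDim X ≤ 1) {L : X.Modules} (hL : PicF.IsInvertible L)
    {s : Γ(L, ⊤)} (hs : s ≠ 0) :
    ∃ S : ShortComplex X.Modules, S.ShortExact ∧ S.X₁ = Coh.structureModule X ∧ S.X₂ = L ∧
      Coh.IsCoh S.X₁ ∧ Coh.IsCoh S.X₂ ∧ Coh.IsCoh S.X₃ ∧
      (∀ q, 0 < q → Subsingleton (Coh.HH X S.X₃ q)) ∧
      (Module.finrank k (Coh.HH X S.X₃ 0) = 0 → IsZero S.X₃) := by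
  haveI := isNoetherian_of_proper k (X := X)
  haveI : X.IsSeparated := ⟨by rw [← terminal.comp_from (X ↘ Spec (CommRingCat.of k))]; infer_instance⟩
  haveI := mono_unitDesc hL hs
  have hO := isCoh_structureModule X
  have hLc := isCoh_of_isInvertible k hL
  have hQ : Coh.IsCoh (cokernel (unitDesc L s)) := isCoh_cokernel _ hO.1 hLc
  let T : Set X := (glocus L s : Set X)ᶜ
  have hT : IsClosed T := (glocus L s).2.isClosed_compl
  have hηT : genericPoint X ∉ T := fun h => h (genericPoint_mem_glocus hL hs)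
  have hsupp := support_cokernel_unitDesc (L := L) s
  have huniv : closure ({genericPoint X} : Set X) = Set.univ := genericPoint_spec X
  have hdimT : topologicalKrullDim T < (1 : ℕ) := by
    refine dim_lt_of_notMem hT (Set.subset_univ _) isClosed_univ huniv hηT ?_
    exact (Topology.IsInducing.subtypeVal.topologicalKrullDim_le).trans (by exact_mod_cast hdim)
  have hTc : ∀ t ∈ T, IsClosed ({t} : Set X) := fun t ht =>
    ((CurvesLib24.eq_genericPoint_or_isClosed hdim t).resolve_left fun h => hηT (h ▸ ht))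
  have hTf : T.Finite := by
    obtain ⟨S, hSf, hSc, hSi, hTS⟩ := NoetherianSpace.exists_finite_set_isClosed_irreducible hT
    rw [hTS]
    refine hSf.sUnion fun C hC => ?_
    have hsub : C ⊆ T := hTS ▸ Set.subset_sUnion_of_mem hC
    obtain ⟨c, hc⟩ := QuasiSober.sober (hSi C hC) (hSc C hC)
    have hcC : c ∈ C := by rw [← hc]; exact subset_closure rfl
    rw [← hc, (hTc c (hsub hcC)).closure_eq]
    exact Set.finite_singleton c
  refine ⟨ShortComplex.mk (unitDesc L s) (cokernel.π _) (cokernel.condition _),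
    { exact := ShortComplex.exact_of_g_is_cokernel _ (cokernelIsCokernel _) }, rfl, rfl, hO, hLc, hQ,
    fun q hq => ?_, fun h => ?_⟩
  · haveI := hQ.1
    exact subsingleton_HH_of_support (X := X) ⟨T, hT⟩ _ hQ.1 hsupp q
      (lt_of_lt_of_le hdimT (by exact_mod_cast hq))
  · refine isZero_of_finite_support hTf hTc hsupp fun t => ?_
    haveI := finite_HH_of_isCoh k hQ 0
    haveI : Subsingleton (Coh.HH X (cokernel (unitDesc L s)) 0) :=
      Module.finrank_zero_iff.1 h
    haveI : Subsingleton (GA (baseHom k X) (cokernel (unitDesc L s))) :=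
      (hhZero k _).symm.toEquiv.subsingleton
    exact Subsingleton.elim (α := GA (baseHom k X) (cokernel (unitDesc L s))) t 0

include k in
omit [IsProper (X ↘ Spec (CommRingCat.of k))] [IsIntegral X] in
theorem exists_ne_zero_of_nontrivial {L : X.Modules} (h : Nontrivial (Coh.HH X L 0)) :
    ∃ s : Γ(L, ⊤), s ≠ 0 := by
  haveI := h
  haveI : Nontrivial (GA (baseHom k X) L) := (hhZero k L).symm.toEquiv.nontrivial
  exact exists_ne (0 : GA (baseHom k X) L)

include k in
/-- An invertible module with a section has nonnegative degree, zero only if it is trivial, and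
`h⁰ ≤ h⁰(O) + deg`. -/
theorem deg_nonneg_of_section (hdim : topologicalKrullDim X ≤ 1) {L : X.Modules} (hL : PicF.IsInvertible L)
    (hs : Nontrivial (Coh.HH X L 0)) :
    0 ≤ Curv2.deg k X L 1 ∧ (Curv2.deg k X L 1 = 0 → Nonempty (L ≅ Coh.structureModule X)) ∧
    (Module.finrank k (Coh.HH X L 0) : ℤ) ≤
      Module.finrank k (Coh.HH X (Coh.structureModule X) 0) + Curv2.deg k X L 1 := by
  obtain ⟨s, hs0⟩ := exists_ne_zero_of_nontrivial k hs
  obtain ⟨S, hS, hS1, hS2, h1, h2, h3, hvan, hzero⟩ := exists_cokernel k hdim hL hs0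
  have he := euler_additive k X S hS h1 h2 h3
  rw [euler_eq_sum k X S.X₃ 0 (fun q hq => hvan q hq)] at he
  simp [Finset.sum_range_succ] at he
  have hdeg : Curv2.deg k X L 1 = (Module.finrank k (Coh.HH X S.X₃ 0) : ℤ) := by
    simp only [Curv2.deg, Nat.cast_one, one_mul]
    rw [← hS2, ← hS1]
    linarith
  refine ⟨hdeg ▸ Nat.cast_nonneg _, fun h => ?_, ?_⟩
  · rw [hdeg, Nat.cast_eq_zero] at h
    have hz := hzero h
    haveI := hS.mono_f
    haveI : Epi S.f := hS.exact.epi_f (hz.eq_of_tgt _ _)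
    haveI : IsIso S.f := isIso_of_mono_of_epi _
    exact ⟨(eqToIso hS2.symm ≪≫ (asIso S.f).symm ≪≫ eqToIso hS1)⟩
  · rw [hdeg, ← hS1, ← hS2, (HHBaseEquiv k S.X₁ 0).finrank_eq, (HHBaseEquiv k S.X₂ 0).finrank_eq,
      (HHBaseEquiv k S.X₃ 0).finrank_eq]
    haveI := finCoh_of_isProper (X ↘ Spec (CommRingCat.of k)) _ h1 0
    haveI := finCoh_of_isProper (X ↘ Spec (CommRingCat.of k)) _ h2 0
    haveI := finCoh_of_isProper (X ↘ Spec (CommRingCat.of k)) _ h3 0
    have hinj := postA_zero_injective (baseHom k X) hS (⊤ : X.Opens)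
    have hex := exact_postA (baseHom k X) hS (⊤ : X.Opens) 0
    let g := postA (baseHom k X) S.g (⊤ : X.Opens) 0
    rw [← LinearMap.finrank_range_add_finrank_ker g, LinearMap.exact_iff.1 hex,
      LinearMap.finrank_range_of_inj hinj, Nat.cast_add, add_comm]
    exact add_le_add_right (Nat.cast_le.2 (Submodule.finrank_le _)) _

include k in
theorem subsingleton_h0_of_deg_neg (hdim : topologicalKrullDim X ≤ 1) {L : X.Modules}
    (hL : PicF.IsInvertible L) (hd : Curv2.deg k X L 1 < 0) : Subsingleton (Coh.HH X L 0) := by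
  by_contra h
  rw [not_subsingleton_iff_nontrivial] at h
  exact absurd (deg_nonneg_of_section k hdim hL h).1 (not_le.2 hd)

end Groth.Agent.CurveRR24
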