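import Groth.Agent.CurveRR24.GG
import Groth.Agent.AmpleLib.Ample

/-!
# Invertible modules of positive degree on integral curves are ample
-/

set_option autoImplicit false
set_option linter.style.haveILetI false
set_option backward.isDefEq.respectTransparency.types false

universe u

open CategoryTheory CategoryTheory.Limits AlgebraicGeometry Opposite TopologicalSpace
open Groth.Agent.Coherent Groth.Agent.PicLib Groth.Agent.AmpleLib Groth.Agent.EulerLib

namespace Groth.Agent.CurveRR24

variable {X : Scheme.{u}}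

/-- A section locally in `I L` vanishes on the zeros of `I`. -/
theorem notMem_glocus_of_mem_range {I : X.IdealSheafData} {L : X.Modules} (hL : PicF.IsInvertible L)
    {t : Γ(L, ⊤)} {W : X.Opens} {z : Γ((twistSeq (ShortComplex.mk (ClSub.idealModι I) (ClSub.toSubscheme I)
      (kernel.condition (ClSub.toSubscheme I))) L).X₁, W)}
    (hz : (twistMul I L).app W z = resM L (le_top : W ≤ ⊤) t) {y : X} (hyW : y ∈ W) (hyI : y ∈ I.support) :
    y ∉ glocus L t := by
  intro hy
  obtain ⟨U, hyU, g₀, hg₀⟩ := exists_isGen hL y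
  let V := W ⊓ U
  let g := resM L (inf_le_right : V ≤ U) g₀
  have hg : IsGen L V g := hg₀.restrict inf_le_right
  obtain ⟨c, hc⟩ := (bijective_tmul_gen (M := ClSub.idealMod I) hg V le_rfl).2
    (resM (CohB1.tensorMod (ClSub.idealMod I) L) (inf_le_left : V ≤ W) z)
  beta_reduce at hc
  rw [resM_self] at hc
  have h1 : resM L (le_top : V ≤ ⊤) t = (show Γ(X, V) from (ClSub.idealModι I).app V c) • g := by
    rw [← twistMul_tmul, hc]
    refine Eq.trans ?_ (app_resM (twistMul I L) (inf_le_left : V ≤ W) z).symm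
    rw [hz, resM_resM]
  have h2 := glocus_inf t hg
  rw [hg.coef_eq le_rfl (r := (show Γ(X, V) from (ClSub.idealModι I).app V c))
    (by rw [resM_self]; exact h1.symm)] at h2
  exact basicOpen_idealModι_le I V c (h2.le ⟨hy, hyW, hyU⟩) hyI

variable (k : Type u) [Field k] [X.Over (Spec (CommRingCat.of k))]
  [IsProper (X ↘ Spec (CommRingCat.of k))] [IsIntegral X]

include k in
theorem h0_structure_pos : 0 < Module.finrank k (Coh.HH X (Coh.structureModule X) 0) := by
  haveI := isLocallyNoetherian_of_proper k (X := X)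
  haveI := finite_HH_of_isCoh k (isCoh_structureModule X) 0
  haveI : Nonempty (⊤ : X.Opens) := ⟨⟨Classical.arbitrary X, trivial⟩⟩
  haveI : Nontrivial (GA (baseHom k X) (Coh.structureModule X)) :=
    inferInstanceAs (Nontrivial Γ(X, ⊤))
  haveI : Nontrivial (Coh.HH X (Coh.structureModule X) 0) :=
    (hhZero k (Coh.structureModule X)).toEquiv.nontrivial
  exact Module.finrank_pos

/-- `H¹(I_Z L) = 0` in high degree, without assumption on the constants. -/
theorem subsingleton_h1_idealTwist' (hdim : topologicalKrullDim X ≤ 1) (Z : X.IdealSheafData)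
    (hη : genericPoint X ∉ (Z.support : Set X)) {L : X.Modules} (hL : PicF.IsInvertible L)
    (hdeg : 2 * (Curv2.genus k X : ℤ) + Module.finrank k (Coh.HH X (ClSub.quotMod Z) 0) ≤
      Curv2.deg k X L 1) :
    Subsingleton (Coh.HH X (CohB1.tensorMod (ClSub.idealMod Z) L) 1) := by
  by_contra h
  rw [not_subsingleton_iff_nontrivial] at h
  haveI := isLocallyNoetherian_of_proper k (X := X)
  have hM : Coh.IsCoh (CohB1.tensorMod (ClSub.idealMod Z) L) := isCoh_twist hL (isCoh_idealMod' Z)
  haveI := mono_twistMul Z hL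
  have hle := h0_le_genus_of_h1 k hdim hM hL (twistMul Z L) h
  have hchi := euler_idealTwist k hdim Z hη hL
  rw [euler_eq_h0_sub_h1 k hdim _ hM.1] at hchi
  haveI := finite_HH_of_isCoh k hM 1
  have hpos : 0 < Module.finrank k (Coh.HH X (CohB1.tensorMod (ClSub.idealMod Z) L) 1) :=
    Module.finrank_pos
  have h0 := h0_structure_pos k (X := X)
  simp only [Curv2.deg, Nat.cast_one, one_mul, euler_structure k hdim] at hdeg
  omega

theorem deg_tensorPow (hdim : topologicalKrullDim X ≤ 1) {L : X.Modules} (hL : PicF.IsInvertible L) :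
    ∀ n : ℕ, Curv2.deg k X (CohB1.tensorPow L n) 1 = n * Curv2.deg k X L 1
  | 0 => by
    show Curv2.deg k X (Coh.structureModule X) 1 = _
    rw [deg_structure]; simp
  | n + 1 => by
    show Curv2.deg k X (CohB1.tensorMod (CohB1.tensorPow L n) L) 1 = _
    rw [deg_tensor k hdim (isInvertible_tensorPow hL n) hL, deg_tensorPow hdim hL n]
    push_cast; ring

include k in
/-- Sections with prescribed behaviour: vanishing on a finite closed set, generating at a point outside. -/
theorem exists_section_vanishing (hdim : topologicalKrullDim X ≤ 1) {L : X.Modules}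
    (hL : PicF.IsInvertible L) {T : Set X} (hT : IsClosed T) (hη : genericPoint X ∉ T)
    {P : X} (hP : IsClosed ({P} : Set X)) (hPT : P ∉ T) (hPη : P ≠ genericPoint X)
    (hdeg : 2 * (Curv2.genus k X : ℤ) + Module.finrank k (Coh.HH X (ClSub.quotMod
      (Scheme.IdealSheafData.vanishingIdeal ⟨T ∪ {P}, hT.union hP⟩)) 0) ≤ Curv2.deg k X L 1) :
    ∃ t : Γ(L, ⊤), P ∈ glocus L t ∧ ∀ y ∈ T, y ∉ glocus L t := by
  haveI := isLocallyNoetherian_of_proper k (X := X)
  let Z := Scheme.IdealSheafData.vanishingIdeal ⟨T ∪ {P}, hT.union hP⟩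
  have hsuppZ : (Z.support : Set X) = T ∪ {P} := Scheme.IdealSheafData.coe_support_vanishingIdeal ..
  have hηZ : genericPoint X ∉ (Z.support : Set X) := by
    rw [hsuppZ]; rintro (h | h)
    · exact hη h
    · exact hPη h.symm
  let S := twistSeq (ShortComplex.mk (ClSub.idealModι Z) (ClSub.toSubscheme Z)
    (kernel.condition (ClSub.toSubscheme Z))) L
  have hS : S.ShortExact := twistSeq_shortExact hL (shortExact_ideal Z)
  have hQs : CohB1.support S.X₃ ⊆ T ∪ {P} := by
    show CohB1.support (CohB1.tensorMod (ClSub.quotMod Z) L) ⊆ _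
    rw [support_twist hL, ← hsuppZ]; exact support_quotMod_subset Z
  obtain ⟨U₀, hPU₀, g₀, hg₀⟩ := exists_isGen hL P
  let V : X.Opens := U₀ ⊓ ⟨Tᶜ, hT.isOpen_compl⟩
  have hPV : P ∈ V := ⟨hPU₀, hPT⟩
  let g := resM L (inf_le_left : V ≤ U₀) g₀
  have hg : IsGen L V g := hg₀.restrict inf_le_left
  let O : X.Opens := ⟨({P} : Set X)ᶜ, hP.isOpen_compl⟩
  let a : Γ(S.X₃, V) := S.g.app V ((unitTensorIso L).inv.app V g)
  let F : TopCat.Sheaf Ab X := ⟨S.X₃.presheaf, S.X₃.isSheaf⟩
  let U : ULift.{u} Bool → X.Opens := fun b => if b.down then V else O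
  let sf : ∀ b, ToType (F.presheaf.obj (op (U b))) := fun b =>
    match b with
    | ⟨true⟩ => (a : Γ(S.X₃, V))
    | ⟨false⟩ => (0 : Γ(S.X₃, O))
  have hdis : ∀ W : X.Opens, W ≤ V → W ≤ O → Subsingleton Γ(S.X₃, W) := fun W h1 h2 =>
    subsingleton_sections_of_disjoint S.X₃ W (Set.disjoint_left.2 fun x hx hxs => by
      rcases hQs hxs with h | h
      · exact (h1 hx).2 h
      · exact h2 hx h)
  have hcompat : TopCat.Presheaf.IsCompatible F.presheaf U sf := by
    rintro ⟨_ | _⟩ ⟨_ | _⟩
    · rfl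
    · exact (hdis _ inf_le_right inf_le_left).elim _ _
    · exact (hdis _ inf_le_left inf_le_right).elim _ _
    · rfl
  obtain ⟨z, hz, -⟩ := TopCat.Sheaf.existsUnique_gluing' F U ⊤ (fun _ => homOfLE le_top)
    (fun y _ => by
      by_cases h : y = P
      · exact Opens.mem_iSup.2 ⟨⟨true⟩, by rw [h]; exact hPV⟩
      · exact Opens.mem_iSup.2 ⟨⟨false⟩, h⟩) sf hcompat
  have hzV : resM S.X₃ (le_top : V ≤ ⊤) (z : Γ(S.X₃, ⊤)) = a := hz ⟨true⟩
  have hzO : resM S.X₃ (le_top : O ≤ ⊤) (z : Γ(S.X₃, ⊤)) = 0 := hz ⟨false⟩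
  have h1 : Subsingleton (Coh.HH X S.X₁ 1) := subsingleton_h1_idealTwist' k hdim Z hηZ hL hdeg
  haveI : Subsingleton (HA (baseHom k X) S.X₁ (⊤ : X.Opens) 1) :=
    haveI := h1
    (HHBaseEquiv k S.X₁ 1).symm.toEquiv.subsingleton
  obtain ⟨t', ht'⟩ := (deltaG_eq_zero_iff (baseHom k X) hS (show GA (baseHom k X) S.X₃ from z)).1
    (Subsingleton.elim _ _)
  let u : Γ(CohB1.tensorMod (Coh.structureModule X) L, ⊤) := t'
  let G : CohB1.tensorMod (Coh.structureModule X) L ⟶ S.X₃ := S.g
  have ht'' : G.app ⊤ u = (z : Γ(S.X₃, ⊤)) := ht'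
  let t : Γ(L, ⊤) := (unitTensorIso L).hom.app ⊤ u
  refine ⟨t, ?_, fun y hy => ?_⟩
  · by_contra hPt
    let d : Γ(CohB1.tensorMod (Coh.structureModule X) L, V) :=
      resM _ (le_top : V ≤ ⊤) u - (unitTensorIso L).inv.app V g
    have hd : G.app V d = 0 := by
      show G.app V (resM _ (le_top : V ≤ ⊤) u - (unitTensorIso L).inv.app V g) = 0
      rw [map_sub, app_resM, ht'', hzV]
      exact sub_self _
    obtain ⟨w, hw⟩ := sections_exact hS d hd
    obtain ⟨c, hc⟩ := (bijective_tmul_gen (M := ClSub.idealMod Z) hg V le_rfl).2 w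
    beta_reduce at hc
    rw [resM_self] at hc
    have h3 : resM L (le_top : V ≤ ⊤) t - g = (show Γ(X, V) from (ClSub.idealModι Z).app V c) • g := by
      rw [← twistMul_tmul, hc]
      refine Eq.trans ?_ (congrArg ((unitTensorIso L).hom.app V) hw).symm
      show resM L (le_top : V ≤ ⊤) t - g =
        (unitTensorIso L).hom.app V (resM _ (le_top : V ≤ ⊤) u - (unitTensorIso L).inv.app V g)
      rw [map_sub, app_resM]
      congr 1
      exact (congrArg (fun φ => φ.app V g) (unitTensorIso L).inv_hom_id).symm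
    have h4 : (1 + (show Γ(X, V) from (ClSub.idealModι Z).app V c)) • g = resM L (le_top : V ≤ ⊤) t := by
      rw [add_smul, one_smul, ← h3, add_sub_cancel]
    have h5 := glocus_inf t hg
    rw [hg.coef_eq le_rfl (r := 1 + (show Γ(X, V) from (ClSub.idealModι Z).app V c))
      (by rw [resM_self]; exact h4)] at h5
    have hnot : P ∉ X.basicOpen (1 + (show Γ(X, V) from (ClSub.idealModι Z).app V c)) := fun h =>
      hPt (h5.ge h).1
    have hnot2 : P ∉ X.basicOpen (show Γ(X, V) from (ClSub.idealModι Z).app V c) := fun h =>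
      basicOpen_idealModι_le Z V c h (hsuppZ.ge (Or.inr rfl))
    rw [X.mem_basicOpen _ P hPV, ← mem_nonunits_iff] at hnot hnot2
    have hsum := (IsLocalRing.maximalIdeal (X.presheaf.stalk P)).sub_mem hnot hnot2
    rw [← map_sub, add_sub_cancel_right, map_one] at hsum
    exact hsum isUnit_one
  · have hd : G.app O (resM _ (le_top : O ≤ ⊤) u) = 0 := by
      rw [app_resM, ht'', hzO]
    obtain ⟨w, hw⟩ := sections_exact hS _ hd
    have h2 : (twistMul Z L).app O w = resM L (le_top : O ≤ ⊤) t := by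
      refine (congrArg ((unitTensorIso L).hom.app O) hw).trans ?_
      exact app_resM (unitTensorIso L).hom (le_top : O ≤ ⊤) u
    exact notMem_glocus_of_mem_range hL h2 (show y ∈ O from fun h => hPT (h ▸ hy))
      (hsuppZ.ge (Or.inl hy))

include k in
/-- Positive degree implies ample. -/
theorem isAmple_of_deg_pos (hdim : topologicalKrullDim X = 1) {L : X.Modules} (hL : PicF.IsInvertible L)
    (hdeg : 0 < Curv2.deg k X L 1) : CohB1.IsAmple L := by
  haveI := isNoetherian_of_proper k (X := X)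
  refine isAmple_iff_affGlocus.2 ⟨hL, inferInstance, fun x => ?_⟩
  obtain ⟨P, hPx, hP⟩ := (isClosed_closure (s := ({x} : Set X))).exists_closed_singleton ⟨x, subset_closure rfl⟩
  obtain ⟨U, hU, hPU, -⟩ := exists_isAffineOpen_mem_and_subset (x := P) (U := ⊤) trivial
  have hηU : genericPoint X ∈ U := (genericPoint_spec X).mem_open_set_iff U.2 |>.2 ⟨P, trivial, hPU⟩
  have hT : IsClosed ((U : Set X)ᶜ) := U.2.isClosed_compl
  have hPη : P ≠ genericPoint X := fun h =>
    CurvesLib24.not_isClosed_genericPoint hdim (h ▸ hP)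
  let ℓ := Module.finrank k (Coh.HH X (ClSub.quotMod
    (Scheme.IdealSheafData.vanishingIdeal ⟨(U : Set X)ᶜ ∪ {P}, hT.union hP⟩)) 0)
  let m := 2 * Curv2.genus k X + ℓ + 1
  have hm : 2 * (Curv2.genus k X : ℤ) + ℓ ≤ Curv2.deg k X (CohB1.tensorPow L m) 1 := by
    rw [deg_tensorPow k hdim.le hL]
    have : ((m : ℕ) : ℤ) * 1 ≤ (m : ℤ) * Curv2.deg k X L 1 := by gcongr; omega
    simp only [m] at this ⊢
    push_cast at this ⊢
    omega
  obtain ⟨t, htP, htT⟩ := exists_section_vanishing k hdim.le (isInvertible_tensorPow hL m) hT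
    (fun h => h hηU) hP (fun h => h hPU) hPη hm
  have hle : glocus (CohB1.tensorPow L m) t ≤ U := fun y hy => by
    by_contra hyU
    exact htT y hyU hy
  refine ⟨m, by omega, t, (specializes_iff_mem_closure.2 hPx).mem_open (glocus _ t).2 htP, le_top, ?_⟩
  rw [← inf_eq_left.2 hle]
  exact isAffineOpen_glocus_inf (isInvertible_tensorPow hL m) t hU

end Groth.Agent.CurveRR24
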