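import Groth.Agent.CurveRR24.VeryAmpleField

/-!
# Spanning families of sections in degree `≥ 2g + 1` give closed immersions
-/

set_option autoImplicit false
set_option linter.style.haveILetI false
set_option backward.isDefEq.respectTransparency.types false
set_option maxHeartbeats 1000000

universe u

open CategoryTheory CategoryTheory.Limits AlgebraicGeometry Opposite TopologicalSpace TensorProduct
open Groth.Agent.Coherent Groth.Agent.PicLib Groth.Agent.AmpleLib Groth.Agent.EulerLib

namespace Groth.Agent.CurveRR24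

/-- A spanning family of sections of a module of degree `≥ 2g + 1` embeds. -/
theorem isClosedImmersion_of_span (k : Type u) [Field k] {X : Scheme.{u}}
    [X.Over (Spec (CommRingCat.of k))] [IsProper (X ↘ (Spec (CommRingCat.of k)))]
    [GeometricallyIntegral (X ↘ (Spec (CommRingCat.of k)))] (hdim : topologicalKrullDim X = 1)
    (h0 : Module.finrank k (Coh.HH X (Coh.structureModule X) 0) = 1) {L : X.Modules}
    (hL : PicF.IsInvertible L) (hdeg : 2 * (Curv2.genus k X : ℤ) + 1 ≤ Curv2.deg k X L 1)
    {n : ℕ} (σ : Fin (n + 1) → Γ(L, ⊤))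
    (hσ : ∀ s : Γ(L, ⊤), ∃ c : Fin (n + 1) → k,
      ∑ i, ProjUP.toGlobal (X ↘ Spec (CommRingCat.of k)) (c i) • σ i = s)
    (r : X ⟶ CohB1.ProjSpace n k) (hr : r ≫ CohB1.ProjSpace.toSpec n k = X ↘ Spec (CommRingCat.of k))
    (τ : EmbLib24.pbO r ≅ L) (hτ : ∀ i, τ.hom.app ⊤ (EmbLib24.sig r i) = σ i) :
    IsClosedImmersion r := by
  classical
  haveI : IsIntegral X := GeometricallyIntegral.isIntegral_of_subsingleton (X ↘ (Spec (CommRingCat.of k)))
  haveI := isNoetherian_of_proper k (X := X)
  let q := X ↘ Spec (CommRingCat.of k)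
  have hLc := isCoh_of_isInvertible k hL
  haveI := hLc.1
  have h1 : Subsingleton (Coh.HH X L 1) := subsingleton_h1_of_deg k hdim.le h0 hL (by omega)
  have hrr := riemann_roch k hdim.le hL
  rw [h0, Module.finrank_zero_of_subsingleton (M := Coh.HH X L 1)] at hrr
  have hgen := span_germ_eq_top k hdim.le hLc hL (𝟙 L) (by omega)
  let φ := baseHom k X
  have hcov : ∀ x : X, ∃ i, x ∈ glocus L (σ i) := fun x => by
    by_contra hcon
    push Not at hcon
    have hle : Submodule.span (X.presheaf.stalk x) (Set.range fun s : Γ(L, ⊤) => L.presheaf.germ ⊤ x trivial s) ≤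
        IsLocalRing.maximalIdeal (X.presheaf.stalk x) •
          (⊤ : Submodule (X.presheaf.stalk x) (L.presheaf.stalk x)) := by
      refine Submodule.span_le.2 ?_
      rintro _ ⟨s, rfl⟩
      obtain ⟨c, rfl⟩ := hσ s
      show L.presheaf.germ ⊤ x trivial (∑ i, ProjUP.toGlobal q (c i) • σ i) ∈ _
      rw [map_sum]
      refine Submodule.sum_mem _ fun i _ => ?_
      rw [QCohLoc.germ_smul']
      exact Submodule.smul_mem _ _ (not_not.1 ((mem_glocus_iff_germ hL _ x).not.1 (hcon i)))
    rw [hgen x] at hle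
    obtain ⟨U, hxU, e, he⟩ := exists_isGen hL x
    have h3 := (EmbLib24.mem_smul_top_iff _ (EmbLib24.bijective_smul_germ he hxU) _ (1 : X.presheaf.stalk x)).1
      (hle Submodule.mem_top)
    exact (IsLocalRing.maximalIdeal.isMaximal _).ne_top ((Ideal.eq_top_iff_one _).2 h3)
  let K := AlgebraicClosure k
  let X' := pullback q (Spec.map (CommRingCat.ofHom (algebraMap k K)))
  let g : X' ⟶ X := pullback.fst _ _
  let _ : X'.Over (Spec (CommRingCat.of K)) := ⟨pullback.snd _ _⟩
  let q' := X' ↘ Spec (CommRingCat.of K)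
  have hpb : IsPullback g q' q (Spec.map (CommRingCat.ofHom (algebraMap k K))) :=
    IsPullback.of_hasPullback _ _
  haveI : IsProper q' := inferInstanceAs (IsProper (pullback.snd q (Spec.map (CommRingCat.ofHom (algebraMap k K)))))
  haveI : IsIntegral X' := GeometricallyIntegral.geometrically_isIntegral (f := q)
    (Spec.map (CommRingCat.ofHom (algebraMap k K))) g q' hpb
  haveI := isNoetherian_of_proper K (X := X')
  haveI : IsAffineHom g :=
    MorphismProperty.IsStableUnderBaseChange.of_isPullback (P := @IsAffineHom) hpb.flip inferInstance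
  have hdim' : topologicalKrullDim X' = 1 := (DimLib.topologicalKrullDim_bc q K).trans hdim
  let L' := (Scheme.Modules.pullback g).obj L
  have hL' : PicF.IsInvertible L' := PicLoc.isInvertible_pullback g hL
  let σ' : Fin (n + 1) → Γ(L', ⊤) := fun i => pullSec g (σ i)
  have hcov' : ∀ x : X', ∃ i, x ∈ glocus L' (σ' i) := fun x => by
    obtain ⟨i, hi⟩ := hcov (g x)
    exact ⟨i, (glocus_pullSec g hL (σ i)).ge hi⟩
  obtain ⟨r', hr', τ', hτ'⟩ := UPLib.exists_hom_projSpace n q' hL' σ' hcov'
  have hsq : r' ≫ projBC k K n = g ≫ r :=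
    comp_projBC_eq g hpb.w hL hr τ hr' τ' fun i => (hτ' i).trans (congrArg (pullSec g) (hτ i).symm)
  have hcomm : ∀ a, g.appTop (baseHom k X a) = baseHom K X' (algebraMap k K a) := appTop_toGlobal g hpb
  obtain ⟨E, hE⟩ := exists_baseChange_sections g (baseHom k X) (baseHom K X') L hcomm
    (fun U hU => isBCPushout_of_isPullback g hpb hU)
  have hσ' : ∀ s : Γ(L', ⊤), ∃ c : Fin (n + 1) → K,
      τ'.hom.app ⊤ (∑ i, ProjUP.toGlobal q' (c i) • EmbLib24.sig r' i) = s := fun s => by
    suffices key : ∀ z, ∃ c : Fin (n + 1) → K, ∑ i, ProjUP.toGlobal q' (c i) • σ' i = E z by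
      obtain ⟨c, hc⟩ := key (E.symm s)
      rw [E.apply_symm_apply] at hc
      refine ⟨c, Eq.trans ?_ hc⟩
      rw [map_sum]
      exact Finset.sum_congr rfl fun i _ => (τ'.hom.app_smul (U := ⊤) _ _).trans (congrArg (_ • ·) (hτ' i))
    intro z
    induction z with
    | zero => exact ⟨0, by simp⟩
    | tmul b x =>
      obtain ⟨c, hc⟩ := hσ (secTop (baseHom k X) L x)
      refine ⟨fun i => b * algebraMap k K (c i), ?_⟩
      rw [hE, ← hc]
      have h2 : (show Γ(L', ⊤) from pullSec g (∑ i, ProjUP.toGlobal q (c i) • σ i)) =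
          ∑ i, ProjUP.toGlobal q' (algebraMap k K (c i)) • σ' i := by
        refine (map_sum (((Scheme.Modules.pullbackPushforwardAdjunction g).unit.app L).app ⊤).hom _ _).trans
          (Finset.sum_congr rfl fun i _ => ?_)
        refine (pullSec_smul g _ _).trans (congrArg (fun t : Γ(X', ⊤) => t • σ' i) ?_)
        exact hcomm (c i)
      refine Eq.trans ?_ (congrArg (fun t : Γ(L', ⊤) => baseHom K X' b • t) h2).symm
      rw [Finset.smul_sum]
      refine Finset.sum_congr rfl fun i _ => ?_
      rw [map_mul, mul_smul]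
      rfl
    | add a b ha hb =>
      obtain ⟨c, hc⟩ := ha
      obtain ⟨d, hd⟩ := hb
      refine ⟨c + d, ?_⟩
      rw [map_add, ← hc, ← hd, ← Finset.sum_add_distrib]
      exact Finset.sum_congr rfl fun i _ => by rw [Pi.add_apply, map_add, add_smul]
  haveI : IsClosedImmersion r' := by
    refine isClosedImmersion_of_genus_lt K hdim'.le hL' r' hr' τ' hσ' fun P hP => ?_
    obtain ⟨-, hge⟩ := h0_tensor_ptIdeal K hP hL'
    rw [finrank_resField K hP, finrank_HH_congr K (tensorComm L' (ClSub.idealMod (ptIdeal P hP))) 0] at hge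
    have e1 : Module.finrank K (Coh.HH X' L' 0) = Module.finrank k (Coh.HH X L 0) := finrank_HH_bc hpb L 0
    have e2 : Curv2.genus K X' = Curv2.genus k X := genus_bc hpb
    omega
  exact isClosedImmersion_of_bc hpb hr hr' hsq

end Groth.Agent.CurveRR24
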