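import Groth.Agent.CurveRR24.Point
import Mathlib.RingTheory.DiscreteValuationRing.Basic

/-!
# The ideal of a point with principal maximal ideal is invertible
-/

set_option autoImplicit false
set_option linter.style.haveILetI false
set_option backward.isDefEq.respectTransparency.types false

universe u

open CategoryTheory CategoryTheory.Limits AlgebraicGeometry Opposite TopologicalSpace
open Groth.Agent.Coherent Groth.Agent.PicLib Groth.Agent.AmpleLib Groth.Agent.EulerLib

namespace Groth.Agent.CurveRR24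

variable {X : Scheme.{u}} {P : X} (hP : IsClosed ({P} : Set X))

theorem mem_ptIdeal_iff (U : X.affineOpens) (a : Γ(X, U)) :
    a ∈ (ptIdeal P hP).ideal U ↔ P ∉ X.basicOpen a := by
  by_cases hPU : P ∈ U.1
  · rw [mem_ideal_ptIdeal_iff hP U hPU, X.evaluation_eq_zero_iff_notMem_basicOpen]
  · refine iff_of_true ?_ fun h => hPU (X.basicOpen_le a h)
    rw [Scheme.IdealSheafData.vanishingIdeal_ideal, PrimeSpectrum.mem_vanishingIdeal]
    intro p hp
    have hp' : U.2.fromSpec p = P := hp
    exact absurd (hp' ▸ U.2.range_fromSpec.subset ⟨p, rfl⟩) hPU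

theorem ker_fromSpecResidueField [QuasiCompact (X.fromSpecResidueField P)] :
    (X.fromSpecResidueField P).ker = ptIdeal P hP := by
  refine Scheme.IdealSheafData.ext (funext fun U => Ideal.ext fun a => ?_)
  rw [Scheme.Hom.ker_apply, RingHom.mem_ker, mem_ptIdeal_iff hP U a,
    ← basicOpen_eq_bot_iff, ← Scheme.preimage_basicOpen]
  constructor
  · intro h hmem
    obtain ⟨s⟩ : Nonempty (Spec (X.residueField P)) := inferInstance
    have : s ∈ (X.fromSpecResidueField P) ⁻¹ᵁ X.basicOpen a := by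
      show X.fromSpecResidueField P s ∈ X.basicOpen a
      rw [Scheme.fromSpecResidueField_apply]; exact hmem
    rw [h] at this
    exact this
  · intro h
    refine Opens.ext (Set.eq_empty_of_forall_notMem fun s hs => h ?_)
    have : X.fromSpecResidueField P s ∈ X.basicOpen a := hs
    rwa [Scheme.fromSpecResidueField_apply] at this

theorem quasiCompact_fromSpecResidueField (P : X) : QuasiCompact (X.fromSpecResidueField P) := by
  refine ⟨fun U _ _ => ?_⟩
  haveI : Subsingleton (Spec (X.residueField P) : Scheme.{u}) := inferInstanceAs (Subsingleton (PrimeSpectrum _))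
  exact (Set.toFinite _).isCompact

theorem ker_fromSpecResidueField' :
    (X.fromSpecResidueField P).ker = ptIdeal P hP :=
  haveI := quasiCompact_fromSpecResidueField P
  ker_fromSpecResidueField hP

theorem isGen_idealMod_off :
    ∃ k : Γ(ClSub.idealMod (ptIdeal P hP), ⟨({P} : Set X)ᶜ, hP.isOpen_compl⟩),
      IsGen (ClSub.idealMod (ptIdeal P hP)) ⟨({P} : Set X)ᶜ, hP.isOpen_compl⟩ k := by
  let I := ptIdeal P hP
  have hO : (⟨(I.support : Set X)ᶜ, I.support.2.isOpen_compl⟩ : X.Opens) =
      ⟨({P} : Set X)ᶜ, hP.isOpen_compl⟩ := Opens.ext (by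
    show (I.support : Set X)ᶜ = _
    rw [support_ptIdeal hP]; rfl)
  obtain ⟨k, hk⟩ := exists_idealModι_eq_one I
  refine hO ▸ ⟨k, fun V hV => ?_⟩
  haveI := mono_idealModι I
  have hkV : (ClSub.idealModι I).app V (resM _ hV k) = (1 : Γ(X, V)) := by
    rw [app_resM]
    exact (congrArg (resM (Coh.structureModule X) hV) hk).trans (map_one (res hV))
  have key : ∀ r : Γ(X, V), (ClSub.idealModι I).app V (r • resM _ hV k) = r := fun r => by
    rw [Scheme.Modules.Hom.app_smul, hkV]; exact mul_one r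
  refine ⟨fun a b h => ?_, fun x => ⟨(ClSub.idealModι I).app V x, ?_⟩⟩
  · exact (key a).symm.trans ((congrArg _ h).trans (key b))
  · exact app_injective_of_mono (ClSub.idealModι I) V (key _)

theorem isLeftRegular_res {W : X.Opens} (hW : IsAffineOpen W) {a : Γ(X, W)} (ha : IsLeftRegular a)
    {V : X.Opens} (hV : V ≤ W) : IsLeftRegular (res hV a) := by
  intro b c hbc
  simp only at hbc
  refine TopCat.Presheaf.section_ext X.sheaf V b c fun z hz => ?_
  obtain ⟨g, hg, hzg⟩ := hW.exists_basicOpen_le (V := V) ⟨z, hz⟩ (hV hz)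
  haveI : IsLocalization.Away g Γ(X, X.basicOpen g) := hW.isLocalization_basicOpen g
  have hreg : IsLeftRegular (res (X.basicOpen_le g) a) := by
    intro u v huv
    simp only at huv
    obtain ⟨⟨u', ⟨_, n, rfl⟩⟩, hu⟩ := IsLocalization.surj (Submonoid.powers g) (u - v)
    have h0 : algebraMap Γ(X, W) Γ(X, X.basicOpen g) (a * u') = algebraMap Γ(X, W) Γ(X, X.basicOpen g) 0 := by
      rw [map_zero, map_mul, ← hu]
      show res _ a * ((u - v) * _) = 0
      rw [← mul_assoc, mul_sub, huv, sub_self, zero_mul]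
    obtain ⟨⟨w, hw⟩, hwu⟩ := (IsLocalization.eq_iff_exists (Submonoid.powers g) _).1 h0
    have h1 : w * u' = 0 := ha (by
      show a * (w * u') = a * 0
      rw [mul_zero, mul_left_comm]; simpa using hwu)
    have h2 := congrArg (algebraMap Γ(X, W) Γ(X, X.basicOpen g)) h1
    rw [map_mul, map_zero] at h2
    have h3 : algebraMap Γ(X, W) Γ(X, X.basicOpen g) u' = 0 :=
      (IsLocalization.map_units _ (⟨w, hw⟩ : Submonoid.powers g)).mul_right_eq_zero.1 h2
    refine sub_eq_zero.1 ((IsLocalization.map_units _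
      (⟨g ^ n, n, rfl⟩ : Submonoid.powers g)).mul_left_eq_zero.1 (hu.trans h3))
  have e : res hg b = res hg c := hreg (by
    show res _ a * res hg b = res _ a * res hg c
    rw [show res (X.basicOpen_le g) a = res hg (res hV a) from (PicLib.res_res hV hg a).symm,
      ← map_mul, ← map_mul, hbc])
  exact (TopCat.Presheaf.germ_res_apply X.presheaf (homOfLE hg) z hzg b).symm.trans
    ((congrArg (X.presheaf.germ (X.basicOpen g) z hzg) e).trans
      (TopCat.Presheaf.germ_res_apply X.presheaf (homOfLE hg) z hzg c))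

/-- An ideal principal on an affine open, by a regular element, is generated by it. -/
theorem bijective_smul_of_affine_gen (I : X.IdealSheafData) {W : X.Opens}
    {k : Γ(ClSub.idealMod I, W)} {a : Γ(X, W)} (hW : IsAffineOpen W)
    (hk : (ClSub.idealModι I).app W k = a) (ha : IsLeftRegular a)
    (hgen : I.ideal ⟨W, hW⟩ = Ideal.span {a}) : IsGen (ClSub.idealMod I) W k := by
  haveI := mono_idealModι I
  have key : ∀ (V : X.Opens) (hV : V ≤ W) (r : Γ(X, V)),
      (ClSub.idealModι I).app V (r • resM _ hV k) = r * res hV a := fun V hV r => by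
    rw [Scheme.Modules.Hom.app_smul, app_resM, hk]; rfl
  intro V hV
  constructor
  · intro b c h
    refine isLeftRegular_res hW ha hV ?_
    show res hV a * b = res hV a * c
    rw [mul_comm _ b, mul_comm _ c, ← key V hV b, ← key V hV c]
    exact congrArg _ h
  · intro x
    let y : Γ(X, V) := (ClSub.idealModι I).app V x
    have hloc : ∀ z : V, ∃ g : Γ(X, W), ∃ hg : X.basicOpen g ≤ V, z.1 ∈ X.basicOpen g ∧
        ∃ r : Γ(X, X.basicOpen g), res hg y = r * res (X.basicOpen_le g) a := by
      intro z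
      obtain ⟨g, hg, hzg⟩ := hW.exists_basicOpen_le (V := V) z (hV z.2)
      refine ⟨g, hg, hzg, ?_⟩
      have hy : res hg y ∈ I.ideal ⟨X.basicOpen g, hW.basicOpen g⟩ := by
        rw [← I.ker_subschemeι_app ⟨X.basicOpen g, hW.basicOpen g⟩, RingHom.mem_ker]
        exact (mem_range_idealModι I _ _).1 ⟨resM _ hg x, app_resM _ hg x⟩
      rw [← I.map_ideal (U := ⟨X.basicOpen g, hW.basicOpen g⟩) (V := ⟨W, hW⟩) (X.basicOpen_le g),
        hgen, Ideal.map_span, Set.image_singleton] at hy
      obtain ⟨r, hr⟩ := Ideal.mem_span_singleton'.1 hy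
      exact ⟨r, hr.symm⟩
    choose g hg hzg r hr using hloc
    obtain ⟨b, hb, -⟩ := TopCat.Sheaf.existsUnique_gluing' X.sheaf (fun z : V => X.basicOpen (g z)) V
      (fun z => homOfLE (hg z)) (fun z hz => Opens.mem_iSup.2 ⟨⟨z, hz⟩, hzg ⟨z, hz⟩⟩) r
      (fun i j => by
        refine isLeftRegular_res hW ha (inf_le_left.trans (X.basicOpen_le (g i))) ?_
        show res _ a * res (inf_le_left : X.basicOpen (g i) ⊓ X.basicOpen (g j) ≤ X.basicOpen (g i)) (r i) =
          res _ a * res (inf_le_right : X.basicOpen (g i) ⊓ X.basicOpen (g j) ≤ X.basicOpen (g j)) (r j)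
        have hi := congrArg (res (inf_le_left : X.basicOpen (g i) ⊓ X.basicOpen (g j) ≤ X.basicOpen (g i))) (hr i)
        have hj := congrArg (res (inf_le_right : X.basicOpen (g i) ⊓ X.basicOpen (g j) ≤ X.basicOpen (g j))) (hr j)
        rw [map_mul, PicLib.res_res, PicLib.res_res] at hi hj
        rw [mul_comm, ← hi, mul_comm, ← hj])
    refine ⟨(b : Γ(X, V)), app_injective_of_mono (ClSub.idealModι I) V ?_⟩
    refine (key V hV b).trans ?_
    refine TopCat.Presheaf.section_ext X.sheaf V _ _ fun z hz => ?_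
    have e : res (hg ⟨z, hz⟩) ((show Γ(X, V) from b) * res hV a) = res (hg ⟨z, hz⟩) y := by
      rw [map_mul, PicLib.res_res, hr ⟨z, hz⟩]
      exact congrArg (· * _) (hb ⟨z, hz⟩)
    exact (TopCat.Presheaf.germ_res_apply X.presheaf (homOfLE (hg ⟨z, hz⟩)) z (hzg ⟨z, hz⟩) _).symm.trans
      ((congrArg (X.presheaf.germ (X.basicOpen (g ⟨z, hz⟩)) z (hzg ⟨z, hz⟩)) e).trans
        (TopCat.Presheaf.germ_res_apply X.presheaf (homOfLE (hg ⟨z, hz⟩)) z (hzg ⟨z, hz⟩) _))

/-- A point whose local ring has maximal ideal generated by a regular element has invertible ideal. -/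
theorem exists_isGen_idealMod_at [IsLocallyNoetherian X] (t : X.presheaf.stalk P)
    (ht : IsLocalRing.maximalIdeal (X.presheaf.stalk P) = Ideal.span {t})
    (hreg : IsLeftRegular t) :
    ∃ U : X.Opens, P ∈ U ∧ ∃ s : Γ(ClSub.idealMod (ptIdeal P hP), U),
      IsGen (ClSub.idealMod (ptIdeal P hP)) U s := by
  classical
  let I := ptIdeal P hP
  obtain ⟨U, hU, hPU, -⟩ := exists_isAffineOpen_mem_and_subset (x := P) (U := ⊤) trivial
  haveI : IsNoetherianRing Γ(X, U) := IsLocallyNoetherian.component_noetherian ⟨U, hU⟩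
  let x : U := ⟨P, hPU⟩
  let p := (hU.primeIdealOf x).asIdeal
  let _ := (X.presheaf.algebra_section_stalk x)
  haveI hloc : IsLocalization.AtPrime (X.presheaf.stalk P) p := hU.isLocalization_stalk x
  let φ := algebraMap Γ(X, U) (X.presheaf.stalk P)
  -- clear the denominator of `t`
  obtain ⟨⟨a, s₀⟩, ha⟩ := IsLocalization.surj p.primeCompl t
  have hs₀ : IsUnit (φ s₀.1) := IsLocalization.map_units _ s₀
  have hspan : IsLocalRing.maximalIdeal (X.presheaf.stalk P) = Ideal.span {φ a} := by
    rw [ht, ← Ideal.span_singleton_mul_right_unit hs₀ t]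
    exact congrArg (fun z => Ideal.span {z}) ha
  have hreg' : IsLeftRegular (φ a) := by
    show IsLeftRegular (algebraMap Γ(X, U) (X.presheaf.stalk P) a)
    rw [← ha]
    exact hreg.mul hs₀.isRegular.left
  have hp : ∀ b, b ∈ I.ideal ⟨U, hU⟩ ↔ b ∈ p := fun b => by
    rw [mem_ptIdeal_iff hP ⟨U, hU⟩ b, ← IsLocalization.AtPrime.to_map_mem_maximal_iff
      (X.presheaf.stalk P) p b, X.mem_basicOpen b P hPU, IsLocalRing.mem_maximalIdeal]
    rfl
  -- generators of `p`
  obtain ⟨G, hG⟩ := (isNoetherianRing_iff_ideal_fg _).1 inferInstance p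
  have hc : ∀ b : Γ(X, U), b ∈ p → ∃ s : p.primeCompl, ∃ c, s.1 * b = c * a := fun b hb => by
    have h1 : φ b ∈ Ideal.span {φ a} :=
      hspan ▸ (IsLocalization.AtPrime.to_map_mem_maximal_iff (X.presheaf.stalk P) p b).2 hb
    obtain ⟨z, hz⟩ := Ideal.mem_span_singleton'.1 h1
    obtain ⟨⟨c, s⟩, hcs⟩ := IsLocalization.surj p.primeCompl z
    have : φ (s.1 * b) = φ (c * a) := by
      rw [map_mul, map_mul, ← hz, ← mul_assoc, mul_comm (φ s.1) z]; exact congrArg (· * φ a) hcs
    obtain ⟨u, hu⟩ := (IsLocalization.eq_iff_exists p.primeCompl _).1 this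
    exact ⟨u * s, u.1 * c, by rw [Submonoid.coe_mul, mul_assoc, hu, mul_assoc]⟩
  choose! sf cf hsc using hc
  obtain ⟨G', hG'⟩ := (isNoetherianRing_iff_ideal_fg _).1 inferInstance
    (LinearMap.ker (LinearMap.mulRight Γ(X, U) a))
  have hann : ∀ b ∈ G', ∃ s : p.primeCompl, s.1 * b = 0 := fun b hb => by
    have h0 : b * a = 0 := LinearMap.mem_ker.1 (hG'.le (Submodule.subset_span hb))
    have : φ b = φ 0 := by
      refine hreg' ?_
      show φ a * φ b = φ a * φ 0
      rw [← map_mul, mul_comm, h0, map_zero, mul_zero]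
    obtain ⟨u, hu⟩ := (IsLocalization.eq_iff_exists p.primeCompl _).1 this
    exact ⟨u, by rw [hu, mul_zero]⟩
  choose! sa hsa using hann
  let f : Γ(X, U) := (∏ b ∈ G, (sf b).1) * ∏ b ∈ G', (sa b).1
  have hf : f ∉ p := by
    refine p.primeCompl.mul_mem ?_ ?_ <;> exact Submonoid.prod_mem _ fun b _ => Subtype.coe_prop _
  let W := X.basicOpen f
  have hWU : W ≤ U := X.basicOpen_le f
  have hPW : P ∈ W := by
    by_contra h
    exact hf ((hp f).1 ((mem_ptIdeal_iff hP ⟨U, hU⟩ f).2 h))
  have haI : a ∈ I.ideal ⟨U, hU⟩ := (hp a).2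
    ((IsLocalization.AtPrime.to_map_mem_maximal_iff (X.presheaf.stalk P) p a).1
      (hspan.symm ▸ Ideal.mem_span_singleton_self _))
  haveI := mono_idealModι I
  obtain ⟨k, hk⟩ := (mem_range_idealModι I U a).2
    (RingHom.mem_ker.1 ((I.ker_subschemeι_app ⟨U, hU⟩).symm ▸ haI))
  refine ⟨W, hPW, resM _ hWU k, ?_⟩
  have hfu : IsUnit (res hWU f) := RingedSpace.isUnit_res_basicOpen X.toRingedSpace f
  have hfac : ∀ (b : Γ(X, U)) (s : p.primeCompl), s.1 ∣ f → IsUnit (res hWU s.1) := fun b s hd =>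
    isUnit_of_dvd_unit (map_dvd _ hd) hfu
  -- the ideal on `W` is generated by `a`
  have hWgen : I.ideal ⟨W, hU.basicOpen f⟩ = Ideal.span {res hWU a} := by
    rw [← I.map_ideal (U := ⟨W, hU.basicOpen f⟩) (V := ⟨U, hU⟩) hWU]
    refine le_antisymm ?_ ((Ideal.span_singleton_le_iff_mem _).2 (Ideal.mem_map_of_mem _ haI))
    rw [Ideal.map_le_iff_le_comap]
    intro b hb
    have hb' : b ∈ p := (hp b).1 hb
    rw [← hG] at hb'
    refine (Submodule.span_le.2 ?_ : Submodule.span Γ(X, U) (G : Set Γ(X, U)) ≤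
      (Ideal.span {res hWU a}).comap (X.presheaf.map (homOfLE hWU).op).hom) hb'
    intro g hg
    show res hWU g ∈ Ideal.span {res hWU a}
    have hu : IsUnit (res hWU (sf g).1) := hfac g _ (Dvd.dvd.mul_right (Finset.dvd_prod_of_mem _ hg) _)
    rw [← (Ideal.span {res hWU a}).unit_mul_mem_iff_mem hu, ← map_mul, hsc g (hG ▸ Submodule.subset_span hg),
      map_mul]
    exact Ideal.mul_mem_left _ _ (Ideal.mem_span_singleton_self _)
  -- `a` is regular on `W`
  have hWreg : IsLeftRegular (res hWU a) := by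
    haveI : IsLocalization.Away f Γ(X, W) := hU.isLocalization_basicOpen f
    intro b c hbc
    simp only at hbc
    obtain ⟨⟨b', ⟨_, n, rfl⟩⟩, hb'⟩ := IsLocalization.surj (Submonoid.powers f) (b - c)
    have hb'' : res hWU (b' * a) = 0 := by
      rw [map_mul]
      calc res hWU b' * res hWU a = (b - c) * res hWU (f ^ n) * res hWU a := congrArg (· * res hWU a) hb'.symm
        _ = (res hWU a * b - res hWU a * c) * res hWU (f ^ n) := by ring
        _ = 0 := by rw [hbc, sub_self, zero_mul]
    have hb0 : algebraMap Γ(X, U) Γ(X, W) (b' * a) = algebraMap Γ(X, U) Γ(X, W) 0 := by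
      rw [map_zero]; exact hb''
    obtain ⟨⟨_, m, rfl⟩, hm⟩ := (IsLocalization.eq_iff_exists (Submonoid.powers f) _).1 hb0
    have hmem : f ^ m * b' ∈ LinearMap.ker (LinearMap.mulRight Γ(X, U) a) := by
      rw [LinearMap.mem_ker, LinearMap.mulRight_apply, mul_assoc, hm, mul_zero]
    have hz : ∀ y ∈ LinearMap.ker (LinearMap.mulRight Γ(X, U) a), res hWU y = 0 := fun y hy => by
      rw [← hG'] at hy
      induction hy using Submodule.span_induction with
      | mem g hg =>
        have hu : IsUnit (res hWU (sa g).1) := hfac g _ (Dvd.dvd.mul_left (Finset.dvd_prod_of_mem _ hg) _)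
        rw [← hu.mul_right_eq_zero, ← map_mul, hsa g hg, map_zero]
      | zero => exact map_zero _
      | add y z _ _ h1 h2 => rw [map_add, h1, h2, add_zero]
      | smul r y _ h1 => rw [smul_eq_mul, map_mul, h1, mul_zero]
    have h1 := hz _ hmem
    rw [map_mul] at h1
    have h2 : res hWU b' = 0 := ((hfu.pow m).mul_right_eq_zero).1 (by rw [← map_pow]; exact h1)
    have h3 : (b - c) * res hWU (f ^ n) = 0 := hb'.trans h2
    exact sub_eq_zero.1 (((map_pow (res hWU) f n) ▸ hfu.pow n).mul_left_eq_zero.1 h3)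
  have hkW : (ClSub.idealModι I).app W (resM _ hWU k) = res hWU a := by
    rw [app_resM, hk]; rfl
  exact bijective_smul_of_affine_gen I (hU.basicOpen f) hkW hWreg hWgen

theorem isInvertible_ptIdeal [IsLocallyNoetherian X] (t : X.presheaf.stalk P)
    (ht : IsLocalRing.maximalIdeal (X.presheaf.stalk P) = Ideal.span {t})
    (hreg : IsLeftRegular t) : PicF.IsInvertible (ClSub.idealMod (ptIdeal P hP)) := by
  refine isInvertible_of_gens fun y => ?_
  by_cases hy : y = P
  · subst hy; exact exists_isGen_idealMod_at hP t ht hreg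
  · obtain ⟨k, hk⟩ := isGen_idealMod_off hP
    exact ⟨_, hy, k, hk⟩

theorem isInvertible_ptIdeal_of_dvr [IsLocallyNoetherian X] [IsDomain (X.presheaf.stalk P)]
    [IsDiscreteValuationRing (X.presheaf.stalk P)] :
    PicF.IsInvertible (ClSub.idealMod (ptIdeal P hP)) := by
  obtain ⟨t, ht⟩ := IsDiscreteValuationRing.exists_irreducible (X.presheaf.stalk P)
  exact isInvertible_ptIdeal hP t ht.maximalIdeal_eq
    (IsLeftCancelMulZero.mul_left_cancel_of_ne_zero ht.ne_zero)

end Groth.Agent.CurveRR24
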