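import Groth.Agent.CurveRR24.Vanish
import Groth.Agent.Coherent.FiniteType

/-!
# Vanishing, sections and degree for twisted ideals on integral curves
-/

set_option autoImplicit false
set_option linter.style.haveILetI false
set_option backward.isDefEq.respectTransparency.types false

universe u

open CategoryTheory CategoryTheory.Limits AlgebraicGeometry Opposite TopologicalSpace
open Groth.Agent.Coherent Groth.Agent.PicLib Groth.Agent.AmpleLib Groth.Agent.EulerLib

namespace Groth.Agent.CurveRR24

variable {X : Scheme.{u}} (k : Type u) [Field k] [X.Over (Spec (CommRingCat.of k))]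
  [IsProper (X ↘ Spec (CommRingCat.of k))]

/-- Twisting a coherent module of zero-dimensional support keeps the Euler characteristic. -/
theorem euler_twist_of_small {Q L : X.Modules} (hQ : Coh.IsCoh Q) (hL : PicF.IsInvertible L)
    (hdim : topologicalKrullDim (CohB1.support Q) < ((1 : ℕ) : WithBot ℕ∞)) :
    Curv2.euler k X (CohB1.tensorMod Q L) = Curv2.euler k X Q := by
  have h := congrFun (show diff (⟨L, hL⟩ : EulerLib.Inv X) (chiTwist k Q) = 0 from
    degLT_chiTwist k 1 Q hQ hdim ⟨L, hL⟩) ⟨Coh.structureModule X, isInvertible_structureModule⟩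
  simp only [diff, EulerLib.Inv.mul, chiTwist, Pi.zero_apply] at h
  rw [euler_congr k X (tensorIso (Iso.refl Q) (tensorComm L (Coh.structureModule X) ≪≫ unitTensorIso L)),
    euler_congr k X (tensorComm Q (Coh.structureModule X) ≪≫ unitTensorIso Q)] at h
  linarith

theorem euler_eq_h0_of_small [IsIntegral X] (hdim : topologicalKrullDim X ≤ 1) {Q : X.Modules}
    (hQ : Coh.IsQCoh Q) {T : Set X} (hT : IsClosed T) (hη : genericPoint X ∉ T)
    (hQT : CohB1.support Q ⊆ T) :
    Curv2.euler k X Q = (Module.finrank k (Coh.HH X Q 0) : ℤ) := by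
  rw [euler_eq_sum k X Q 0 fun q hq => subsingleton_HH_of_small k hdim hQ hT hη hQT hq]
  simp [Finset.sum_range_succ]

omit [X.Over (Spec (CommRingCat.of k))] [IsProper (X ↘ Spec (CommRingCat.of k))] in
theorem genericPoint_notMem_of_dim [IsIntegral X] (hdim : topologicalKrullDim X = 1) {T : Set X}
    (hT : IsClosed T) (h0 : topologicalKrullDim T ≤ 0) : genericPoint X ∉ T := fun h => by
  have huniv : T = Set.univ := Set.eq_univ_of_univ_subset
    ((genericPoint_spec X : closure ({genericPoint X} : Set X) = Set.univ).ge.trans (hT.closure_subset_iff.2 (Set.singleton_subset_iff.2 h)))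
  subst huniv
  rw [(Homeomorph.Set.univ X).isHomeomorph.topologicalKrullDim_eq] at h0
  rw [hdim] at h0
  exact absurd h0 (by decide)

omit [X.Over (Spec (CommRingCat.of k))] [IsProper (X ↘ Spec (CommRingCat.of k))] in
/-- `I_Z ⊗ L → L`. -/
theorem mono_twistMul (Z : X.IdealSheafData) {L : X.Modules} (hL : PicF.IsInvertible L) :
    Mono (twistMul Z L) := by
  haveI := mono_idealModι Z
  haveI := mono_tensorMap hL (ClSub.idealModι Z)
  exact mono_comp _ _

/-- `χ(I_Z L) = χ(L) - h⁰(O_Z)`. -/
theorem euler_idealTwist [IsIntegral X] (hdim : topologicalKrullDim X ≤ 1) (Z : X.IdealSheafData)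
    (hη : genericPoint X ∉ (Z.support : Set X)) {L : X.Modules} (hL : PicF.IsInvertible L) :
    Curv2.euler k X (CohB1.tensorMod (ClSub.idealMod Z) L) =
      Curv2.euler k X L - (Module.finrank k (Coh.HH X (ClSub.quotMod Z) 0) : ℤ) := by
  haveI := isLocallyNoetherian_of_proper k (X := X)
  have hS := shortExact_ideal Z
  have h := euler_additive k X (twistSeq _ L) (twistSeq_shortExact hL hS)
    (isCoh_twist hL (isCoh_idealMod' Z)) (isCoh_twist hL (isCoh_structureModule X))
    (isCoh_twist hL (isCoh_quotMod Z))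
  change Curv2.euler k X (CohB1.tensorMod (Coh.structureModule X) L) =
    Curv2.euler k X (CohB1.tensorMod (ClSub.idealMod Z) L) +
      Curv2.euler k X (CohB1.tensorMod (ClSub.quotMod Z) L) at h
  rw [euler_congr k X (unitTensorIso L), euler_twist_of_small k (isCoh_quotMod Z) hL
    (lt_of_le_of_lt (dim_mono (support_quotMod_subset Z)) (closed_small k hdim Z.support.2 hη).2.2),
    euler_eq_h0_of_small k hdim (isCoh_quotMod Z).1 Z.support.2 hη (support_quotMod_subset Z)] at h
  linarith

/-- Non-vanishing of `H¹(I_Z L)` bounds the degree. -/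
theorem deg_le_of_h1_idealTwist [IsIntegral X] (hdim : topologicalKrullDim X ≤ 1)
    (h0 : Module.finrank k (Coh.HH X (Coh.structureModule X) 0) = 1) (Z : X.IdealSheafData)
    (hη : genericPoint X ∉ (Z.support : Set X)) {L : X.Modules} (hL : PicF.IsInvertible L)
    (h1 : Nontrivial (Coh.HH X (CohB1.tensorMod (ClSub.idealMod Z) L) 1)) :
    Curv2.deg k X L 1 ≤ 2 * (Curv2.genus k X : ℤ) - 2 +
      Module.finrank k (Coh.HH X (ClSub.quotMod Z) 0) := by
  haveI := isLocallyNoetherian_of_proper k (X := X)
  have hM : Coh.IsCoh (CohB1.tensorMod (ClSub.idealMod Z) L) := isCoh_twist hL (isCoh_idealMod' Z)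
  haveI := mono_twistMul Z hL
  have hle := h0_le_genus_of_h1 k hdim hM hL (twistMul Z L) h1
  have hchi := euler_idealTwist k hdim Z hη hL
  rw [euler_eq_h0_sub_h1 k hdim _ hM.1] at hchi
  haveI := finite_HH_of_isCoh k hM 1
  have hpos : 0 < Module.finrank k (Coh.HH X (CohB1.tensorMod (ClSub.idealMod Z) L) 1) :=
    Module.finrank_pos
  simp only [Curv2.deg, Nat.cast_one, one_mul, euler_structure k hdim, h0]
  omega

theorem subsingleton_h1_idealTwist [IsIntegral X] (hdim : topologicalKrullDim X ≤ 1)
    (h0 : Module.finrank k (Coh.HH X (Coh.structureModule X) 0) = 1) (Z : X.IdealSheafData)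
    (hη : genericPoint X ∉ (Z.support : Set X)) {L : X.Modules} (hL : PicF.IsInvertible L)
    (hdeg : 2 * (Curv2.genus k X : ℤ) - 2 + Module.finrank k (Coh.HH X (ClSub.quotMod Z) 0) <
      Curv2.deg k X L 1) :
    Subsingleton (Coh.HH X (CohB1.tensorMod (ClSub.idealMod Z) L) 1) := by
  by_contra h
  exact absurd (deg_le_of_h1_idealTwist k hdim h0 Z hη hL (not_subsingleton_iff_nontrivial.1 h))
    (not_le.2 hdeg)

/-- `H¹(L) = 0` above degree `2g - 2`. -/
theorem subsingleton_h1_of_deg [IsIntegral X] (hdim : topologicalKrullDim X ≤ 1)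
    (h0 : Module.finrank k (Coh.HH X (Coh.structureModule X) 0) = 1) {L : X.Modules}
    (hL : PicF.IsInvertible L) (hdeg : 2 * (Curv2.genus k X : ℤ) - 2 < Curv2.deg k X L 1) :
    Subsingleton (Coh.HH X L 1) := by
  haveI := isLocallyNoetherian_of_proper k (X := X)
  by_contra h
  rw [not_subsingleton_iff_nontrivial] at h
  have hM := isCoh_of_isInvertible k hL
  have hle := h0_le_genus_of_h1 k hdim hM hL (𝟙 L) h
  have hrr := riemann_roch k hdim hL
  haveI := finite_HH_of_isCoh k hM 1
  have hpos : 0 < Module.finrank k (Coh.HH X L 1) := Module.finrank_pos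
  rw [h0] at hrr
  omega

end Groth.Agent.CurveRR24
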