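import Groth.Agent.CurveRR24.GenTensor
import Groth.Agent.CurveSq.Section
import Groth.Agent.Coherent.TensorSections
import Mathlib.LinearAlgebra.TensorProduct.RightExactness

/-!
# Generated modules and `H¹` of twists by a quasi-coherent module on curves
-/

set_option autoImplicit false
set_option linter.style.haveILetI false
set_option backward.isDefEq.respectTransparency.types false

universe u

open CategoryTheory CategoryTheory.Limits AlgebraicGeometry Opposite TopologicalSpace TensorProduct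
open Groth.Agent.Coherent Groth.Agent.PicLib Groth.Agent.AmpleLib Groth.Agent.EulerLib Groth.Agent.Lipman24

namespace Groth.Agent.CurveRR24

variable {X : Scheme.{u}}

theorem mem_globalSpan_of_gg {M : X.Modules} [Coh.IsQCoh M] (h : Curv2.IsGloballyGenerated M) {W : X.Opens}
    (hW : IsAffineOpen W) (a : Γ(M, W)) : a ∈ globalSpan M W :=
  (BlowUpCoh.span_res_eq_top h hW).ge Submodule.mem_top

theorem app_mem_globalSpan {M N : X.Modules} (f : M ⟶ N) {W : X.Opens} {a : Γ(M, W)}
    (ha : a ∈ globalSpan M W) : f.app W a ∈ globalSpan N W := by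
  induction ha using Submodule.span_induction with
  | mem x hx =>
    obtain ⟨s, rfl⟩ := hx
    exact Submodule.subset_span ⟨f.app ⊤ s, (app_resM f (le_top : W ≤ ⊤) s).symm⟩
  | zero => rw [map_zero]; exact zero_mem _
  | add x y _ _ hx hy => rw [map_add]; exact add_mem hx hy
  | smul r x _ hx => rw [Scheme.Modules.Hom.app_smul]; exact Submodule.smul_mem _ r hx

/-- A tensor product of generated quasi-coherent modules is generated. -/
theorem gg_tensorMod {E G : X.Modules} [Coh.IsQCoh E] [Coh.IsQCoh G] (hE : Curv2.IsGloballyGenerated E)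
    (hG : Curv2.IsGloballyGenerated G) : Curv2.IsGloballyGenerated (CohB1.tensorMod E G) := by
  refine isGloballyGenerated_of_locally fun y => ⟨⊤, trivial, fun W _ a z hz => ?_⟩
  obtain ⟨W', hW', hzW', hle⟩ := exists_isAffineOpen_mem_and_subset (x := z) (U := W) hz
  refine ⟨W', hle, hzW', ?_⟩
  obtain ⟨t, ht⟩ := (bijective_tmulMap hW' E G).2 (resM _ (show W' ≤ W from hle) a)
  rw [← ht]
  clear ht
  induction t using TensorProduct.induction_on with
  | zero => rw [map_zero]; exact zero_mem _
  | tmul e g =>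
    rw [tmulMap_tmul]
    have hg := mem_globalSpan_of_gg hG hW' g
    induction hg using Submodule.span_induction with
    | mem x hx =>
      obtain ⟨s, rfl⟩ := hx
      have he := mem_globalSpan_of_gg hE hW' e
      induction he using Submodule.span_induction with
      | mem x hx =>
        obtain ⟨r, rfl⟩ := hx
        exact Submodule.subset_span ⟨tmul r s, resM_tmul (le_top : W' ≤ ⊤) r s⟩
      | zero => rw [tmul_zero_left]; exact zero_mem _
      | add x y _ _ hx hy => rw [tmul_add_left]; exact add_mem hx hy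
      | smul r x _ hx => rw [tmul_smul_left]; exact Submodule.smul_mem _ r hx
    | zero => rw [tmul_zero_right]; exact zero_mem _
    | add x y _ _ hx hy => rw [tmul_add_right]; exact add_mem hx hy
    | smul r x _ hx => rw [tmul_smul_right]; exact Submodule.smul_mem _ r hx
  | add x y hx hy => rw [map_add]; exact add_mem hx hy

theorem gg_tensorPow_succ {E : X.Modules} (hEc : Coh.IsQCoh E) (hE : Curv2.IsGloballyGenerated E) :
    ∀ n : ℕ, Coh.IsQCoh (CohB1.tensorPow E (n + 1)) ∧ Curv2.IsGloballyGenerated (CohB1.tensorPow E (n + 1))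
  | 0 => ⟨haveI := hEc; isQCoh_of_iso (unitTensorIso E).symm,
      globallyGenerated_of_iso (unitTensorIso E).symm hE⟩
  | n + 1 => by
    obtain ⟨h1, h2⟩ := gg_tensorPow_succ hEc hE n
    haveI := h1
    haveI := hEc
    exact ⟨isQCoh_tensorMod _ E, gg_tensorMod h2 hE⟩

variable (k : Type u) [Field k] [X.Over (Spec (CommRingCat.of k))]
  [IsProper (X ↘ Spec (CommRingCat.of k))]

include k in
/-- A generated coherent module has no `H¹` if `O` has none. -/
theorem subsingleton_H1_of_gg (hdim : topologicalKrullDim X ≤ 1)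
    (h1 : Subsingleton (Coh.HH X (Coh.structureModule X) 1)) {E : X.Modules} (hE : Coh.IsCoh E)
    (hgg : Curv2.IsGloballyGenerated E) : Subsingleton (Coh.HH X E 1) := by
  haveI := EulerLib.isNoetherian_of_proper k (X := X)
  exact subsingleton_HH_congr (unitTensorIso E) 1
    (subsingleton_H1_tensor_gg k hdim hE hgg (isQCoh_structureModule (X := X)) h1)

include k in
/-- `H¹(G ⊗ ω) = 0` and `F` generated give `H¹((F ⊗ G) ⊗ ω) = 0`. -/
theorem subsingleton_H1_tensor_gg_twist (hdim : topologicalKrullDim X ≤ 1) {F G ω : X.Modules}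
    (hF : Coh.IsCoh F) (hgg : Curv2.IsGloballyGenerated F) (hG : Coh.IsQCoh G) (hω : Coh.IsQCoh ω)
    (h : Subsingleton (Coh.HH X (CohB1.tensorMod G ω) 1)) :
    Subsingleton (Coh.HH X (CohB1.tensorMod (CohB1.tensorMod F G) ω) 1) := by
  classical
  haveI := EulerLib.isNoetherian_of_proper k (X := X)
  haveI : X.IsSeparated := EulerLib.isSeparated_of_proper (X := X) k
  haveI := hF.1
  haveI := hG
  haveI := hω
  haveI := isQCoh_tensorMod F G
  let φ := baseHom k X
  haveI := finite_HH_of_isCoh k hF 0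
  haveI : Module.Finite k (GA φ F) := Module.Finite.equiv (hhZero k F)
  let b := Module.finBasis k (GA φ F)
  let χ : ∀ s : Γ(F, ⊤), CohB1.tensorMod G ω ⟶ CohB1.tensorMod (CohB1.tensorMod F G) ω := fun s =>
    tensorMap (Serre.rightMul G s ≫ (tensorComm G F).hom) (𝟙 ω)
  refine subsingleton_H1_of_jointlyEpi (noH2_of_dim hdim) (isQCoh_tensorMod G ω) h Finset.univ
    (isQCoh_tensorMod (CohB1.tensorMod F G) ω) (fun j => χ (show Γ(F, ⊤) from b j))
    fun {Q} π hπ => AmpleLib.hom_ext fun U a w => ?_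
  show π.app U (tmul a w) = 0
  refine sec_ext Q _ _ fun y hy => ?_
  obtain ⟨W, hW, hyW, hWU⟩ := exists_isAffineOpen_mem_and_subset (x := y) (U := U) hy
  refine ⟨W, hWU, hyW, ?_⟩
  rw [← app_resM, resM_tmul, map_zero]
  obtain ⟨t, ht⟩ := (bijective_tmulMap hW F G).2 (resM _ (show W ≤ U from hWU) a)
  rw [← ht]
  clear ht
  have hb : ∀ (g : Γ(G, W)) (w' : Γ(ω, W)) (s : GA φ F),
      π.app W (tmul (tmul (resM F le_top (show Γ(F, ⊤) from s)) g) w') = 0 := fun g w' s => by
    have hs : s ∈ Submodule.span k (Set.range b) := b.span_eq.ge Submodule.mem_top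
    induction hs using Submodule.span_induction with
    | mem x hx =>
      obtain ⟨j, rfl⟩ := hx
      have := congrArg (fun θ : CohB1.tensorMod G ω ⟶ Q => θ.app W (tmul g w')) (hπ j (Finset.mem_univ j))
      refine Eq.trans ?_ this
      show π.app W _ = π.app W ((χ (show Γ(F, ⊤) from b j)).app W (tmul g w'))
      refine congrArg (π.app W) ?_
      refine Eq.trans ?_ (tensorMap_tmul _ _ g w').symm
      refine congrArg₂ tmul ?_ rfl
      show _ = (tensorSwap G F).app W (tmul g (resM F le_top (show Γ(F, ⊤) from b j)))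
      unfold tensorSwap
      rw [Bilin.desc_tmul]
    | zero =>
      show π.app W (tmul (tmul (resM F le_top (0 : Γ(F, ⊤))) g) w') = 0
      rw [map_zero, tmul_zero_left, tmul_zero_left, map_zero]
    | add x z _ _ hx hz =>
      show π.app W (tmul (tmul (resM F le_top ((show Γ(F, ⊤) from x) + (show Γ(F, ⊤) from z))) g) w') = 0
      rw [map_add, tmul_add_left, tmul_add_left, map_add, hx, hz, add_zero]
    | smul c x _ hx =>
      show π.app W (tmul (tmul (resM F le_top (φ c • (show Γ(F, ⊤) from x))) g) w') = 0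
      rw [resM_smul, tmul_smul_left, tmul_smul_left, Scheme.Modules.Hom.app_smul, hx, smul_zero]
  generalize resM ω hWU w = w'
  induction t using TensorProduct.induction_on with
  | zero => rw [map_zero, tmul_zero_left, map_zero]
  | tmul f g =>
    rw [tmulMap_tmul]
    have hf := mem_globalSpan_of_gg hgg hW f
    induction hf using Submodule.span_induction with
    | mem x hx =>
      obtain ⟨s, rfl⟩ := hx
      exact hb g w' s
    | zero => rw [tmul_zero_left, tmul_zero_left, map_zero]
    | add x z _ _ hx hz => rw [tmul_add_left, tmul_add_left, map_add, hx, hz, add_zero]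
    | smul r x _ hx => rw [tmul_smul_left, tmul_smul_left, Scheme.Modules.Hom.app_smul, hx, smul_zero]
  | add x z hx hz => rw [map_add, tmul_add_left, map_add, hx, hz, add_zero]

omit k [Field k] [X.Over (Spec (CommRingCat.of k))] [IsProper (X ↘ Spec (CommRingCat.of k))] in
/-- An extension of modules generated by global sections. -/
theorem gg_of_shortExact {S : ShortComplex X.Modules} (hS : S.ShortExact) [Coh.IsQCoh S.X₁]
    (h₁ : Curv2.IsGloballyGenerated S.X₁) (hlift : Function.Surjective (S.g.app ⊤))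
    (h₃ : ∀ (W : X.Opens) (a : Γ(S.X₃, W)), ∀ z ∈ W,
      ∃ (W' : X.Opens) (hle : W' ≤ W), z ∈ W' ∧ resM S.X₃ hle a ∈ globalSpan S.X₃ W') :
    Curv2.IsGloballyGenerated S.X₂ := by
  refine isGloballyGenerated_of_locally fun y => ⟨⊤, trivial, fun W _ a z hz => ?_⟩
  obtain ⟨W₁, hW₁, hzW₁, hmem⟩ := h₃ W (S.g.app W a) z hz
  obtain ⟨W', hW', hzW', hle⟩ := exists_isAffineOpen_mem_and_subset (x := z) (U := W₁) hzW₁
  have hle' : W' ≤ W₁ := hle
  refine ⟨W', hle'.trans hW₁, hzW', ?_⟩
  have h2 := resM_mem_globalSpan hle' hmem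
  rw [resM_resM, ← app_resM] at h2
  have key : ∀ c ∈ globalSpan S.X₃ W', ∃ b ∈ globalSpan S.X₂ W', S.g.app W' b = c := fun c hc => by
    induction hc using Submodule.span_induction with
    | mem x hx =>
      obtain ⟨s, rfl⟩ := hx
      obtain ⟨t, ht⟩ := hlift s
      exact ⟨_, Submodule.subset_span ⟨t, rfl⟩, by rw [app_resM, ht]⟩
    | zero => exact ⟨0, zero_mem _, map_zero _⟩
    | add x y _ _ hx hy =>
      obtain ⟨b, hb, rfl⟩ := hx
      obtain ⟨c, hc, rfl⟩ := hy
      exact ⟨b + c, add_mem hb hc, map_add _ _ _⟩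
    | smul r x _ hx =>
      obtain ⟨b, hb, rfl⟩ := hx
      exact ⟨r • b, Submodule.smul_mem _ r hb, Scheme.Modules.Hom.app_smul _ _ _⟩
  obtain ⟨b, hb, hgb⟩ := key _ h2
  obtain ⟨c, hc⟩ := sections_exact hS (resM S.X₂ (hle'.trans hW₁) a - b) (by rw [map_sub, hgb, sub_self])
  have := add_mem (app_mem_globalSpan S.f (mem_globalSpan_of_gg h₁ hW' c)) hb
  rwa [hc, sub_add_cancel] at this

omit k [Field k] [X.Over (Spec (CommRingCat.of k))] [IsProper (X ↘ Spec (CommRingCat.of k))] in
/-- A closed set all of whose points are closed in a Noetherian space is finite of dimension zero. -/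
theorem finite_of_closed_points [IsNoetherian X] {T : Set X} (hT : IsClosed T)
    (hTc : ∀ t ∈ T, IsClosed ({t} : Set X)) : T.Finite ∧ topologicalKrullDim T ≤ 0 := by
  refine ⟨?_, ?_⟩
  · obtain ⟨S, hSf, hSc, hSi, hTS⟩ := NoetherianSpace.exists_finite_set_isClosed_irreducible hT
    rw [hTS]
    refine hSf.sUnion fun C hC => ?_
    have hsub : C ⊆ T := hTS ▸ Set.subset_sUnion_of_mem hC
    obtain ⟨c, hc⟩ := QuasiSober.sober (hSi C hC) (hSc C hC)
    have hcC : c ∈ C := by rw [← hc]; exact subset_closure rfl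
    rw [← hc, (hTc c (hsub hcC)).closure_eq]
    exact Set.finite_singleton c
  · refine Order.krullDim_nonpos_iff_forall_isMax.2 fun C D hCD => ?_
    have hD : IsClosed (Subtype.val '' (D : Set T)) :=
      hT.isClosedEmbedding_subtypeVal.isClosedMap _ D.isClosed
    obtain ⟨d, hd⟩ := QuasiSober.sober (D.isIrreducible.image _ continuous_subtype_val.continuousOn) hD
    have hdD : d ∈ Subtype.val '' (D : Set T) := by rw [← hd]; exact subset_closure rfl
    have hdT : d ∈ T := by obtain ⟨w, -, rfl⟩ := hdD; exact w.2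
    have hsingle : Subtype.val '' (D : Set T) = {d} := by rw [← hd, (hTc d hdT).closure_eq]
    intro x hx
    obtain ⟨c, hc⟩ := C.isIrreducible.nonempty
    have hxd : (x : X) = d := by
      have : (x : X) ∈ Subtype.val '' (D : Set T) := ⟨x, hx, rfl⟩
      rwa [hsingle] at this
    have hcd : (c : X) = d := by
      have : (c : X) ∈ Subtype.val '' (D : Set T) := ⟨c, hCD hc, rfl⟩
      rwa [hsingle] at this
    exact (Subtype.ext (hxd.trans hcd.symm) : x = c) ▸ hc

omit k [Field k] [X.Over (Spec (CommRingCat.of k))] [IsProper (X ↘ Spec (CommRingCat.of k))] in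
/-- A module with finite support of closed points is locally spanned by global sections. -/
theorem mem_globalSpan_of_support [IsNoetherian X] {Q : X.Modules} {T : Set X} (hT : IsClosed T)
    (hTc : ∀ t ∈ T, IsClosed ({t} : Set X)) (hQ : CohB1.support Q ⊆ T) (W : X.Opens) (a : Γ(Q, W)) (z : X)
    (hz : z ∈ W) : ∃ (W' : X.Opens) (hle : W' ≤ W), z ∈ W' ∧ resM Q hle a ∈ globalSpan Q W' := by
  by_cases hzT : z ∈ T
  · obtain ⟨g, W', hW', hzW', hg⟩ :=
      CurveSq.exists_global_of_local Q (finite_of_closed_points hT hTc).1 hTc hQ hzT hz a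
    exact ⟨W', hW', hzW', hg ▸ Submodule.subset_span ⟨g, rfl⟩⟩
  · let W' : X.Opens := W ⊓ ⟨Tᶜ, hT.isOpen_compl⟩
    haveI : Subsingleton Γ(Q, W') := subsingleton_sections_of_disjoint Q W'
      (Set.disjoint_left.2 fun x hx hxs => hx.2 (hQ hxs))
    refine ⟨W', inf_le_left, ⟨hz, hzT⟩, ?_⟩
    rw [Subsingleton.elim (resM Q (inf_le_left : W' ≤ W) a) 0]
    exact zero_mem _

omit k [Field k] [X.Over (Spec (CommRingCat.of k))] [IsProper (X ↘ Spec (CommRingCat.of k))] in
/-- Tensor sequences are exact on affine opens. -/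
theorem tensorMap_affine {A B C ω : X.Modules} [Coh.IsQCoh A] [Coh.IsQCoh B] [Coh.IsQCoh C] [Coh.IsQCoh ω]
    (f : A ⟶ B) (g : B ⟶ C) {W : X.Opens} (hW : IsAffineOpen W) (hex : Function.Exact (f.app W) (g.app W))
    (hsurj : Function.Surjective (g.app W)) :
    Function.Exact ((tensorMap f (𝟙 ω)).app W) ((tensorMap g (𝟙 ω)).app W) ∧
      Function.Surjective ((tensorMap g (𝟙 ω)).app W) := by
  let fl : Γ(A, W) →ₗ[Γ(X, W)] Γ(B, W) :=
    { toFun := f.app W, map_add' := map_add _, map_smul' := fun r x => Scheme.Modules.Hom.app_smul f r x }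
  let gl : Γ(B, W) →ₗ[Γ(X, W)] Γ(C, W) :=
    { toFun := g.app W, map_add' := map_add _, map_smul' := fun r x => Scheme.Modules.Hom.app_smul g r x }
  have hf : ∀ x, (tensorMap f (𝟙 ω)).app W (tmulMap A ω W x) = tmulMap B ω W (fl.rTensor Γ(ω, W) x) := fun x => by
    induction x using TensorProduct.induction_on with
    | zero => simp only [map_zero]
    | tmul a w => rw [tmulMap_tmul, tensorMap_tmul, LinearMap.rTensor_tmul, tmulMap_tmul]; rfl
    | add x y hx hy => simp only [map_add, hx, hy]
  have hg : ∀ x, (tensorMap g (𝟙 ω)).app W (tmulMap B ω W x) = tmulMap C ω W (gl.rTensor Γ(ω, W) x) := fun x => by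
    induction x using TensorProduct.induction_on with
    | zero => simp only [map_zero]
    | tmul a w => rw [tmulMap_tmul, tensorMap_tmul, LinearMap.rTensor_tmul, tmulMap_tmul]; rfl
    | add x y hx hy => simp only [map_add, hx, hy]
  have hsr := LinearMap.rTensor_surjective Γ(ω, W) (show Function.Surjective gl from hsurj)
  refine ⟨fun y => ⟨fun hy => ?_, ?_⟩, fun y => ?_⟩
  · obtain ⟨y, rfl⟩ := (bijective_tmulMap hW B ω).2 y
    rw [hg] at hy
    obtain ⟨x, rfl⟩ := ((rTensor_exact Γ(ω, W) (show Function.Exact fl gl from hex) hsurj) y).1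
      ((bijective_tmulMap hW C ω).1 (hy.trans (map_zero _).symm))
    exact ⟨tmulMap A ω W x, hf x⟩
  · rintro ⟨x, rfl⟩
    obtain ⟨x, rfl⟩ := (bijective_tmulMap hW A ω).2 x
    rw [hf, hg]
    have := ((rTensor_exact Γ(ω, W) (show Function.Exact fl gl from hex) hsurj) (fl.rTensor Γ(ω, W) x)).2 ⟨x, rfl⟩
    rw [this, map_zero]
  · obtain ⟨y, rfl⟩ := (bijective_tmulMap hW C ω).2 y
    obtain ⟨x, rfl⟩ := hsr y
    exact ⟨tmulMap B ω W x, hg x⟩

omit k [Field k] [X.Over (Spec (CommRingCat.of k))] [IsProper (X ↘ Spec (CommRingCat.of k))] in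
theorem epi_of_affine_surjective {M N : X.Modules} (φ : M ⟶ N)
    (h : ∀ W : X.Opens, IsAffineOpen W → Function.Surjective (φ.app W)) : Epi φ := by
  refine epi_of_locally_surjective _ fun W a y hy => ?_
  obtain ⟨W', hW', hyW', hle⟩ := exists_isAffineOpen_mem_and_subset (x := y) (U := W) hy
  obtain ⟨b, hb⟩ := h W' hW' (resM N hle a)
  exact ⟨W', hle, hyW', b, hb⟩

include k in
/-- Both properties pass to extensions. -/
theorem twist_H1_of_shortExact (hdim : topologicalKrullDim X ≤ 1) {S : ShortComplex X.Modules}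
    (hS : S.ShortExact) [Coh.IsQCoh S.X₁] [Coh.IsQCoh S.X₂] [Coh.IsQCoh S.X₃] (ω : X.Modules) [Coh.IsQCoh ω]
    (h₁ : Subsingleton (Coh.HH X (CohB1.tensorMod S.X₁ ω) 1))
    (h₃ : Subsingleton (Coh.HH X (CohB1.tensorMod S.X₃ ω) 1)) :
    Subsingleton (Coh.HH X (CohB1.tensorMod S.X₂ ω) 1) := by
  haveI := EulerLib.isNoetherian_of_proper k (X := X)
  haveI : X.IsSeparated := EulerLib.isSeparated_of_proper (X := X) k
  let u := tensorMap S.f (𝟙 ω)
  let v := tensorMap S.g (𝟙 ω)
  haveI := isQCoh_tensorMod S.X₁ ω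
  haveI := isQCoh_tensorMod S.X₂ ω
  haveI := isQCoh_tensorMod S.X₃ ω
  have haff : ∀ W : X.Opens, IsAffineOpen W → Function.Exact (u.app W) (v.app W) ∧ Function.Surjective (v.app W) :=
    fun W hW => tensorMap_affine S.f S.g hW
      (fun y => ⟨fun hy => sections_exact hS y hy, by rintro ⟨x, rfl⟩; exact sections_zero W x⟩)
      (sections_surjective hS hW)
  haveI : Epi v := epi_of_affine_surjective v fun W hW => (haff W hW).2
  have huv : u ≫ v = 0 := AmpleLib.hom_ext fun U a w => by
    show v.app U (u.app U (tmul a w)) = 0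
    rw [tensorMap_tmul, tensorMap_tmul, sections_zero U a, tmul_zero_left]
  haveI : Coh.IsQCoh (kernel v) := isQCoh_kernel v
  let p := kernel.lift v u huv
  haveI : Epi p := epi_of_affine_surjective p fun W hW t => by
    obtain ⟨x, hx⟩ := ((haff W hW).1 ((kernel.ι v).app W t)).1 (kernel_ι_app_zero v W t)
    refine ⟨x, app_injective_of_mono (kernel.ι v) W ?_⟩
    rw [← ConcreteCategory.comp_apply, ← Scheme.Modules.Hom.comp_app, kernel.lift_ι]
    exact hx
  have hk := subsingleton_H1_of_epi (noH2_of_dim hdim) inferInstance inferInstance p h₁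
  exact subsingleton_HH_X₂ (S := ShortComplex.mk (kernel.ι v) v (kernel.condition v))
    { exact := ShortComplex.exact_kernel v } 1 hk h₃

include k in
/-- Both properties pass along maps with finite cokernel. -/
theorem gg_and_twist_H1_of_map (hdim : topologicalKrullDim X ≤ 1)
    (h1 : Subsingleton (Coh.HH X (Coh.structureModule X) 1)) {E₁ E₂ : X.Modules} (hE₁ : Coh.IsCoh E₁)
    (hE₂ : Coh.IsCoh E₂) (φ : E₁ ⟶ E₂) (htors : ∀ x ∈ CohB1.support (cokernel φ), IsClosed ({x} : Set X))
    (hgg : Curv2.IsGloballyGenerated E₁) (ω : X.Modules) [Coh.IsQCoh ω]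
    (hω : Subsingleton (Coh.HH X (CohB1.tensorMod E₁ ω) 1)) :
    Curv2.IsGloballyGenerated E₂ ∧ Subsingleton (Coh.HH X (CohB1.tensorMod E₂ ω) 1) := by
  haveI := EulerLib.isNoetherian_of_proper k (X := X)
  haveI : X.IsSeparated := EulerLib.isSeparated_of_proper (X := X) k
  haveI := hE₁.1
  haveI := hE₂.1
  have hQ : Coh.IsCoh (cokernel φ) := isCoh_cokernel φ hE₁.1 hE₂
  haveI := hQ.1
  have hT : IsClosed (CohB1.support (cokernel φ)) := isClosed_support _ (locallyFinGen_of_isFT _ hQ.2)
  let π := cokernel.π φ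
  let S : ShortComplex X.Modules := ShortComplex.mk (kernel.ι π) π (kernel.condition π)
  have hS : S.ShortExact := { exact := ShortComplex.exact_kernel π }
  haveI : Coh.IsQCoh S.X₁ := isQCoh_kernel π
  let p : E₁ ⟶ S.X₁ := kernel.lift π φ (cokernel.condition φ)
  haveI hpepi : Epi p := (ShortComplex.exact_of_g_is_cokernel (ShortComplex.mk φ π (cokernel.condition φ))
    (cokernelIsCokernel _)).epi_kernelLift
  have hIgg : Curv2.IsGloballyGenerated S.X₁ := by
    obtain ⟨ι, q, hq⟩ := hgg
    exact ⟨ι, q ≫ p, @epi_comp _ _ _ _ _ q hq p hpepi⟩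
  have hI1 := @subsingleton_H1_of_epi _ (noH2_of_dim hdim) _ _ hE₁.1 inferInstance p hpepi
    (subsingleton_H1_of_gg k hdim h1 hE₁ hgg)
  refine ⟨gg_of_shortExact hS hIgg (surjective_app_top hS hI1)
    (fun W a z hz => mem_globalSpan_of_support hT htors subset_rfl W a z hz), ?_⟩
  let ψ := tensorMap φ (𝟙 ω)
  haveI := isQCoh_tensorMod E₁ ω
  haveI := isQCoh_tensorMod E₂ ω
  haveI : Coh.IsQCoh (cokernel ψ) := isQCoh_cokernel ψ
  let π' := cokernel.π ψ
  haveI : Coh.IsQCoh (kernel π') := isQCoh_kernel π'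
  let p' : CohB1.tensorMod E₁ ω ⟶ kernel π' := kernel.lift π' ψ (cokernel.condition ψ)
  haveI : Epi p' := (ShortComplex.exact_of_g_is_cokernel (ShortComplex.mk ψ π' (cokernel.condition ψ))
    (cokernelIsCokernel _)).epi_kernelLift
  have hk := subsingleton_H1_of_epi (noH2_of_dim hdim) (isQCoh_tensorMod E₁ ω) inferInstance p' hω
  have hsupp : CohB1.support (cokernel ψ) ⊆ CohB1.support (cokernel φ) := fun z hz => by
    by_contra hzT
    refine hz (subsingleton_of_forall_eq 0 fun a => ?_)
    obtain ⟨w, rfl⟩ := (ModuleCat.epi_iff_surjective ((DerSch.stalkFunctor X z).map π')).1 inferInstance a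
    obtain ⟨V, hV, t, ht⟩ := TopCat.Presheaf.exists_germ_eq (CohB1.tensorMod E₂ ω).presheaf w
    obtain ⟨W, hW, hzW, hle⟩ := exists_isAffineOpen_mem_and_subset (x := z)
      (U := V ⊓ ⟨_, hT.isOpen_compl⟩) ⟨hV, hzT⟩
    have hWV : W ≤ V := fun x hx => (hle hx).1
    haveI : Subsingleton Γ(cokernel φ, W) := subsingleton_sections_of_disjoint _ W
      (Set.disjoint_left.2 fun x hx hxs => (hle hx).2 hxs)
    have hsurj : Function.Surjective (φ.app W) := fun y => by
      obtain ⟨i, hi⟩ := sections_exact hS y (Subsingleton.elim _ _)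
      let SF : ShortComplex X.Modules := ShortComplex.mk (kernel.ι p) p (kernel.condition p)
      haveI : Coh.IsQCoh SF.X₁ := isQCoh_kernel p
      haveI := hpepi
      obtain ⟨x, hx⟩ := sections_surjective (S := SF) { exact := ShortComplex.exact_kernel p, epi_g := hpepi } hW i
      refine ⟨x, ?_⟩
      rw [← hi, ← hx]
      exact (congrArg (fun θ : E₁ ⟶ E₂ => θ.app W x) (kernel.lift_ι π φ (cokernel.condition φ))).symm
    obtain ⟨y, hy⟩ := (bijective_tmulMap hW E₂ ω).2 (resM _ hWV t)
    have h0 : π'.app W (resM _ hWV t) = 0 := by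
      rw [← hy]
      clear hy
      induction y using TensorProduct.induction_on with
      | zero => rw [map_zero, map_zero]
      | tmul e w =>
        obtain ⟨x, rfl⟩ := hsurj e
        rw [tmulMap_tmul, show tmul (φ.app W x) w = ψ.app W (tmul x w) from (tensorMap_tmul φ (𝟙 ω) x w).symm]
        exact sections_zero (S := ShortComplex.mk ψ π' (cokernel.condition ψ)) W _
      | add a b ha hb => rw [map_add, map_add, ha, hb, add_zero]
    rw [app_resM] at h0
    rw [← ht, stalk_map_germ]
    exact ((TopCat.Presheaf.germ_res_apply (cokernel ψ).presheaf (homOfLE hWV) z hzW _).symm.trans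
      ((congrArg ((cokernel ψ).presheaf.germ W z hzW) h0).trans (map_zero _)))
  have hdimT : topologicalKrullDim (CohB1.support (cokernel φ)) < ((1 : ℕ) : WithBot ℕ∞) :=
    lt_of_le_of_lt (finite_of_closed_points hT htors).2 (by simp)
  exact subsingleton_HH_X₂ (S := ShortComplex.mk (kernel.ι π') π' (kernel.condition π'))
    { exact := ShortComplex.exact_kernel π' } 1 hk
    (subsingleton_HH_of_support ⟨_, hT⟩ _ inferInstance hsupp 1 hdimT)

end Groth.Agent.CurveRR24
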