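import Groth.Agent.CurveRR24.Degree
import Groth.Agent.AmpleLib.Generated

/-!
# Global generation on curves
-/

set_option autoImplicit false
set_option linter.style.haveILetI false
set_option backward.isDefEq.respectTransparency.types false

universe u

open CategoryTheory CategoryTheory.Limits AlgebraicGeometry Opposite TopologicalSpace
open Groth.Agent.Coherent Groth.Agent.PicLib Groth.Agent.AmpleLib Groth.Agent.EulerLib

namespace Groth.Agent.CurveRR24

variable {X : Scheme.{u}} (k : Type u) [Field k] [X.Over (Spec (CommRingCat.of k))]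
  [IsProper (X ↘ Spec (CommRingCat.of k))]

section

variable {P : X} (hP : IsClosed ({P} : Set X)) {L : X.Modules} (hL : PicF.IsInvertible L)

include hL in
omit [X.Over (Spec (CommRingCat.of k))] [IsProper (X ↘ Spec (CommRingCat.of k))] in
/-- A section vanishing at `P` dies in `L|_P`. -/
theorem app_g_eq_zero_of_not_mem (s' : Γ((ptSeq hP L).X₂, ⊤))
    (hs : P ∉ glocus L ((unitTensorIso L).hom.app ⊤ s')) : (ptSeq hP L).g.app ⊤ s' = 0 := by
  let I := ptIdeal P hP
  obtain ⟨U₀, hPU₀, g₀, hg₀⟩ := exists_isGen hL P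
  obtain ⟨U, hU, hPU, hUU₀⟩ := exists_isAffineOpen_mem_and_subset (x := P) (U := U₀) hPU₀
  have hUle : U ≤ U₀ := hUU₀
  let s := (unitTensorIso L).hom.app ⊤ s'
  let g := resM L hUle g₀
  have hg : IsGen L U g := hg₀.restrict hUle
  obtain ⟨f, hf⟩ := (hg U le_rfl).2 (resM L le_top s)
  beta_reduce at hf
  rw [resM_self] at hf
  have hfI : f ∈ I.ideal ⟨U, hU⟩ := by
    refine (mem_ptIdeal_iff hP ⟨U, hU⟩ f).2 fun hmem => hs ?_
    have hc : hg.coef le_rfl (resM L le_top s) = f := hg.coef_eq le_rfl (by rw [resM_self]; exact hf)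
    have := glocus_inf s hg
    rw [hc] at this
    exact (this.ge hmem).1
  obtain ⟨c, hc⟩ := (mem_range_idealModι I U f).2
    (RingHom.mem_ker.1 ((I.ker_subschemeι_app ⟨U, hU⟩).symm ▸ hfI))
  have h1 : resM (ptSeq hP L).X₂ (le_top : U ≤ ⊤) s' = (ptSeq hP L).f.app U (tmul c g) := by
    apply app_injective_of_mono (unitTensorIso L).hom U
    refine (app_resM _ _ s').trans ?_
    refine hf.symm.trans ?_
    have h2 := twistMul_tmul I (L := L) U c g
    rw [hc] at h2
    exact h2.symm
  have hQ := bijective_resM_of_support (ptSeq hP L).X₃ {P} hP (support_twist_ptQuot hP hL) (W := U)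
    (by simpa using hPU)
  refine hQ.1 ?_
  rw [map_zero, ← app_resM, h1]
  exact sections_zero (S := ptSeq hP L) _ (tmul c g)

include hL in
theorem h0_eq_of_all_vanish (h : ∀ s : Γ(L, ⊤), P ∉ glocus L s) :
    Module.finrank k (Coh.HH X (CohB1.tensorMod L (ClSub.idealMod (ptIdeal P hP))) 0) =
      Module.finrank k (Coh.HH X L 0) := by
  rw [finrank_HH_congr k (tensorComm L (ClSub.idealMod (ptIdeal P hP))) 0,
    ← finrank_HH_congr k (unitTensorIso L : (ptSeq hP L).X₂ ≅ L) 0]
  change Module.finrank k (Coh.HH X (ptSeq hP L).X₁ 0) = Module.finrank k (Coh.HH X (ptSeq hP L).X₂ 0)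
  rw [(HHBaseEquiv k (ptSeq hP L).X₁ 0).finrank_eq, (HHBaseEquiv k (ptSeq hP L).X₂ 0).finrank_eq]
  have hS := shortExact_ptSeq hP hL
  have hinj := postA_zero_injective (baseHom k X) hS (⊤ : X.Opens)
  refine (LinearEquiv.ofBijective (postA (baseHom k X) (ptSeq hP L).f (⊤ : X.Opens) 0) ⟨hinj, fun x => ?_⟩).finrank_eq
  refine (exact_postA (baseHom k X) hS (⊤ : X.Opens) 0 x).1 ((secA (baseHom k X) _).injective ?_)
  rw [secA_natural, map_zero]
  exact app_g_eq_zero_of_not_mem hP hL _ (h _)

include hP hL k in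
theorem exists_mem_glocus_of_h0_ne
    (h : Module.finrank k (Coh.HH X (CohB1.tensorMod L (ClSub.idealMod (ptIdeal P hP))) 0) ≠
      Module.finrank k (Coh.HH X L 0)) : ∃ s : Γ(L, ⊤), P ∈ glocus L s := by
  by_contra hc
  push Not at hc
  exact h (h0_eq_of_all_vanish k hP hL hc)

include hP hL k in
/-- A globally generated invertible module has a section not vanishing at a given point. -/
theorem exists_mem_glocus_of_gg (hgg : Curv2.IsGloballyGenerated L) :
    ∃ s : Γ(L, ⊤), P ∈ glocus L s := by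
  by_contra hc
  push Not at hc
  obtain ⟨ι, p, hp⟩ := hgg
  haveI := hp
  have hS := shortExact_ptSeq hP hL
  haveI := hS.epi_g
  let q : freeMod X ι ⟶ (ptSeq hP L).X₃ := p ≫ (unitTensorIso L).inv ≫ (ptSeq hP L).g
  haveI h2 : Epi ((unitTensorIso L).inv ≫ (ptSeq hP L).g) :=
    @epi_comp _ _ _ _ _ (unitTensorIso L).inv inferInstance (ptSeq hP L).g hS.epi_g
  haveI : Epi q := @epi_comp _ _ _ _ _ p hp _ h2
  have hq : q = 0 := freeMod_hom_ext fun i => by
    rw [comp_zero]
    refine hom_ext_one' _ fun s hs => ?_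
    subst hs
    show (ptSeq hP L).g.app ⊤ ((unitTensorIso L).inv.app ⊤ (unitVal (freeInj i ≫ p) ⊤)) = 0
    exact app_g_eq_zero_of_not_mem hP hL _ (hc _)
  haveI : Epi (0 : freeMod X ι ⟶ (ptSeq hP L).X₃) := hq ▸ (inferInstance : Epi q)
  have hz : IsZero (ptSeq hP L).X₃ := IsZero.of_epi_zero (freeMod X ι) _
  have h0 := finrank_HH_zero_twist_ptQuot hP k hL
  haveI := subsingleton_HH_of_isZero hz 0
  haveI := finite_resField hP k
  let _ := Curv2.resAlgebra k X P
  have h1 : Module.finrank k (Coh.HH X (CohB1.tensorMod (ClSub.quotMod (ptIdeal P hP)) L) 0) = 0 :=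
    Module.finrank_zero_of_subsingleton (M := Coh.HH X (ptSeq hP L).X₃ 0)
  rw [h1] at h0
  exact absurd h0.symm (Module.finrank_pos (R := k) (M := X.residueField P)).ne'
where
  hom_ext_one' {M : X.Modules} (f : Coh.structureModule X ⟶ M)
      (h : ∀ s, s = unitVal f ⊤ → s = 0) : f = 0 := hom_ext_one _ _ fun V => by
    have h1 := resM_unitVal f (le_top : V ≤ ⊤)
    rw [h _ rfl, map_zero] at h1
    exact h1.symm

end

include k in
/-- Global generation can be tested at closed points. -/
theorem globallyGenerated_of_closedPoints {L : X.Modules} (hL : PicF.IsInvertible L)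
    (h : ∀ P : X, IsClosed ({P} : Set X) → ∃ s : Γ(L, ⊤), P ∈ glocus L s) :
    Curv2.IsGloballyGenerated L := by
  haveI := isNoetherian_of_proper k (X := X)
  refine globallyGenerated_of_glocus hL fun x => ?_
  obtain ⟨P, hPx, hP⟩ := (isClosed_closure (s := ({x} : Set X))).exists_closed_singleton ⟨x, subset_closure rfl⟩
  obtain ⟨s, hs⟩ := h P hP
  exact ⟨s, (specializes_iff_mem_closure.2 hPx).mem_open (glocus L s).2 hs⟩

/-- Global generation in degree `≥ 2g`. -/
theorem globallyGenerated_of_deg [IsIntegral X] (hdim : topologicalKrullDim X = 1)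
    (h0 : Module.finrank k (Coh.HH X (Coh.structureModule X) 0) = 1) {L : X.Modules}
    (hL : PicF.IsInvertible L) (hdeg : 2 * (Curv2.genus k X : ℤ) ≤ Curv2.deg k X L 1) :
    Curv2.IsGloballyGenerated L := by
  refine globallyGenerated_of_closedPoints k hL fun P hP => exists_mem_glocus_of_h0_ne k hP hL fun he => ?_
  let _ := Curv2.resAlgebra k X P
  haveI := finite_resField hP k
  haveI := isLocallyNoetherian_of_proper k (X := X)
  have hd : 0 < Module.finrank k (X.residueField P) := Module.finrank_pos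
  have h1 : Subsingleton (Coh.HH X L 1) := subsingleton_h1_of_deg k hdim.le h0 hL (by omega)
  have hrr := riemann_roch k hdim.le hL
  rw [h0, Module.finrank_zero_of_subsingleton (M := Coh.HH X L 1)] at hrr
  have hM : Coh.IsCoh (CohB1.tensorMod (ClSub.idealMod (ptIdeal P hP)) L) :=
    isCoh_twist hL (isCoh_idealMod' _)
  have hchi := euler_tensor_ptIdeal k hP hL
  rw [euler_congr k X (tensorComm L (ClSub.idealMod (ptIdeal P hP))),
    euler_eq_h0_sub_h1 k hdim.le _ hM.1] at hchi
  rw [finrank_HH_congr k (tensorComm L (ClSub.idealMod (ptIdeal P hP))) 0] at he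
  rw [he] at hchi
  have hdef : Curv2.deg k X L 1 = Curv2.euler k X L - (1 - (Curv2.genus k X : ℤ)) := by
    simp only [Curv2.deg, Nat.cast_one, one_mul, euler_structure k hdim.le, h0]
  have hne : Nontrivial (Coh.HH X (CohB1.tensorMod (ClSub.idealMod (ptIdeal P hP)) L) 1) := by
    by_contra h
    haveI := not_nontrivial_iff_subsingleton.1 h
    rw [Module.finrank_zero_of_subsingleton (M := Coh.HH X (CohB1.tensorMod (ClSub.idealMod (ptIdeal P hP)) L) 1)] at hchi
    omega
  haveI := mono_twistMul (ptIdeal P hP) hL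
  have hle := h0_le_genus_of_h1 k hdim.le hM hL (twistMul (ptIdeal P hP) L) hne
  rw [he] at hle
  omega

end Groth.Agent.CurveRR24
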