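import Groth.Agent.CurveRR24.VeryAmple
import Groth.Agent.CurveRR24.Ample
import Groth.Agent.P1Lib24.Basic
import Groth.Agent.AmpleLib.Sections
import Mathlib.AlgebraicGeometry.Morphisms.Affine
import Mathlib.AlgebraicGeometry.Morphisms.Proper
import Mathlib.AlgebraicGeometry.ZariskisMainTheorem

/-!
# An integral proper curve with a degree one invertible module with two sections is the line
-/

set_option autoImplicit false
set_option linter.style.haveILetI false
set_option backward.isDefEq.respectTransparency.types false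
set_option maxHeartbeats 1000000

universe u

open CategoryTheory CategoryTheory.Limits AlgebraicGeometry Opposite TopologicalSpace HomogeneousLocalization
open Groth.Agent.Coherent Groth.Agent.PicLib Groth.Agent.AmpleLib Groth.Agent.EulerLib

namespace Groth.Agent.CurveRR24

variable {X : Scheme.{u}} (k : Type u) [Field k] [X.Over (Spec (CommRingCat.of k))]
  [IsProper (X ↘ Spec (CommRingCat.of k))] [IsIntegral X]

include k in
/-- With a degree one invertible module having a section, the constants are the base field. -/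
theorem h0_structure_of_deg_one (hdim : topologicalKrullDim X ≤ 1) {L : X.Modules}
    (hL : PicF.IsInvertible L) (hdeg : Curv2.deg k X L 1 = 1) (hs : Nontrivial (Coh.HH X L 0)) :
    Module.finrank k (Coh.HH X (Coh.structureModule X) 0) = 1 := by
  haveI := isNoetherian_of_proper k (X := X)
  obtain ⟨s, hs0⟩ := exists_ne_zero_of_nontrivial k hs
  obtain ⟨S, hS, hS1, hS2, h1, h2, h3, hvan, hzero⟩ := exists_cokernel k hdim hL hs0
  have he := euler_additive k X S hS h1 h2 h3
  rw [euler_eq_sum k X S.X₃ 0 (fun q hq => hvan q hq)] at he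
  simp [Finset.sum_range_succ] at he
  have hQ1 : Module.finrank k (Coh.HH X S.X₃ 0) = 1 := by
    have : Curv2.deg k X L 1 = (Module.finrank k (Coh.HH X S.X₃ 0) : ℤ) := by
      simp only [Curv2.deg, Nat.cast_one, one_mul]
      rw [← hS2, ← hS1]
      linarith
    rw [hdeg] at this
    exact_mod_cast this.symm
  rw [finrank_GA_eq k] at hQ1 ⊢
  let φ := baseHom k X
  haveI : Module.Finite k (GA φ S.X₃) := Module.finite_of_finrank_pos (Nat.one_pos.trans_le hQ1.ge)
  haveI : Nontrivial (GA φ S.X₃) := Module.nontrivial_of_finrank_pos (R := k) (Nat.one_pos.trans_le hQ1.ge)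
  obtain ⟨t, ht⟩ := exists_ne (0 : GA φ S.X₃)
  let Λ : GA φ (Coh.structureModule X) →ₗ[k] GA φ S.X₃ :=
    { toFun := fun r => (show Γ(X, ⊤) from r) • (show Γ(S.X₃, ⊤) from t)
      map_add' := fun r r' => add_smul (show Γ(X, ⊤) from r) (show Γ(X, ⊤) from r') (show Γ(S.X₃, ⊤) from t)
      map_smul' := fun c r => mul_smul (φ c) (show Γ(X, ⊤) from r) (show Γ(S.X₃, ⊤) from t) }
  have hfield := isField_of_universallyClosed k (X ↘ Spec (CommRingCat.of k))
  have hinj : Function.Injective Λ := by
    refine (injective_iff_map_eq_zero Λ).2 fun r hr => ?_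
    by_contra hne
    obtain ⟨r', hr'⟩ := hfield.mul_inv_cancel (show (show Γ(X, ⊤) from r) ≠ 0 from hne)
    refine ht ?_
    have h := congrArg (fun z : Γ(S.X₃, ⊤) => r' • z) (show (show Γ(X, ⊤) from r) • (show Γ(S.X₃, ⊤) from t) = 0 from hr)
    beta_reduce at h
    rw [smul_zero, ← mul_smul, mul_comm, hr', one_smul] at h
    exact h
  have hle := LinearMap.finrank_le_finrank_of_injective (f := Λ) hinj
  haveI : Module.Finite k (GA φ (Coh.structureModule X)) := Module.Finite.of_injective Λ hinj
  haveI : Nontrivial Γ(X, ⊤) := inferInstance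
  haveI : Nontrivial (GA φ (Coh.structureModule X)) := inferInstanceAs (Nontrivial Γ(X, ⊤))
  have hpos : 0 < Module.finrank k (GA φ (Coh.structureModule X)) := Module.finrank_pos
  show Module.finrank k (GA φ (Coh.structureModule X)) = 1
  exact le_antisymm (hle.trans hQ1.le) hpos

include k in
/-- A coherent submodule with sections has at most `h⁰(O) + χ(M) - χ(O)` of them. -/
theorem h0_le_of_mono (hdim : topologicalKrullDim X ≤ 1) {M L : X.Modules} (hM : Coh.IsCoh M)
    (hL : PicF.IsInvertible L) (ι : M ⟶ L) [Mono ι] {z : Γ(M, ⊤)} (hz : z ≠ 0) :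
    (Module.finrank k (Coh.HH X M 0) : ℤ) ≤ Module.finrank k (Coh.HH X (Coh.structureModule X) 0) +
      (Curv2.euler k X M - Curv2.euler k X (Coh.structureModule X)) := by
  haveI := isNoetherian_of_proper k (X := X)
  let φ := baseHom k X
  haveI := mono_unitDesc_of_mono hL ι hz
  have hO := isCoh_structureModule X
  have hQ : Coh.IsCoh (cokernel (unitDesc M z)) := isCoh_cokernel _ hO.1 hM
  let S := ShortComplex.mk (unitDesc M z) (cokernel.π _) (cokernel.condition _)
  have hS : S.ShortExact := { exact := ShortComplex.exact_of_g_is_cokernel _ (cokernelIsCokernel _) }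
  have hηT : genericPoint X ∉ (glocus L (ι.app ⊤ z) : Set X)ᶜ := fun h => h
    (genericPoint_mem_glocus hL fun h0 => hz (app_injective_of_mono ι ⊤ (h0.trans (map_zero _).symm)))
  have he := euler_additive k X S hS hO hM hQ
  have he' : Curv2.euler k X S.X₃ = (Module.finrank k (Coh.HH X S.X₃ 0) : ℤ) :=
    euler_eq_h0_of_small k hdim hQ.1 (glocus L (ι.app ⊤ z)).2.isClosed_compl hηT
      (support_cokernel_unitDesc_of_mono ι z)
  change Curv2.euler k X M = Curv2.euler k X (Coh.structureModule X) + Curv2.euler k X S.X₃ at he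
  rw [he, add_sub_cancel_left, he']
  haveI := finCoh_of_isProper (X ↘ Spec (CommRingCat.of k)) _ hO 0
  haveI := finCoh_of_isProper (X ↘ Spec (CommRingCat.of k)) _ hM 0
  haveI := finCoh_of_isProper (X ↘ Spec (CommRingCat.of k)) _ hQ 0
  have hinj := postA_zero_injective φ hS (⊤ : X.Opens)
  have hex := exact_postA φ hS (⊤ : X.Opens) 0
  let g := postA φ S.g (⊤ : X.Opens) 0
  have e1 : Module.finrank k (Coh.HH X (Coh.structureModule X) 0) = Module.finrank k (HA φ S.X₁ (⊤ : X.Opens) 0) :=
    (HHBaseEquiv k S.X₁ 0).finrank_eq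
  have e2 : Module.finrank k (Coh.HH X M 0) = Module.finrank k (HA φ S.X₂ (⊤ : X.Opens) 0) :=
    (HHBaseEquiv k S.X₂ 0).finrank_eq
  have e3 : Module.finrank k (Coh.HH X S.X₃ 0) = Module.finrank k (HA φ S.X₃ (⊤ : X.Opens) 0) :=
    (HHBaseEquiv k S.X₃ 0).finrank_eq
  rw [e1, e2, e3]
  haveI : Module.Finite k (HA φ S.X₁ (⊤ : X.Opens) 0) := finCoh_of_isProper (X ↘ Spec (CommRingCat.of k)) _ hO 0
  haveI : Module.Finite k (HA φ S.X₂ (⊤ : X.Opens) 0) := finCoh_of_isProper (X ↘ Spec (CommRingCat.of k)) _ hM 0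
  haveI : Module.Finite k (HA φ S.X₃ (⊤ : X.Opens) 0) := finCoh_of_isProper (X ↘ Spec (CommRingCat.of k)) _ hQ 0
  have h4 := LinearMap.finrank_range_add_finrank_ker g
  rw [LinearMap.exact_iff.1 hex, LinearMap.finrank_range_of_inj hinj] at h4
  have h5 : Module.finrank k (LinearMap.range g) ≤ Module.finrank k (HA φ S.X₃ (⊤ : X.Opens) 0) :=
    Submodule.finrank_le _
  omega

omit [X.Over (Spec (CommRingCat.of k))] [IsProper (X ↘ Spec (CommRingCat.of k))] in
/-- A section of an invertible module on an integral scheme vanishing on a nonempty open is zero. -/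
theorem eq_zero_of_resM {N : X.Modules} (hN : PicF.IsInvertible N) {U : X.Opens} (hU : genericPoint X ∈ U)
    {g : Γ(N, U)} (hg : IsGen N U g) {z : Γ(N, ⊤)} (hz : resM N (le_top : U ≤ ⊤) z = 0) : z = 0 := by
  by_contra hne
  have h := (glocus_inf z hg).le ⟨genericPoint_mem_glocus hN hne, hU⟩
  rw [hg.coef_eq le_rfl (r := (0 : Γ(X, U))) (by rw [zero_smul, hz]), Scheme.basicOpen_zero] at h
  exact h

omit [X.Over (Spec (CommRingCat.of k))] [IsProper (X ↘ Spec (CommRingCat.of k))] [IsIntegral X] in
theorem unitTensorIso_tmul' {N : X.Modules} (W : X.Opens) (a : Γ(X, W)) (p : Γ(N, W)) :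
    (unitTensorIso N).hom.app W (tmul (L := Coh.structureModule X) a p) = a • p :=
  Bilin.desc_tmul _ _ _ _

include k in
/-- The functions on `X_s` are the polynomials in `s'/s`. -/
theorem bijective_eval_coef (hdim : topologicalKrullDim X ≤ 1)
    (h0 : Module.finrank k (Coh.HH X (Coh.structureModule X) 0) = 1) {L : X.Modules}
    (hL : PicF.IsInvertible L) (hdeg : Curv2.deg k X L 1 = 1) (s s' : Γ(L, ⊤))
    (hs : s ≠ 0) (hs' : s' ≠ 0) (hcov : ∀ x : X, x ∈ glocus L s ∨ x ∈ glocus L s')
    (f : Γ(X, glocus L s)) (hf : f • resM L (le_top : glocus L s ≤ ⊤) s = resM L le_top s') :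
    Function.Bijective (Polynomial.eval₂RingHom (EmbLib24.gl (X ↘ Spec (CommRingCat.of k)) (glocus L s)) f) := by
  classical
  haveI := isNoetherian_of_proper k (X := X)
  let U := glocus L s
  have hη : genericPoint X ∈ U := genericPoint_mem_glocus hL hs
  haveI : Nonempty U := ⟨⟨_, hη⟩⟩
  let φ := baseHom k X
  let q := X ↘ Spec (CommRingCat.of k)
  let _ : Algebra k Γ(X, U) := (EmbLib24.gl q U).toAlgebra
  have hgen : IsGen L U (resM L le_top s) := isGen_glocus s
  have hcoef : hgen.coef le_rfl (resM L le_top s') = f := hgen.coef_eq le_rfl (by rw [resM_self]; exact hf)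
  have hf0 : f ≠ 0 := fun h => by
    refine hs' (eq_zero_of_resM hL hη hgen ?_)
    rw [← hf, h, zero_smul]
  have hinjθ : Function.Injective (Polynomial.aeval (R := k) f) := by
    by_contra hni
    have halg : IsAlgebraic k f := by
      by_contra htr
      exact hni (transcendental_iff_injective.1 htr)
    obtain ⟨r, hr, hdvd⟩ := halg.exists_nonzero_dvd (mem_nonZeroDivisors_of_ne_zero hf0)
    have hu : IsUnit f := isUnit_of_dvd_unit hdvd ((isUnit_iff_ne_zero.2 hr).map (algebraMap k Γ(X, U)))
    have hU : ∀ x ∈ U, x ∈ glocus L s' := fun x hx => by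
      have h := glocus_inf s' hgen
      rw [hcoef, X.basicOpen_of_isUnit hu] at h
      exact (h.ge hx).1
    have htop : ∀ x : X, x ∈ glocus L s' := fun x => (hcov x).elim (hU x) id
    have hempty : CohB1.support (cokernel (unitDesc L s')) = ∅ :=
      Set.subset_empty_iff.1 fun x hx => support_cokernel_unitDesc s' hx (htop x)
    haveI := mono_unitDesc hL hs'
    haveI : Epi (unitDesc L s') := Abelian.epi_of_cokernel_π_eq_zero _
      ((isZero_of_support_eq_empty hempty).eq_of_tgt _ _)
    haveI : IsIso (unitDesc L s') := isIso_of_mono_of_epi _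
    rw [← deg_congr k (asIso (unitDesc L s')) 1, deg_structure] at hdeg
    exact zero_ne_one hdeg
  refine ⟨hinjθ, fun a => ?_⟩
  haveI : Coh.IsQCoh (Coh.structureModule X) := isQCoh_structureModule (X := X)
  obtain ⟨n, t, ht⟩ := exists_extend (F := Coh.structureModule X) s hL
    (show Γ(Coh.structureModule X, U) from a)
  have hgn : ∀ m, IsGen (CohB1.tensorPow L m) U (powSec (resM L le_top s) m) := fun m => isGen_powSec hgen m
  let Λ : ∀ m : ℕ, GA φ (CohB1.tensorPow L m) →ₗ[k] Γ(X, U) := fun m =>
    { toFun := fun z => (hgn m).coef le_rfl (resM _ le_top (show Γ(CohB1.tensorPow L m, ⊤) from z))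
      map_add' := fun z w => by
        show (hgn m).coef le_rfl (resM _ le_top ((show Γ(CohB1.tensorPow L m, ⊤) from z) + (show Γ(CohB1.tensorPow L m, ⊤) from w))) = _
        rw [map_add, IsGen.coef_add]
      map_smul' := fun c z => by
        show (hgn m).coef le_rfl (resM _ le_top (φ c • (show Γ(CohB1.tensorPow L m, ⊤) from z))) = _
        rw [resM_smul, IsGen.coef_smul, RingHom.id_apply, Algebra.smul_def]
        rfl }
  have hΛinj : ∀ m, Function.Injective (Λ m) := fun m => by
    refine (injective_iff_map_eq_zero (Λ m)).2 fun z hz => ?_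
    refine eq_zero_of_resM (isInvertible_tensorPow hL m) hη (hgn m) ?_
    have h := (hgn m).coef_spec le_rfl (resM _ le_top (show Γ(CohB1.tensorPow L m, ⊤) from z))
    rw [show (hgn m).coef le_rfl (resM _ le_top (show Γ(CohB1.tensorPow L m, ⊤) from z)) = 0 from hz,
      zero_smul] at h
    exact h.symm
  have hmem : ∀ (m i : ℕ), i ≤ m → f ^ i ∈ LinearMap.range (Λ m) := by
    intro m
    induction m with
    | zero =>
      intro i hi
      obtain rfl : i = 0 := by omega
      refine ⟨(show Γ(CohB1.tensorPow L 0, ⊤) from oneSec ⊤), (hgn 0).coef_eq le_rfl ?_⟩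
      rw [resM_self, pow_zero, one_smul, powSec_zero]
      exact (resM_oneSec _).symm
    | succ m ih =>
      intro i hi
      obtain ⟨j, hj, b, w, hb, hij⟩ : ∃ j, j ≤ m ∧ ∃ (b : Γ(X, U)) (w : Γ(L, ⊤)),
          b • resM L (le_top : U ≤ ⊤) s = resM L (le_top : U ≤ ⊤) w ∧ f ^ i = f ^ j * b := by
        rcases Nat.eq_zero_or_pos i with rfl | hp
        · exact ⟨0, Nat.zero_le _, 1, s, one_smul _ _, by simp⟩
        · exact ⟨i - 1, by omega, f, s', hf, by rw [← pow_succ, Nat.sub_add_cancel hp]⟩
      obtain ⟨z, hz⟩ := ih j hj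
      refine ⟨(show Γ(CohB1.tensorPow L (m + 1), ⊤) from tmul (show Γ(CohB1.tensorPow L m, ⊤) from z) w),
        (hgn (m + 1)).coef_eq le_rfl ?_⟩
      have h1 := (hgn m).coef_spec le_rfl (resM _ le_top (show Γ(CohB1.tensorPow L m, ⊤) from z))
      rw [resM_self] at h1
      rw [resM_self, hij, powSec_succ]
      refine Eq.trans ?_ (resM_tmul _ _ _).symm
      rw [← h1, ← hb, tmul_smul_left, tmul_smul_right, ← mul_smul]
      exact congrArg (· • _) (congrArg (· * b) hz.symm)
  let Θ : Polynomial.degreeLT k (n + 1) →ₗ[k] Γ(X, U) :=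
    (Polynomial.aeval (R := k) f).toLinearMap.comp (Submodule.subtype _)
  have hΘinj : Function.Injective Θ := hinjθ.comp Subtype.val_injective
  have hΘle : LinearMap.range Θ ≤ LinearMap.range (Λ n) := by
    rw [LinearMap.range_comp, Submodule.range_subtype, Polynomial.degreeLT_eq_span_X_pow, Submodule.map_span,
      Submodule.span_le]
    rintro _ ⟨p, hp, rfl⟩
    obtain ⟨i, hi, rfl⟩ := Finset.mem_image.1 hp
    show Polynomial.aeval f ((Polynomial.X : Polynomial k) ^ i) ∈ _
    rw [map_pow, Polynomial.aeval_X]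
    exact hmem n i (Finset.mem_range_succ_iff.1 hi)
  have hLn := isInvertible_tensorPow hL n
  haveI : Module.Finite k (GA φ (CohB1.tensorPow L n)) := by
    haveI := finite_HH_of_isCoh k (isCoh_of_isInvertible k hLn) 0
    exact Module.Finite.equiv (hhZero k _)
  have hdimn : Module.finrank k (GA φ (CohB1.tensorPow L n)) ≤ n + 1 := by
    rw [← finrank_GA_eq k]
    by_cases hnt : Nontrivial (Coh.HH X (CohB1.tensorPow L n) 0)
    · have h := (deg_nonneg_of_section k hdim hLn hnt).2.2
      rw [h0, deg_tensorPow k hdim hL, hdeg] at h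
      omega
    · haveI := not_nontrivial_iff_subsingleton.1 hnt
      rw [Module.finrank_zero_of_subsingleton]
      omega
  have hΘ : LinearMap.range Θ = LinearMap.range (Λ n) := by
    haveI : Module.Finite k (LinearMap.range (Λ n)) := Module.Finite.range _
    refine Submodule.eq_of_le_of_finrank_le hΘle ?_
    rw [LinearMap.finrank_range_of_inj hΘinj, LinearMap.finrank_range_of_inj (hΛinj n),
      (Polynomial.degreeLTEquiv k (n + 1)).finrank_eq, Module.finrank_fin_fun]
    exact hdimn
  have ha : a ∈ LinearMap.range (Λ n) := by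
    refine ⟨(show Γ(CohB1.tensorPow L n, ⊤) from (unitTensorIso _).hom.app ⊤ t), (hgn n).coef_eq le_rfl ?_⟩
    refine Eq.trans ?_ (app_resM _ _ _)
    rw [resM_self]
    exact ((congrArg ((unitTensorIso _).hom.app U) ht).trans (unitTensorIso_tmul' U a _)).symm
  rw [← hΘ] at ha
  obtain ⟨p, hp⟩ := ha
  exact ⟨p.1, hp⟩

end Groth.Agent.CurveRR24
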