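import Groth.Agent.CurveRR24.DegOne
import Groth.Agent.CurveLib.ProjLine

/-!
# The line from a degree one invertible module with two sections
-/

set_option autoImplicit false
set_option linter.style.haveILetI false
set_option backward.isDefEq.respectTransparency.types false
set_option maxHeartbeats 1000000

universe u

open CategoryTheory CategoryTheory.Limits AlgebraicGeometry Opposite TopologicalSpace HomogeneousLocalization
open Groth.Agent.Coherent Groth.Agent.PicLib Groth.Agent.AmpleLib Groth.Agent.EulerLib

namespace Groth.Agent.CurveRR24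

variable {X : Scheme.{u}} (k : Type u) [Field k] [X.Over (Spec (CommRingCat.of k))]
  [IsProper (X ↘ Spec (CommRingCat.of k))] [IsIntegral X]

omit [X.Over (Spec (CommRingCat.of k))] [IsProper (X ↘ Spec (CommRingCat.of k))] [IsIntegral X] in
theorem chartEquiv_coordFrac (j : Fin (1 + 1)) :
    P1Lib24.chartEquiv k j (EmbLib24.coordFrac 1 k j j.rev) = MvPolynomial.X PUnit.unit := by
  show P1Lib24.dehomAlgEquiv k j (ProjLib.evalOne (algebraMap _ _ (EmbLib24.coordFrac 1 k j j.rev))) = _
  rw [HomogeneousLocalization.algebraMap_apply, EmbLib24.coordFrac, Away.val_mk, ProjLib.evalOne_mk]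
  have h : j.rev ≠ j := by revert j; decide
  simp [P1Lib24.dehomAlgEquiv, AlgEquiv.ofAlgHom, h]

omit [X.Over (Spec (CommRingCat.of k))] [IsProper (X ↘ Spec (CommRingCat.of k))] [IsIntegral X] in
theorem surjective_eval_coordFrac (j : Fin (1 + 1)) :
    Function.Surjective
      (Polynomial.eval₂RingHom (EmbLib24.awayConst 1 k j) (EmbLib24.coordFrac 1 k j j.rev)) := by
  intro z
  let ψ := Polynomial.eval₂RingHom (EmbLib24.awayConst 1 k j) (EmbLib24.coordFrac 1 k j j.rev)
  let e := P1Lib24.chartEquiv k j
  let ρ : MvPolynomial PUnit.{u + 1} k →+* Away (CohB1.polyGrading 1 k) (MvPolynomial.X j) :=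
    ψ.comp (MvPolynomial.eval₂Hom Polynomial.C fun _ => Polynomial.X)
  have h : e.toRingHom.comp ρ = RingHom.id _ := by
    refine MvPolynomial.ringHom_ext (fun c => ?_) fun _ => ?_
    · show e (ψ (MvPolynomial.eval₂Hom _ _ (MvPolynomial.C c))) = _
      rw [MvPolynomial.eval₂Hom_C, RingHom.id_apply]
      show e (Polynomial.eval₂ _ _ (Polynomial.C c)) = _
      rw [Polynomial.eval₂_C]
      exact P1Lib24.chartEquiv_toAway k j c
    · show e (ψ (MvPolynomial.eval₂Hom _ _ (MvPolynomial.X _))) = _
      rw [MvPolynomial.eval₂Hom_X', RingHom.id_apply]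
      show e (Polynomial.eval₂ _ _ Polynomial.X) = _
      rw [Polynomial.eval₂_X]
      exact chartEquiv_coordFrac k j
  exact ⟨MvPolynomial.eval₂Hom Polynomial.C (fun _ => Polynomial.X) (e z),
    e.injective (RingHom.congr_fun h (e z))⟩

/-- An integral proper curve with a degree one invertible module with two sections is the line. -/
theorem exists_iso_projLine (hdim : topologicalKrullDim X = 1) {L : X.Modules} (hL : PicF.IsInvertible L)
    (hdeg : Curv2.deg k X L 1 = 1) (h2 : 2 ≤ Module.finrank k (Coh.HH X L 0)) :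
    ∃ e : X ≅ CohB1.ProjSpace 1 k,
      e.hom ≫ CohB1.ProjSpace.toSpec 1 k = X ↘ (Spec (CommRingCat.of k)) := by
  classical
  haveI := isNoetherian_of_proper k (X := X)
  let q := X ↘ Spec (CommRingCat.of k)
  let φ := baseHom k X
  have hnt : Nontrivial (Coh.HH X L 0) := Module.nontrivial_of_finrank_pos (R := k) (by omega)
  have h0 := h0_structure_of_deg_one k hdim.le hL hdeg hnt
  have hL2 : Module.finrank k (Coh.HH X L 0) = 2 := by
    have h := (deg_nonneg_of_section k hdim.le hL hnt).2.2
    rw [h0, hdeg] at h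
    omega
  haveI : Module.Finite k (GA φ L) := Module.finite_of_finrank_pos (by
    rw [← finrank_GA_eq k, hL2]; exact two_pos)
  let bs := Module.finBasisOfFinrankEq k (GA φ L) (by rw [← finrank_GA_eq k, hL2] : _ = 2)
  let σ : Fin (1 + 1) → Γ(L, ⊤) := fun i => (show Γ(L, ⊤) from bs i)
  have hσ0 : ∀ i, σ i ≠ 0 := fun i => bs.ne_zero i
  have hspan : ∀ s : Γ(L, ⊤), ∃ c : Fin (1 + 1) → k, ∑ i, ProjUP.toGlobal q (c i) • σ i = s := fun s =>
    ⟨fun i => bs.repr (show GA φ L from s) i, bs.sum_repr (show GA φ L from s)⟩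
  have hgenc : ∀ P : X, IsClosed ({P} : Set X) → ∃ i, P ∈ glocus L (σ i) := fun P hP => by
    by_contra hcon
    push Not at hcon
    have hall : ∀ s : Γ(L, ⊤), P ∉ glocus L s := fun s hs => by
      obtain ⟨c, rfl⟩ := hspan s
      rw [mem_glocus_iff_germ hL, map_sum] at hs
      refine hs (Submodule.sum_mem _ fun i _ => ?_)
      rw [QCohLoc.germ_smul']
      exact Submodule.smul_mem _ _ (not_not.1 ((mem_glocus_iff_germ hL _ P).not.1 (hcon i)))
    have he := h0_eq_of_all_vanish k hP hL hall
    let I := ptIdeal P hP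
    have hchi : Curv2.euler k X (CohB1.tensorMod (ClSub.idealMod I) L) =
        Curv2.euler k X L - (letI := Curv2.resAlgebra k X P; (Module.finrank k (X.residueField P) : ℤ)) := by
      rw [euler_congr k X (tensorComm (ClSub.idealMod I) L)]
      exact euler_tensor_ptIdeal k hP hL
    have hres : 0 < (letI := Curv2.resAlgebra k X P; Module.finrank k (X.residueField P)) := by
      let _ := Curv2.resAlgebra k X P
      haveI := finite_resField hP k
      exact Module.finrank_pos
    rw [finrank_HH_congr k (tensorComm L (ClSub.idealMod I)) 0, hL2] at he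
    have hnt' : Nontrivial (Coh.HH X (CohB1.tensorMod (ClSub.idealMod I) L) 0) :=
      Module.nontrivial_of_finrank_pos (R := k) (by omega)
    obtain ⟨z, hz⟩ := exists_ne_zero_of_nontrivial k hnt'
    haveI := mono_twistMul I hL
    have hle := h0_le_of_mono k hdim.le (isCoh_twist hL (isCoh_idealMod' I)) hL (twistMul I L) hz
    have hd : Curv2.euler k X L - Curv2.euler k X (Coh.structureModule X) = 1 := by
      rw [← hdeg]; simp [Curv2.deg]
    omega
  have hcov : ∀ x : X, ∃ i, x ∈ glocus L (σ i) := fun x => by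
    obtain ⟨P, hPx, hP⟩ := (isClosed_closure (s := ({x} : Set X))).exists_closed_singleton ⟨x, subset_closure rfl⟩
    obtain ⟨i, hi⟩ := hgenc P hP
    exact ⟨i, (specializes_iff_mem_closure.2 hPx).mem_open (glocus L (σ i)).2 hi⟩
  obtain ⟨r, hr, τ, hτ⟩ := UPLib.exists_hom_projSpace 1 q hL σ hcov
  have hpre : ∀ j, r ⁻¹ᵁ EmbLib24.chart 1 k j = glocus L (σ j) := fun j => by
    rw [EmbLib24.preimage_chart r j, ← glocus_map_iso τ, show τ.hom.app ⊤ (EmbLib24.sig r j) = σ j from hτ j]
  haveI : IsProper (CohB1.ProjSpace.toSpec 1 k) := CurveLib.isProper_projSpace k 1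
  haveI : IsProper (r ≫ CohB1.ProjSpace.toSpec 1 k) := by rw [hr]; infer_instance
  haveI : IsProper r := IsProper.of_comp r (CohB1.ProjSpace.toSpec 1 k)
  have hnogen : ∀ j, ∃ x, x ∉ glocus L (σ j) := fun j => by
    by_contra hall
    push Not at hall
    have hempty : CohB1.support (cokernel (unitDesc L (σ j))) = ∅ :=
      Set.subset_empty_iff.1 fun x hx => support_cokernel_unitDesc (σ j) hx (hall x)
    haveI := mono_unitDesc hL (hσ0 j)
    haveI : Epi (unitDesc L (σ j)) := Abelian.epi_of_cokernel_π_eq_zero _
      ((isZero_of_support_eq_empty hempty).eq_of_tgt _ _)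
    haveI : IsIso (unitDesc L (σ j)) := isIso_of_mono_of_epi _
    rw [← deg_congr k (asIso (unitDesc L (σ j))) 1, deg_structure] at hdeg
    exact zero_ne_one hdeg
  have hfib : ∀ y, (r ⁻¹' {y}).Finite := fun y => by
    by_cases hη : genericPoint X ∈ r ⁻¹' {y}
    · refine (Set.finite_singleton (genericPoint X)).subset fun x hx => ?_
      refine (CurvesLib24.eq_genericPoint_or_isClosed hdim.le x).resolve_right fun hc => ?_
      have hy : IsClosed ({y} : Set (CohB1.ProjSpace 1 k)) := by
        have := r.isClosedMap _ hc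
        rwa [Set.image_singleton, show r x = y from hx] at this
      have hall : ∀ z, r z = y := fun z =>
        ((genericPoint_specializes z).map r.continuous).mem_closed hy hη
      obtain ⟨j, hj⟩ := EmbLib24.exists_chart_mem y
      obtain ⟨z, hz⟩ := hnogen j
      exact hz ((hpre j).le ((hall z).symm ▸ hj : r z ∈ EmbLib24.chart 1 k j))
    · by_cases hy : IsClosed ({y} : Set (CohB1.ProjSpace 1 k))
      · exact (closed_small k hdim.le (hy.preimage r.continuous) hη).1
      · refine (Set.finite_empty).subset fun x hx => ?_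
        rcases CurvesLib24.eq_genericPoint_or_isClosed hdim.le x with h | hc
        · exact hη (h ▸ hx)
        · refine hy ?_
          have := r.isClosedMap _ hc
          rwa [Set.image_singleton, show r x = y from hx] at this
  haveI : LocallyQuasiFinite r := LocallyQuasiFinite.of_finite_preimage_singleton r hfib
  haveI : IsFinite r := IsFinite.of_isProper_of_locallyQuasiFinite r
  have hiso : ∀ j, IsIso (r.app (EmbLib24.chart 1 k j)) := fun j => by
    rw [ConcreteCategory.isIso_iff_bijective]
    have hgen : IsGen L (glocus L (σ j)) (resM L le_top (σ j)) := isGen_glocus (σ j)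
    let f := hgen.coef le_rfl (resM L le_top (σ j.rev))
    have hf : f • resM L (le_top : glocus L (σ j) ≤ ⊤) (σ j) = resM L le_top (σ j.rev) := by
      have := hgen.coef_spec le_rfl (resM L le_top (σ j.rev))
      rwa [resM_self] at this
    have hθ := bijective_eval_coef k hdim.le h0 hL hdeg (σ j) (σ j.rev) (hσ0 j) (hσ0 _) (fun x => by
      obtain ⟨i, hi⟩ := hcov x
      by_cases h : i = j
      · exact Or.inl (h ▸ hi)
      · exact Or.inr ((show ∀ a b : Fin (1 + 1), a ≠ b → a = b.rev from by decide) i j h ▸ hi)) f hf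
    let ψ := Polynomial.eval₂RingHom (EmbLib24.awayConst 1 k j) (EmbLib24.coordFrac 1 k j j.rev)
    let ρ : Away (CohB1.polyGrading 1 k) (MvPolynomial.X j) →+* Γ(X, glocus L (σ j)) :=
      ((r.appLE (EmbLib24.chart 1 k j) (glocus L (σ j)) (hpre j).ge).hom.comp
        (Proj.awayToSection (CohB1.polyGrading 1 k) (MvPolynomial.X j)).hom)
    have hρψ : ρ.comp ψ = Polynomial.eval₂RingHom (EmbLib24.gl q (glocus L (σ j))) f := by
      refine Polynomial.ringHom_ext (fun c => ?_) ?_
      · show r.appLE _ _ _ (Proj.awayToSection _ _ (Polynomial.eval₂ _ _ (Polynomial.C c))) = _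
        rw [Polynomial.eval₂_C, EmbLib24.awayToSection_const, EmbLib24.appLE_gl hr]
        exact (Polynomial.eval₂_C _ _).symm
      · show r.appLE _ _ _ (Proj.awayToSection _ _ (Polynomial.eval₂ _ _ Polynomial.X)) =
          Polynomial.eval₂ _ f Polynomial.X
        rw [Polynomial.eval₂_X, Polynomial.eval₂_X]
        refine (hgen _ le_rfl).1 ?_
        beta_reduce
        rw [resM_self, hf]
        have hA := congrArg (τ.hom.app (glocus L (σ j)))
          (EmbLib24.appLE_coordFun_smul r j j.rev (glocus L (σ j)) (hpre j).ge)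
        rw [Scheme.Modules.Hom.app_smul, app_resM, app_resM,
          show τ.hom.app ⊤ (EmbLib24.sig r j) = σ j from hτ j,
          show τ.hom.app ⊤ (EmbLib24.sig r j.rev) = σ j.rev from hτ j.rev] at hA
        exact hA
    have hρ : Function.Bijective ρ := by
      have hc : Function.Bijective (ρ ∘ ψ) := by
        have := hθ
        rw [← hρψ] at this
        exact this
      have hψ := surjective_eval_coordFrac k j
      refine ⟨fun a b h => ?_, Function.Surjective.of_comp hc.2⟩
      obtain ⟨a, rfl⟩ := hψ a
      obtain ⟨b, rfl⟩ := hψ b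
      exact congrArg ψ (hc.1 h)
    have haw : Function.Bijective (Proj.awayToSection (CohB1.polyGrading 1 k) (MvPolynomial.X j)).hom := by
      haveI : IsIso (Proj.awayToSection (CohB1.polyGrading 1 k) (MvPolynomial.X j)) :=
        inferInstanceAs (IsIso (Proj.basicOpenIsoAway (CohB1.polyGrading 1 k) (MvPolynomial.X j)
          (MvPolynomial.isHomogeneous_X k j) one_pos).hom)
      exact ConcreteCategory.bijective_of_isIso _
    have h1 : Function.Bijective (r.appLE (EmbLib24.chart 1 k j) (glocus L (σ j)) (hpre j).ge).hom :=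
      (Function.Bijective.of_comp_iff _ haw).1 hρ
    have hmap : Function.Bijective (X.presheaf.map (homOfLE (hpre j).ge).op).hom := by
      haveI : IsIso (homOfLE (hpre j).ge).op := by
        rw [show homOfLE (hpre j).ge = eqToHom (hpre j).symm from rfl]; infer_instance
      exact ConcreteCategory.bijective_of_isIso _
    exact (Function.Bijective.of_comp_iff' hmap _).1 h1
  haveI : IsIso r := by
    refine (IsZariskiLocalAtTarget.iff_of_iSup_eq_top (P := MorphismProperty.isomorphisms Scheme.{u})
      (EmbLib24.chart 1 k) (eq_top_iff.2 fun y _ => ?_)).2 fun j => ?_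
    · obtain ⟨j, hj⟩ := EmbLib24.exists_chart_mem y
      exact Opens.mem_iSup.2 ⟨j, hj⟩
    · exact (isIso_morphismRestrict_iff_isIso_app r (EmbLib24.isAffineOpen_chart 1 k j)).2 (hiso j)
  exact ⟨asIso r, hr⟩

end Groth.Agent.CurveRR24
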