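import Groth.Agent.AbCubeLib.FiniteDegree
import Groth.Agent.CurveRR24.Degree
import Groth.Agent.EulerLib.DegClass

/-! # Degrees along finite flat morphisms of curves -/

set_option autoImplicit false
set_option linter.style.haveILetI false
set_option backward.isDefEq.respectTransparency.types false

universe u

open CategoryTheory CategoryTheory.Limits AlgebraicGeometry Opposite TopologicalSpace
open Groth.Agent.Coherent Groth.Agent.PicLib Groth.Agent.AmpleLib Groth.Agent.EulerLib Groth.Agent.AbCubeLib

namespace Groth.Agent.CurveRR24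

variable (k : Type u) [Field k] {X Y : Scheme.{u}} [X.Over (Spec (CommRingCat.of k))] [Y.Over (Spec (CommRingCat.of k))]
  [IsProper (X ↘ Spec (CommRingCat.of k))] [IsProper (Y ↘ Spec (CommRingCat.of k))]

omit [IsProper (X ↘ Spec (CommRingCat.of k))] in
theorem interDeg_fin_one (F : X.Modules) {N : X.Modules} (hN : PicF.IsInvertible N) :
    interDeg (fun _ : Fin 1 => InvCl.mk N hN) (chiCl k F) =
      Curv2.euler k X (CohB1.tensorMod F N) - Curv2.euler k X F := by
  have h0 : (fun _ : Fin 1 => InvCl.mk N hN) = Fin.cons (InvCl.mk N hN) Fin.elim0 := by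
    funext i; fin_cases i; rfl
  rw [h0, interDeg_cons, interDeg_zero, mul_one, chiCl_mk, show chiCl k F 1 =
    Curv2.euler k X (CohB1.tensorMod F (Coh.structureModule X)) from rfl,
    euler_congr k X (tensorComm F (Coh.structureModule X) ≪≫ unitTensorIso F)]

/-- `deg (g^* N) = deg g · deg N`. -/
theorem deg_pullback [IsIntegral X] [IsIntegral Y] (g : X ⟶ Y) [IsFinite g] [Flat g]
    (hg : g ≫ (Y ↘ Spec (CommRingCat.of k)) = X ↘ Spec (CommRingCat.of k))
    (hY : topologicalKrullDim Y ≤ 1) {N : Y.Modules} (hN : PicF.IsInvertible N) (y : Y) :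
    Curv2.deg k X ((Scheme.Modules.pullback g).obj N) 1 = Scheme.Hom.finrank g y * Curv2.deg k Y N 1 := by
  haveI := isNoetherian_of_proper (X := X) k
  haveI := isNoetherian_of_proper (X := Y) k
  haveI := isSeparated_of_proper (X := Y) k
  let O := Coh.structureModule X
  have hO : Coh.IsCoh O := isCoh_structureModule _
  have hE : Coh.IsCoh ((Coh.push g).obj O) := isCoh_push_finite g hO
  have hNF : FlatMod.IsFinLocFree N := fun x => let ⟨U, hx, e⟩ := isFinLocFreeOfRank_one hN x; ⟨U, 1, hx, e⟩
  have hNX := PicLoc.isInvertible_pullback g hN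
  have hdegX : Curv2.deg k X ((Scheme.Modules.pullback g).obj N) 1 =
      Curv2.euler k Y (CohB1.tensorMod ((Coh.push g).obj O) N) - Curv2.euler k Y ((Coh.push g).obj O) := by
    haveI hqc : Coh.IsQCoh (CohB1.tensorMod ((Scheme.Modules.pullback g).obj N) O) :=
      (isCoh_iso (tensorComm _ _) (isCoh_twist (F := O) hNX hO)).1
    haveI : Coh.IsQCoh O := hO.1
    rw [euler_congr k Y (tensorComm _ _ ≪≫ (projIso (f := g) hNF).app O),
      ← euler_push k g hg O]
    have h := euler_push k g hg (CohB1.tensorMod ((Scheme.Modules.pullback g).obj N) O)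
    rw [euler_congr k X (tensorComm _ O ≪≫ unitTensorIso ((Scheme.Modules.pullback g).obj N))] at h
    erw [← h]
    simp [Curv2.deg, O]
  have hY1 : topologicalKrullDim Y ≤ ((1 : ℕ) : WithBot ℕ∞) := hY
  have h1 := interDeg_eq_genRank k hY1 (fun _ : Fin 1 => InvCl.mk N hN) _ hE
  have h2 := interDeg_eq_genRank k hY1 (fun _ : Fin 1 => InvCl.mk N hN) _ (isCoh_structureModule Y)
  rw [genRank_structureModule, Nat.cast_one, one_mul] at h2
  rw [← h2, interDeg_fin_one, interDeg_fin_one,
    euler_congr k Y (unitTensorIso N : CohB1.tensorMod (Coh.structureModule Y) N ≅ N),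
    ← finrank_eq_genRank g y] at h1
  rw [hdegX, h1]
  simp [Curv2.deg]

end Groth.Agent.CurveRR24
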