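import Groth.Agent.Coherent.FlatBaseChange
import Groth.Agent.Coherent.SecBridge
import Groth.Agent.Coherent.AffineVanishing
import Groth.Agent.EmbLib24.Coord
import Groth.Agent.EulerLib.Additive

/-! # `H¹(X, O)` by a cover with two affine opens -/

set_option autoImplicit false
set_option backward.isDefEq.respectTransparency.types false
set_option maxHeartbeats 800000

universe u

open CategoryTheory CategoryTheory.Limits AlgebraicGeometry Opposite TopologicalSpace
open Groth.Agent.Coherent Groth.Agent.EulerLib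

namespace Groth.Agent.CurveRR24

variable {k : Type u} [Field k] {X : Scheme.{u}}

/-- Degree zero cohomology of the structure sheaf is functions. -/
noncomputable def secO (φ : k →+* Γ(X, ⊤)) (U : X.Opens) :
    HA φ (Coh.structureModule X) U 0 ≃+ Γ(X, U) :=
  secH (X := X.toTopCat) (Coh.toAb (Coh.structureModule X)) U

theorem secO_res (φ : k →+* Γ(X, ⊤)) {U V : X.Opens} (h : U ≤ V) (x : HA φ (Coh.structureModule X) V 0) :
    secO φ U (resA φ (Coh.structureModule X) h 0 x) = X.presheaf.map (homOfLE h).op (secO φ V x) :=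
  secH_resH (X := X.toTopCat) (F := Coh.toAb (Coh.structureModule X)) h x

theorem secO_smul (φ : k →+* Γ(X, ⊤)) (U : X.Opens) (c : k) (x : HA φ (Coh.structureModule X) U 0) :
    secO φ U (c • x) = X.presheaf.map (homOfLE (le_top : U ≤ ⊤)).op (φ c) * secO φ U x :=
  (secH_postH (X := X.toTopCat) (smulEndAb (Coh.structureModule X) (φ c)) U x).trans
    (smulEndAb_app (Coh.structureModule X) (φ c) U _)

/-- With affine `U ∪ V = X`, `H¹(X, O)` is functions on `U ∩ V` modulo those of `U` and `V`. -/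
theorem exists_cocycle_map [X.Over (Spec (CommRingCat.of k))] [Coh.IsQCoh (Coh.structureModule X)]
    {U V : X.Opens} (hU : IsAffineOpen U) (hV : IsAffineOpen V) (h : U ⊔ V = ⊤) :
    ∃ δ : Γ(X, U ⊓ V) →+ Coh.HH X (Coh.structureModule X) 1, Function.Surjective δ ∧
      (∀ (c : k) w, δ (EmbLib24.gl (X ↘ Spec (CommRingCat.of k)) (U ⊓ V) c * w) = c • δ w) ∧
      ∀ w, δ w = 0 ↔ ∃ a b, w = X.presheaf.map (homOfLE (inf_le_left : U ⊓ V ≤ U)).op a -
        X.presheaf.map (homOfLE (inf_le_right : U ⊓ V ≤ V)).op b := by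
  let φ := baseHom k X
  let O := Coh.structureModule X
  let r := resA φ O h.ge 1
  have hr : Function.Bijective r := by
    refine Function.bijective_iff_has_inverse.2 ⟨resA φ O h.le 1, fun x => ?_, fun x => ?_⟩
    · exact (resH_resH (X := X.toTopCat) 1 h.le h.ge x).trans (resH_refl (X := X.toTopCat) 1 _ x)
    · exact (resH_resH (X := X.toTopCat) 1 h.ge h.le x).trans (resH_refl (X := X.toTopCat) 1 _ x)
  let D : HA φ O (U ⊓ V) 0 →ₗ[k] Coh.HH X O 1 :=
    (HHBaseEquiv k O 1).symm.toLinearMap ∘ₗ r ∘ₗ mvA φ O U V 0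
  refine ⟨D.toAddMonoidHom.comp (secO φ (U ⊓ V)).symm.toAddMonoidHom, ?_, fun c w => ?_, fun w => ?_⟩
  · refine ((HHBaseEquiv k O 1).symm.surjective.comp (hr.2.comp ?_)).comp (secO φ (U ⊓ V)).symm.surjective
    intro x
    haveI := subsingleton_H'_qcoh O hU 0
    haveI := subsingleton_H'_qcoh O hV 0
    exact (exact_mvA_mvRes φ O U V 0 x).1 (Prod.ext (Subsingleton.elim (α := Sheaf.H' (Coh.toAb O) 1 U) _ _)
      (Subsingleton.elim (α := Sheaf.H' (Coh.toAb O) 1 V) _ _))
  · show D ((secO φ (U ⊓ V)).symm _) = c • D ((secO φ (U ⊓ V)).symm w)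
    rw [← map_smul]
    refine congrArg D ((secO φ (U ⊓ V)).injective ?_)
    rw [AddEquiv.apply_symm_apply, secO_smul, AddEquiv.apply_symm_apply]
    try rfl
  · show D ((secO φ (U ⊓ V)).symm w) = 0 ↔ _
    simp only [D, LinearMap.comp_apply, LinearEquiv.coe_coe, map_eq_zero_iff _ (HHBaseEquiv k O 1).symm.injective,
      map_eq_zero_iff _ hr.1]
    constructor
    · intro hw
      obtain ⟨a, b, hab⟩ := exists_of_deltaH_eq_zero (X := X.toTopCat) hw
      refine ⟨secO φ U a, secO φ V b, ?_⟩
      rw [← secO_res φ inf_le_left a, ← secO_res φ inf_le_right b, ← map_sub]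
      exact ((secO φ (U ⊓ V)).apply_symm_apply w).symm.trans (congrArg (secO φ (U ⊓ V)) hab.symm)
    · rintro ⟨a, b, rfl⟩
      have e : (secO φ (U ⊓ V)).symm (X.presheaf.map (homOfLE (inf_le_left : U ⊓ V ≤ U)).op a -
          X.presheaf.map (homOfLE (inf_le_right : U ⊓ V ≤ V)).op b) =
          mvDiff φ O U V 0 ((secO φ U).symm a, (secO φ V).symm b) := by
        refine (secO φ (U ⊓ V)).injective ?_
        rw [AddEquiv.apply_symm_apply, mvDiff, LinearMap.coprod_apply, LinearMap.neg_apply,
          ← sub_eq_add_neg, map_sub, secO_res, secO_res, AddEquiv.apply_symm_apply, AddEquiv.apply_symm_apply]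
      rw [e]
      exact LinearMap.congr_fun (mvA_comp_mvDiff φ O U V 0) _

end Groth.Agent.CurveRR24
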