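import Groth.Agent.CurveRR24.Ample

/-!
# `h⁰ = deg + 1` in positive degree forces genus zero
-/

set_option autoImplicit false
set_option linter.style.haveILetI false
set_option backward.isDefEq.respectTransparency.types false

universe u

open CategoryTheory CategoryTheory.Limits AlgebraicGeometry Opposite TopologicalSpace
open Groth.Agent.Coherent Groth.Agent.PicLib Groth.Agent.AmpleLib Groth.Agent.EulerLib

namespace Groth.Agent.CurveRR24

variable {X : Scheme.{u}} (k : Type u) [Field k] [X.Over (Spec (CommRingCat.of k))]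
  [IsProper (X ↘ Spec (CommRingCat.of k))] [IsIntegral X]

local notation "St" => DerSch.stalkFunctor X

include k in
/-- If all sections of `L|_Z` lift, `L` has a section generating along `Z`. -/
theorem exists_section_generating (hdim : topologicalKrullDim X ≤ 1) {L : X.Modules}
    (hL : PicF.IsInvertible L) {s : Γ(L, ⊤)} (hs : s ≠ 0)
    (hsurj : Function.Surjective ((cokernel.π (unitDesc L s)).app (⊤ : X.Opens))) :
    ∃ t : Γ(L, ⊤), ∀ p ∉ glocus L s, p ∈ glocus L t := by
  classical
  haveI := mono_unitDesc hL hs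
  let T : Set X := (glocus L s : Set X)ᶜ
  have hT : IsClosed T := (glocus L s).2.isClosed_compl
  obtain ⟨hTf, hTc, -⟩ := closed_small k hdim hT fun h => h (genericPoint_mem_glocus hL hs)
  let π := cokernel.π (unitDesc L s)
  let Q := cokernel (unitDesc L s)
  have hQ : CohB1.support Q ⊆ T := support_cokernel_unitDesc s
  choose U₀ hpU g₀ hg₀ using fun p : X => exists_isGen hL p
  have hcl : ∀ p : X, IsClosed (T \ {p}) := fun p => by
    rw [← Set.biUnion_of_singleton (T \ {p})]
    exact (hTf.subset Set.sdiff_subset).isClosed_biUnion fun y hy => hTc y hy.1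
  let V : X → X.Opens := fun p => U₀ p ⊓ ⟨(T \ {p})ᶜ, (hcl p).isOpen_compl⟩
  have hpV : ∀ p, p ∈ V p := fun p => ⟨hpU p, fun h => h.2 rfl⟩
  let F : TopCat.Sheaf Ab X := ⟨Q.presheaf, Q.isSheaf⟩
  let O : X.Opens := ⟨Tᶜ, hT.isOpen_compl⟩
  let U : Option T → X.Opens := fun o => o.elim O fun p => V p.1
  let sf : ∀ o, ToType (F.presheaf.obj (op (U o))) := fun o =>
    match o with
    | none => (0 : Γ(Q, O))
    | some p => (π.app (V p.1) (resM L (inf_le_left : V p.1 ≤ U₀ p.1) (g₀ p.1)) : Γ(Q, V p.1))
  have hdis : ∀ W : X.Opens, (∀ y ∈ W, y ∉ T) → Subsingleton Γ(Q, W) := fun W hW =>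
    subsingleton_sections_of_disjoint Q W (Set.disjoint_left.2 fun y hy hyQ => hW y hy (hQ hyQ))
  have hcompat : TopCat.Presheaf.IsCompatible F.presheaf U sf := by
    rintro (_ | p) (_ | q)
    · rfl
    · refine @Subsingleton.elim _ (hdis _ ?_) _ _
      intro y hy; exact hy.1
    · refine @Subsingleton.elim _ (hdis _ ?_) _ _
      intro y hy; exact hy.2
    · by_cases hpq : p = q
      · subst hpq; rfl
      · refine @Subsingleton.elim _ (hdis _ ?_) _ _
        intro y hy hyT
        refine hpq (Subtype.ext ?_)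
        have h1 : y = p.1 := not_not.1 fun h => hy.1.2 ⟨hyT, h⟩
        have h2 : y = q.1 := not_not.1 fun h => hy.2.2 ⟨hyT, h⟩
        rw [← h1, h2]
  obtain ⟨z, hz, -⟩ := TopCat.Sheaf.existsUnique_gluing' F U ⊤ (fun _ => homOfLE le_top)
    (fun y _ => by
      by_cases h : y ∈ T
      · exact Opens.mem_iSup.2 ⟨some ⟨y, h⟩, hpV y⟩
      · exact Opens.mem_iSup.2 ⟨none, h⟩) sf hcompat
  obtain ⟨t, ht⟩ := hsurj (z : Γ(Q, ⊤))
  refine ⟨t, fun p hp => ?_⟩
  by_contra hpt
  let g := resM L (inf_le_left : V p ≤ U₀ p) (g₀ p)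
  have hg : IsGen L (V p) g := (hg₀ p).restrict inf_le_left
  have hd : π.app (V p) (resM L (le_top : V p ≤ ⊤) t - g) = 0 := by
    rw [map_sub, app_resM, ht]
    exact sub_eq_zero.2 (hz (some ⟨p, hp⟩))
  have hS : (ShortComplex.mk (unitDesc L s) (cokernel.π _) (cokernel.condition _)).ShortExact :=
    { exact := ShortComplex.exact_of_g_is_cokernel _ (cokernelIsCokernel _) }
  obtain ⟨c', hc'⟩ := sections_exact hS _ hd
  let c : Γ(X, V p) := c'
  have hc : resM L (le_top : V p ≤ ⊤) t - g = c • resM L (le_top : V p ≤ ⊤) s :=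
    hc'.symm.trans (unitDesc_app L s (V p) c)
  obtain ⟨f, hf⟩ := (hg (V p) le_rfl).2 (resM L le_top s)
  beta_reduce at hf
  rw [resM_self] at hf
  have hft : (1 + c * f) • g = resM L (le_top : V p ≤ ⊤) t := by
    rw [add_smul, one_smul, mul_smul, hf, ← hc, add_sub_cancel]
  have h1 := glocus_inf t hg
  rw [hg.coef_eq le_rfl (r := 1 + c * f) (by rw [resM_self]; exact hft)] at h1
  have h2 := glocus_inf s hg
  rw [hg.coef_eq le_rfl (r := f) (by rw [resM_self]; exact hf)] at h2
  have hn1 : p ∉ X.basicOpen (1 + c * f) := fun h => hpt (h1.ge h).1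
  have hn2 : p ∉ X.basicOpen f := fun h => hp (h2.ge h).1
  rw [X.mem_basicOpen _ p (hpV p), ← mem_nonunits_iff] at hn1 hn2
  have := (IsLocalRing.maximalIdeal (X.presheaf.stalk p)).sub_mem hn1
    (Ideal.mul_mem_left _ (X.presheaf.germ (V p) p (hpV p) c) hn2)
  rw [map_add, map_mul, map_one, add_sub_cancel_right] at this
  exact this isUnit_one

/-- If all sections of `L|_Z` lift, then `h¹` does not decrease from `O` to the powers of `L`. -/
theorem genus_le_h1_tensorPow (hdim : topologicalKrullDim X ≤ 1) {L : X.Modules}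
    (hL : PicF.IsInvertible L) {s : Γ(L, ⊤)} (hs : s ≠ 0)
    (hsurj : Function.Surjective ((cokernel.π (unitDesc L s)).app (⊤ : X.Opens))) :
    ∀ n : ℕ, Curv2.genus k X ≤ Module.finrank k (Coh.HH X (CohB1.tensorPow L n) 1)
  | 0 => le_rfl
  | n + 1 => by
    refine (genus_le_h1_tensorPow hdim hL hs hsurj n).trans ?_
    haveI := isLocallyNoetherian_of_proper k (X := X)
    haveI := mono_unitDesc hL hs
    obtain ⟨t, ht⟩ := exists_section_generating k hdim hL hs hsurj
    let P := CohB1.tensorPow L n
    have hP : PicF.IsInvertible P := isInvertible_tensorPow hL n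
    let Q := cokernel (unitDesc L s)
    let b : Γ(P, ⊤) := powSec t n
    have hb : glocus L t ≤ glocus P b := by
      rcases n with _ | m
      · exact le_top.trans (glocus_oneSec (X := X)).ge
      · exact (glocus_powSec hL t m).ge
    haveI : IsIso (mulSec (P := P) Q b) := by
      refine ModStalk.isIso_of_stalks _ fun x => ?_
      rw [ConcreteCategory.isIso_iff_bijective]
      by_cases hx : x ∈ glocus P b
      · exact bijective_stalk_mulSec Q b hx
      · have hxQ : x ∉ CohB1.support Q := fun h =>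
          hx (hb (ht x (support_cokernel_unitDesc s h)))
        haveI hQ0 : Subsingleton ((St x).obj Q) := not_not.1 hxQ
        haveI : Subsingleton ((St x).obj (CohB1.tensorMod Q P)) :=
          not_not.1 fun h => hxQ ((support_twist hP Q).le h)
        exact ⟨fun a c _ => Subsingleton.elim a c, fun y => ⟨0, Subsingleton.elim _ _⟩⟩
    let S := twistSeq (ShortComplex.mk (unitDesc L s) (cokernel.π _) (cokernel.condition _)) P
    have hS : S.ShortExact := twistSeq_shortExact hP
      { exact := ShortComplex.exact_of_g_is_cokernel _ (cokernelIsCokernel _) }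
    have hg : Function.Surjective (mapGA (baseHom k X) S.g) := fun z => by
      obtain ⟨a, ha⟩ := (ConcreteCategory.bijective_of_isIso ((mulSec (P := P) Q b).app ⊤)).2
        (show Γ(CohB1.tensorMod Q P, ⊤) from z)
      rw [mulSec_app] at ha
      obtain ⟨u, rfl⟩ := hsurj a
      refine ⟨(show Γ(S.X₂, ⊤) from tmul u (resM P le_top b)), ?_⟩
      show (tensorMap (cokernel.π (unitDesc L s)) (𝟙 P)).app ⊤ (tmul u (resM P le_top b)) = _
      rw [tensorMap_tmul]
      exact ha
    have hinj : Function.Injective (postA (baseHom k X) S.f (⊤ : X.Opens) 1) := by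
      refine (injective_iff_map_eq_zero _).2 fun x hx => ?_
      obtain ⟨y, rfl⟩ := (exact_deltaA_postA (baseHom k X) hS (⊤ : X.Opens) 0 x).1 hx
      obtain ⟨w, hw⟩ := hg (secA (baseHom k X) S.X₃ y)
      have hy : postA (baseHom k X) S.g ⊤ 0 ((secA (baseHom k X) S.X₂).symm w) = y := by
        apply (secA (baseHom k X) S.X₃).injective
        rw [secA_natural, LinearEquiv.apply_symm_apply]
        exact hw
      exact (exact_postA_deltaA (baseHom k X) hS (⊤ : X.Opens) 0 y).2 ⟨_, hy⟩
    haveI : Module.Finite k (HA (baseHom k X) S.X₂ (⊤ : X.Opens) 1) :=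
      finCoh_of_isProper (X ↘ Spec (CommRingCat.of k)) _ (isCoh_twist hP (isCoh_of_isInvertible k hL)) 1
    rw [← finrank_HH_congr k (unitTensorIso P) 1]
    change Module.finrank k (Coh.HH X S.X₁ 1) ≤ Module.finrank k (Coh.HH X (CohB1.tensorMod P L) 1)
    rw [← finrank_HH_congr k (tensorComm L P) 1]
    change Module.finrank k (Coh.HH X S.X₁ 1) ≤ Module.finrank k (Coh.HH X S.X₂ 1)
    rw [(HHBaseEquiv k S.X₁ 1).finrank_eq, (HHBaseEquiv k S.X₂ 1).finrank_eq]
    exact LinearMap.finrank_le_finrank_of_injective hinj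

/-- `h⁰(L) = deg L + h⁰(O)` with positive degree forces genus zero. -/
theorem genus_zero_of_h0_eq (hdim : topologicalKrullDim X ≤ 1) {L : X.Modules} (hL : PicF.IsInvertible L)
    (h : (Module.finrank k (Coh.HH X L 0) : ℤ) =
      Module.finrank k (Coh.HH X (Coh.structureModule X) 0) + Curv2.deg k X L 1)
    (hdeg : 0 < Curv2.deg k X L 1) : Curv2.genus k X = 0 := by
  haveI := isLocallyNoetherian_of_proper k (X := X)
  have hns : Nontrivial (Coh.HH X L 0) := Module.nontrivial_of_finrank_pos (R := k) (by omega)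
  obtain ⟨s, hs⟩ := exists_ne_zero_of_nontrivial k hns
  haveI := mono_unitDesc hL hs
  have hO := isCoh_structureModule X
  have hLc := isCoh_of_isInvertible k hL
  let S := ShortComplex.mk (unitDesc L s) (cokernel.π _) (cokernel.condition _)
  have hS : S.ShortExact := { exact := ShortComplex.exact_of_g_is_cokernel _ (cokernelIsCokernel _) }
  have hQ : Coh.IsCoh S.X₃ := isCoh_cokernel _ hO.1 hLc
  have hχ := euler_additive k X S hS hO hLc hQ
  change Curv2.euler k X L = Curv2.euler k X (Coh.structureModule X) + Curv2.euler k X S.X₃ at hχ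
  rw [euler_eq_h0_of_small k hdim hQ.1 (glocus L s).2.isClosed_compl
    (fun h => h (genericPoint_mem_glocus hL hs)) (support_cokernel_unitDesc s)] at hχ
  have hsurj : Function.Surjective ((cokernel.π (unitDesc L s)).app (⊤ : X.Opens)) := by
    haveI := finCoh_of_isProper (X ↘ Spec (CommRingCat.of k)) _ hO 0
    haveI := finCoh_of_isProper (X ↘ Spec (CommRingCat.of k)) _ hLc 0
    haveI := finCoh_of_isProper (X ↘ Spec (CommRingCat.of k)) _ hQ 0
    let g := postA (baseHom k X) S.g (⊤ : X.Opens) 0
    have hinj := postA_zero_injective (baseHom k X) hS (⊤ : X.Opens)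
    have hex := exact_postA (baseHom k X) hS (⊤ : X.Opens) 0
    haveI : Module.Finite k (HA (baseHom k X) S.X₂ (⊤ : X.Opens) 0) :=
      finCoh_of_isProper (X ↘ Spec (CommRingCat.of k)) _ hLc 0
    have hsum := LinearMap.finrank_range_add_finrank_ker g
    rw [LinearMap.exact_iff.1 hex, LinearMap.finrank_range_of_inj hinj,
      ← (HHBaseEquiv k S.X₁ 0).finrank_eq, ← (HHBaseEquiv k S.X₂ 0).finrank_eq] at hsum
    change _ + Module.finrank k (Coh.HH X (Coh.structureModule X) 0) = Module.finrank k (Coh.HH X L 0) at hsum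
    have hd : Module.finrank k (HA (baseHom k X) S.X₃ (⊤ : X.Opens) 0) =
        Module.finrank k (Coh.HH X S.X₃ 0) := (HHBaseEquiv k S.X₃ 0).finrank_eq.symm
    have htop : LinearMap.range g = ⊤ := by
      refine Submodule.eq_top_of_finrank_eq ?_
      rw [hd]
      simp only [Curv2.deg, Nat.cast_one, one_mul] at h
      omega
    intro z
    obtain ⟨y, hy⟩ := LinearMap.range_eq_top.1 htop ((secA (baseHom k X) S.X₃).symm z)
    refine ⟨secA (baseHom k X) S.X₂ y, ?_⟩
    have := congrArg (secA (baseHom k X) S.X₃) hy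
    rw [secA_natural, LinearEquiv.apply_symm_apply] at this
    exact this
  obtain ⟨d, hd⟩ : ∃ n : ℕ, 2 * (Curv2.genus k X : ℤ) ≤ Curv2.deg k X (CohB1.tensorPow L n) 1 := by
    refine ⟨2 * Curv2.genus k X, ?_⟩
    rw [deg_tensorPow k hdim hL]
    push_cast
    nlinarith
  have hle := genus_le_h1_tensorPow k hdim hL hs hsurj d
  by_contra hne
  have hn : Nontrivial (Coh.HH X (CohB1.tensorPow L d) 1) :=
    Module.nontrivial_of_finrank_pos (R := k) (by omega)
  have hP := isInvertible_tensorPow hL d
  have hle2 := h0_le_genus_of_h1 k hdim (isCoh_of_isInvertible k hP) hP (𝟙 _) hn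
  have hrr := riemann_roch k hdim hP
  have hpos := h0_structure_pos k (X := X)
  omega

end Groth.Agent.CurveRR24
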