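import Groth.Agent.CurveRR24.Vanish
import Groth.Agent.CurveRR24.Section

/-!
# Coherent submodules of invertible modules on a curve are generated above the genus
-/

set_option autoImplicit false
set_option linter.style.haveILetI false
set_option backward.isDefEq.respectTransparency.types false

universe u

open CategoryTheory CategoryTheory.Limits AlgebraicGeometry Opposite TopologicalSpace
open Groth.Agent.Coherent Groth.Agent.PicLib Groth.Agent.AmpleLib Groth.Agent.EulerLib

namespace Groth.Agent.CurveRR24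

variable {X : Scheme.{u}}

local notation "St" => DerSch.stalkFunctor X

theorem unitDesc_zero (M : X.Modules) : unitDesc M (0 : Γ(M, ⊤)) = 0 := hom_ext_one _ _ fun V => by
  rw [unitDesc_app, one_smul, map_zero]
  rfl

/-- A module divided by finitely many global sections, with control on the stalks. -/
theorem exists_quot (M : X.Modules) (hM : Coh.IsCoh M) (l : List Γ(M, ⊤)) :
    ∃ (Q : X.Modules) (π : M ⟶ Q), Epi π ∧ Coh.IsCoh Q ∧ (∀ s ∈ l, π.app ⊤ s = 0) ∧
      ∀ (z : X) (v : M.presheaf.stalk z), (St z).map π v = 0 →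
        v ∈ Submodule.span (X.presheaf.stalk z)
          ((fun s => M.presheaf.germ ⊤ z trivial s) '' {s | s ∈ l}) := by
  induction l with
  | nil =>
    refine ⟨M, 𝟙 M, inferInstance, hM, by simp, fun z v hv => ?_⟩
    have hv0 : v = 0 := (stalk_id_apply M v).symm.trans hv
    rw [hv0]
    exact Submodule.zero_mem _
  | cons s l ih =>
    obtain ⟨Q, π, hπ, hQ, hl, hspan⟩ := ih
    haveI := hπ
    let t : Γ(Q, ⊤) := π.app ⊤ s
    haveI : Coh.IsQCoh (Coh.structureModule X) := isQCoh_structureModule (X := X)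
    let e := cokernel.π (unitDesc Q t)
    refine ⟨cokernel (unitDesc Q t), π ≫ e, epi_comp _ _, isCoh_cokernel _ inferInstance hQ,
      fun x hx => ?_, fun z v hv => ?_⟩
    · rw [Scheme.Modules.Hom.comp_app, ConcreteCategory.comp_apply]
      rcases List.mem_cons.1 hx with rfl | hx
      · have h1 := sections_zero (S := ShortComplex.mk (unitDesc Q t) e (cokernel.condition _))
          (⊤ : X.Opens) (1 : Γ(X, ⊤))
        have h2 : (unitDesc Q t).app ⊤ (1 : Γ(X, ⊤)) = t := by
          rw [unitDesc_app, one_smul, resM_self]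
        exact (congrArg (e.app ⊤) h2).symm.trans h1
      · rw [hl x hx, map_zero]
    · have hv' : (St z).map e ((St z).map π v) = 0 := (stalk_comp_apply π e v).trans hv
      have hex := (ShortComplex.exact_of_g_is_cokernel
        (ShortComplex.mk (unitDesc Q t) e (cokernel.condition _)) (cokernelIsCokernel _)).map (St z)
      obtain ⟨a, ha⟩ := (ShortComplex.moduleCat_exact_iff _).1 hex ((St z).map π v) hv'
      obtain ⟨W, hzW, r, hr⟩ := TopCat.Presheaf.exists_germ_eq (Coh.structureModule X).presheaf a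
      let c : X.presheaf.stalk z := X.presheaf.germ W z hzW (show Γ(X, W) from r)
      have h3 : (St z).map π (v - c • M.presheaf.germ ⊤ z trivial s) = 0 := by
        refine (map_sub ((St z).map π).hom _ _).trans (sub_eq_zero.2 ?_)
        refine Eq.trans ?_ (map_smul ((St z).map π).hom c _).symm
        refine ha.symm.trans ?_
        rw [← hr]
        refine (stalk_map_germ (unitDesc Q t) hzW r).trans ?_
        refine (congrArg (Q.presheaf.germ W z hzW) (unitDesc_app Q t W r)).trans ?_
        refine (QCohLoc.germ_smul' (M := Q) hzW _ _).trans (congrArg (c • ·) ?_)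
        refine (TopCat.Presheaf.germ_res_apply Q.presheaf (homOfLE (le_top : W ≤ ⊤)) z hzW t).trans ?_
        exact (stalk_map_germ π _ s).symm
      have h4 := hspan z _ h3
      rw [show v = (v - c • M.presheaf.germ ⊤ z trivial s) + c • M.presheaf.germ ⊤ z trivial s from
        (sub_add_cancel _ _).symm]
      refine Submodule.add_mem _ (Submodule.span_mono (Set.image_mono fun x hx => ?_) h4) ?_
      · exact List.mem_cons_of_mem _ hx
      · exact Submodule.smul_mem _ _ (Submodule.subset_span ⟨s, List.mem_cons_self, rfl⟩)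

variable (k : Type u) [Field k] [X.Over (Spec (CommRingCat.of k))]
  [IsProper (X ↘ Spec (CommRingCat.of k))] [IsIntegral X]

include k in
/-- More than `g` sections generate. -/
theorem span_germ_eq_top (hdim : topologicalKrullDim X ≤ 1) {M L : X.Modules} (hM : Coh.IsCoh M)
    (hL : PicF.IsInvertible L) (ι : M ⟶ L) [Mono ι]
    (hg : Curv2.genus k X < Module.finrank k (Coh.HH X M 0)) (z : X) :
    Submodule.span (X.presheaf.stalk z) (Set.range fun s : Γ(M, ⊤) => M.presheaf.germ ⊤ z trivial s) = ⊤ := by
  haveI := isNoetherian_of_proper k (X := X)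
  let φ := baseHom k X
  haveI : Module.Finite k (GA φ M) := by
    haveI := finite_HH_of_isCoh k hM 0
    exact Module.Finite.equiv (hhZero k M)
  obtain ⟨T, hT⟩ := Module.Finite.fg_top (R := k) (M := GA φ M)
  obtain ⟨Q, π, hπ, hQ, hl, hspan⟩ := exists_quot M hM (T.toList.map fun x => (show Γ(M, ⊤) from x))
  haveI := hπ
  have hkill : ∀ x : GA φ M, mapGA φ π x = 0 := by
    have : LinearMap.ker (mapGA φ π) = ⊤ := top_le_iff.1 (hT ▸ Submodule.span_le.2 fun x hx => by
      exact hl _ (List.mem_map.2 ⟨x, Finset.mem_toList.2 hx, rfl⟩))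
    exact fun x => LinearMap.mem_ker.1 (this ▸ Submodule.mem_top)
  suffices hz : IsZero Q by
    refine eq_top_iff.2 fun v _ => ?_
    haveI : Subsingleton ((St z).obj Q) :=
      ModuleCat.subsingleton_of_isZero ((St z).map_isZero hz)
    refine Submodule.span_mono (Set.image_subset_range _ _) (hspan z v ?_)
    exact Subsingleton.elim _ _
  by_contra hz
  have hpos : 0 < Module.finrank k (Coh.HH X M 0) := by omega
  obtain ⟨s₀, hs₀⟩ := exists_ne_zero_of_nontrivial k (Module.nontrivial_of_finrank_pos hpos)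
  have hu : unitDesc M s₀ ≫ π = 0 := by
    rw [unitDesc_comp, show π.app ⊤ s₀ = 0 from hkill s₀, unitDesc_zero]
  let Tc : Set X := (glocus L (ι.app ⊤ s₀) : Set X)ᶜ
  have hsupp : CohB1.support Q ⊆ Tc := by
    haveI : Epi (cokernel.desc (unitDesc M s₀) π hu) := epi_of_epi_fac (cokernel.π_desc _ _ hu)
    exact (support_subset_of_epi (cokernel.desc (unitDesc M s₀) π hu)).trans
      (support_cokernel_unitDesc_of_mono ι s₀)
  have hηT : genericPoint X ∉ Tc := fun h => h
    (genericPoint_mem_glocus hL fun h0 => hs₀ (app_injective_of_mono ι ⊤ (h0.trans (map_zero _).symm)))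
  obtain ⟨hTf, hTc, -⟩ := closed_small k hdim (glocus L (ι.app ⊤ s₀)).2.isClosed_compl hηT
  obtain ⟨t, ht⟩ : ∃ t : Γ(Q, ⊤), t ≠ 0 := by
    by_contra h
    push Not at h
    exact hz (isZero_of_finite_support hTf hTc hsupp h)
  let S := ShortComplex.mk (kernel.ι π) π (kernel.condition π)
  have hS : S.ShortExact := { exact := ShortComplex.exact_of_f_is_kernel _ (kernelIsKernel π) }
  have hK : Coh.IsCoh (kernel π) := isCoh_kernel π hM hQ.1
  have hg0 : ∀ x : HA φ S.X₂ (⊤ : X.Opens) 0, postA φ S.g (⊤ : X.Opens) 0 x = 0 := fun x => by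
    apply (secA φ S.X₃).injective
    rw [secA_natural, map_zero]
    exact hkill _
  have hne : Nontrivial (Coh.HH X (kernel π) 1) := by
    let y : HA φ S.X₃ (⊤ : X.Opens) 0 := (secA φ S.X₃).symm t
    have hy : y ≠ 0 := fun h => ht ((LinearEquiv.map_eq_zero_iff _).1 h)
    have hd : deltaA φ hS (⊤ : X.Opens) 0 y ≠ 0 := fun h => by
      obtain ⟨x, hx⟩ := (exact_postA_deltaA φ hS (⊤ : X.Opens) 0 y).1 h
      exact hy (hx.symm.trans (hg0 x))
    haveI : Nontrivial (HA φ S.X₁ (⊤ : X.Opens) 1) := nontrivial_of_ne _ _ hd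
    exact (HHBaseEquiv k (kernel π) 1).toEquiv.nontrivial
  haveI : Mono (kernel.ι π ≫ ι) := mono_comp _ _
  have hle := h0_le_genus_of_h1 k hdim hK hL (kernel.ι π ≫ ι) hne
  have hbij : Function.Bijective (postA φ S.f (⊤ : X.Opens) 0) :=
    ⟨postA_zero_injective φ hS (⊤ : X.Opens), fun x => (exact_postA φ hS (⊤ : X.Opens) 0 x).1 (hg0 x)⟩
  have e : Module.finrank k (Coh.HH X (kernel π) 0) = Module.finrank k (Coh.HH X M 0) :=
    ((HHBaseEquiv k (kernel π) 0).finrank_eq.trans (LinearEquiv.ofBijective _ hbij).finrank_eq).trans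
      (HHBaseEquiv k M 0).finrank_eq.symm
  omega

end Groth.Agent.CurveRR24
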