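import Groth.Agent.Clifford24.Lipman.Field
import Groth.Agent.Clifford24.Lipman.Induction
import Groth.Agent.Coherent.TensorQcoh
import Groth.Agent.BlowUpCoh.GGVanish
import Groth.Agent.CurveRR24.AlgClosed
import Groth.Agent.PicTau27.Gen

/-!
# Tensoring with a globally generated module preserves the vanishing of `H¹`
-/

set_option autoImplicit false
set_option linter.style.haveILetI false
set_option backward.isDefEq.respectTransparency.types false

universe u

open CategoryTheory CategoryTheory.Limits AlgebraicGeometry Opposite TopologicalSpace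
open Groth.Agent.Coherent Groth.Agent.PicLib Groth.Agent.AmpleLib Groth.Agent.EulerLib Groth.Agent.Lipman24

namespace Groth.Agent.CurveRR24

variable {X : Scheme.{u}} (k : Type u) [Field k] [X.Over (Spec (CommRingCat.of k))]
  [IsProper (X ↘ Spec (CommRingCat.of k))]

include k in
theorem subsingleton_H1_tensor_gg (hdim : topologicalKrullDim X ≤ 1) {E G : X.Modules} (hE : Coh.IsCoh E)
    (hgg : Curv2.IsGloballyGenerated E) (hG : Coh.IsQCoh G) (h : Subsingleton (Coh.HH X G 1)) :
    Subsingleton (Coh.HH X (CohB1.tensorMod G E) 1) := by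
  classical
  haveI := EulerLib.isNoetherian_of_proper k (X := X)
  haveI : X.IsSeparated := EulerLib.isSeparated_of_proper (X := X) k
  haveI := hE.1
  haveI := hG
  let φ := baseHom k X
  haveI := finite_HH_of_isCoh k hE 0
  haveI : Module.Finite k (GA φ E) := Module.Finite.equiv (hhZero k E)
  let b := Module.finBasis k (GA φ E)
  refine subsingleton_H1_of_jointlyEpi (noH2_of_dim hdim) hG h Finset.univ (isQCoh_tensorMod G E)
    (fun j => Serre.rightMul G (show Γ(E, ⊤) from b j)) fun {Q} π hπ => AmpleLib.hom_ext fun U a e => ?_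
  show π.app U (tmul a e) = 0
  refine sec_ext Q _ _ fun y hy => ?_
  obtain ⟨W, hW, hyW, hWU⟩ := exists_isAffineOpen_mem_and_subset (x := y) (U := U) hy
  refine ⟨W, hWU, hyW, ?_⟩
  rw [← app_resM, resM_tmul, map_zero]
  have hb : ∀ (a' : Γ(G, W)) (s : GA φ E),
      π.app W (tmul a' (resM E le_top (show Γ(E, ⊤) from s))) = 0 := fun a' s => by
    have hs : s ∈ Submodule.span k (Set.range b) := b.span_eq.ge Submodule.mem_top
    induction hs using Submodule.span_induction with
    | mem x hx =>
      obtain ⟨j, rfl⟩ := hx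
      exact congrArg (fun θ : G ⟶ Q => θ.app W a') (hπ j (Finset.mem_univ j))
    | zero =>
      show π.app W (tmul a' (resM E le_top (0 : Γ(E, ⊤)))) = 0
      rw [map_zero, tmul_zero_right, map_zero]
    | add x z _ _ hx hz =>
      show π.app W (tmul a' (resM E le_top ((show Γ(E, ⊤) from x) + (show Γ(E, ⊤) from z)))) = 0
      rw [map_add, tmul_add_right, map_add, hx, hz, add_zero]
    | smul c x _ hx =>
      show π.app W (tmul a' (resM E le_top (φ c • (show Γ(E, ⊤) from x)))) = 0
      rw [resM_smul, tmul_smul_right, Scheme.Modules.Hom.app_smul, hx, smul_zero]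
  have he : resM E hWU e ∈ Submodule.span Γ(X, W) (Set.range fun s : Γ(E, ⊤) => resM E (le_top : W ≤ ⊤) s) :=
    (BlowUpCoh.span_res_eq_top hgg hW).ge Submodule.mem_top
  generalize resM E hWU e = e' at he ⊢
  induction he using Submodule.span_induction with
  | mem x hx =>
    obtain ⟨s, rfl⟩ := hx
    exact hb _ (show GA φ E from s)
  | zero => rw [tmul_zero_right, map_zero]
  | add x z _ _ hx hz => rw [tmul_add_right, map_add, hx, hz, add_zero]
  | smul r x _ hx => rw [tmul_smul_right, Scheme.Modules.Hom.app_smul, hx, smul_zero]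

include k in
/-- Over an algebraically closed field, the ideal of a closed point has no `H¹` if `O` has none. -/
theorem subsingleton_H1_ptIdeal [IsAlgClosed k] {P : X} (hP : IsClosed ({P} : Set X))
    (h1 : Subsingleton (Coh.HH X (Coh.structureModule X) 1)) :
    Subsingleton (Coh.HH X (ClSub.idealMod (ptIdeal P hP)) 1) := by
  let I := ptIdeal P hP
  refine subsingleton_H1_X₁ (shortExact_ideal I) ?_ h1
  let φ := baseHom k X
  let q : GA φ (Coh.structureModule X) →ₗ[k] GA φ (ClSub.quotMod I) := mapGA φ (ClSub.toSubscheme I)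
  have hone : Module.finrank k (GA φ (ClSub.quotMod I)) = 1 := by
    rw [← finrank_GA_eq k, finrank_HH_zero_ptQuot hP k]
    exact finrank_resField k hP
  haveI : Nonempty I.subscheme := by
    obtain ⟨z, -⟩ := (show P ∈ Set.range I.subschemeι from I.range_subschemeι.ge (by
      rw [support_ptIdeal hP]; rfl))
    exact ⟨z⟩
  have hq : q (show GA φ (Coh.structureModule X) from (1 : Γ(X, ⊤))) ≠ 0 := fun h => by
    have h' : I.subschemeι.app ⊤ (1 : Γ(X, ⊤)) = (0 : Γ(I.subscheme, I.subschemeι ⁻¹ᵁ ⊤)) := h
    rw [map_one] at h'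
    haveI : Nonempty (I.subschemeι ⁻¹ᵁ (⊤ : X.Opens)) := ⟨⟨Classical.arbitrary I.subscheme, trivial⟩⟩
    exact one_ne_zero h'
  intro y
  obtain ⟨c, hc⟩ := (finrank_eq_one_iff_of_nonzero' _ hq).1 hone (show GA φ (ClSub.quotMod I) from y)
  exact ⟨_, ((map_smul q c _).trans hc)⟩

end Groth.Agent.CurveRR24
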