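import Mathlib

/-!
# The linear algebra behind projective normality in genus one
-/

set_option autoImplicit false

namespace Groth.Agent.CurveRR24

/-- If `H` is a hyperplane in a cyclic module, then either the products `r • h` with `r • e ∈ H`, `h ∈ H`
span everything, or a nonzero line orbit lies in `H`. -/
theorem span_prod_eq_top_or {k W R : Type*} [Field k] [AddCommGroup W] [Module k W] [FiniteDimensional k W]
    (H : Submodule k W) (hcodim : Module.finrank k W = Module.finrank k H + 1) (h2 : 2 ≤ Module.finrank k H)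
    (E : R → W →ₗ[k] W) (hcomm : ∀ r r' w, E r (E r' w) = E r' (E r w)) (e : W)
    (hsurj : ∀ w, ∃ r, E r e = w) (r₁ : R) (hr₁ : ∀ w, E r₁ w = w) (he : e ∈ H) :
    Submodule.span k {w | ∃ r h, E r e ∈ H ∧ h ∈ H ∧ E r h = w} = ⊤ ∨
      ∃ c ∈ H, c ≠ 0 ∧ ∀ r, E r c ∈ H := by
  classical
  let Q := Submodule.span k {w | ∃ r h, E r e ∈ H ∧ h ∈ H ∧ E r h = w}
  by_cases hQ : Q = ⊤
  · exact Or.inl hQ
  refine Or.inr ?_
  have hHQ : H ≤ Q := fun h hh => Submodule.subset_span ⟨r₁, h, (hr₁ e).symm ▸ he, hh, hr₁ h⟩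
  have hQH : Q = H := by
    refine (Submodule.eq_of_le_of_finrank_le hHQ ?_).symm
    have := Submodule.finrank_lt hQ
    omega
  have hmul : ∀ r h, E r e ∈ H → h ∈ H → E r h ∈ H := fun r h hr hh =>
    hQH.le (Submodule.subset_span ⟨r, h, hr, hh, rfl⟩)
  have hne : H ≠ ⊤ := fun h => by
    rw [h, finrank_top] at hcodim
    omega
  obtain ⟨x, hx⟩ : ∃ x, x ∉ H := by
    by_contra h
    push Not at h
    exact hne (Submodule.eq_top_iff'.2 h)
  obtain ⟨rx, hrx⟩ := hsurj x
  let θ : H →ₗ[k] W ⧸ H := H.mkQ.comp ((E rx).comp H.subtype)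
  have hq : Module.finrank k (W ⧸ H) = 1 := by
    have := Submodule.finrank_quotient_add_finrank H
    omega
  obtain ⟨⟨c, hcH⟩, hck, hc0⟩ := (Submodule.ne_bot_iff _).1
    (LinearMap.ker_ne_bot_of_finrank_lt (f := θ) (by omega))
  have hrxc : E rx c ∈ H := (Submodule.Quotient.mk_eq_zero H).1 hck
  refine ⟨c, hcH, fun h => hc0 (Subtype.ext h), fun r => ?_⟩
  have hsup : H ⊔ Submodule.span k {x} = ⊤ := by
    refine Submodule.eq_top_of_finrank_eq (le_antisymm (Submodule.finrank_le _) ?_)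
    have hlt : H < H ⊔ Submodule.span k {x} :=
      left_lt_sup.2 fun h => hx (h (Submodule.mem_span_singleton_self x))
    have := Submodule.finrank_lt_finrank_of_lt hlt
    omega
  obtain ⟨h, hh, y, hy, hsum⟩ := Submodule.mem_sup.1 (hsup.ge (Submodule.mem_top (x := E r e)))
  obtain ⟨lam, rfl⟩ := Submodule.mem_span_singleton.1 hy
  obtain ⟨rh, hrh⟩ := hsurj h
  obtain ⟨rc, hrc⟩ := hsurj c
  have : E r c = E rh c + lam • E rx c := by
    rw [← hrc, hcomm r rc, ← hsum, map_add, map_smul, ← hrh, ← hrx, hcomm rh rc, hcomm rx rc]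
  rw [this]
  exact add_mem (hmul rh c (hrh.symm ▸ hh) hcH) (H.smul_mem lam hrxc)

end Groth.Agent.CurveRR24
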