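import Groth.Agent.CurveRR24.GenusOneGen
import Groth.Agent.AbCubeLib.ProjEmbedding

/-!
# Genus one, degree at least three: projectively normal embeddings
-/

set_option autoImplicit false
set_option linter.style.haveILetI false
set_option backward.isDefEq.respectTransparency.types false

universe u

open CategoryTheory CategoryTheory.Limits AlgebraicGeometry Opposite TopologicalSpace
open Groth.Agent.Coherent Groth.Agent.PicLib Groth.Agent.AmpleLib Groth.Agent.EulerLib Groth.Agent.Lipman24

namespace Groth.Agent.CurveRR24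

section

variable {X : Scheme.{u}} {A : Type u} [CommRing A] [IsNoetherianRing A]

/-- Ample, globally generated and generated in degree one: very ample. -/
theorem isRelVeryAmplePn_of_decomp (f : X ⟶ Spec (CommRingCat.of A)) [IsProper f]
    {L : X.Modules} (hA : CohB1.IsAmple L) (hg : Gl L)
    (hdec : ∀ (n : ℕ) (z : Γ(CohB1.tensorPow L (n + 1), ⊤)),
      ∃ (m : ℕ) (b : Fin m → Γ(L, ⊤)) (w : Fin m → Γ(CohB1.tensorPow L n, ⊤)), z = ∑ i, tmul (w i) (b i)) :
    RelAmple.IsRelVeryAmplePn f L := by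
  classical
  have hL : PicF.IsInvertible L := hA.1
  let _ : X.Over (Spec (CommRingCat.of A)) := ⟨f⟩
  haveI : CompactSpace X := QuasiCompact.compactSpace_of_compactSpace f
  haveI : QuasiSeparatedSpace X := quasiSeparatedSpace_of_quasiSeparated f
  let φ := baseHom A X
  haveI : Module.Finite A (GA φ L) := by
    haveI : Module.Finite A (HA φ L (⊤ : X.Opens) 0) :=
      finCoh_of_isProper f L (PicLib.isCoh_of_isInvertible hL) 0
    exact Module.Finite.equiv (secA φ L)
  obtain ⟨T, hT⟩ := Module.Finite.fg_top (R := A) (M := GA φ L)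
  obtain ⟨C, hC⟩ := hg.exists_finset
  let T' : Finset Γ(L, ⊤) := T.image fun x => (show Γ(L, ⊤) from x)
  let S : Finset Γ(L, ⊤) := T' ∪ C
  let σ : Fin (S.card + 1) → Γ(L, ⊤) := Fin.cons 0 fun i => (S.equivFin.symm i).1
  have hσ : ∀ s ∈ S, ∃ i, σ i = s := fun s hs => ⟨(S.equivFin ⟨s, hs⟩).succ, by simp [σ]⟩
  refine PnEmb.isRelVeryAmplePn_of_sections f hL σ Set.univ (fun x => ?_)
    (fun j _ => MorProj.isAffineOpen_glocus_of_universallyClosed f hA (σ j)) fun j _ => ?_
  · obtain ⟨s, hs, hxs⟩ := hC x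
    obtain ⟨i, rfl⟩ := hσ s (Finset.mem_union_right _ hs)
    exact ⟨i, trivial, hxs⟩
  let U := glocus L (σ j)
  let g₀ : Γ(L, U) := resM L le_top (σ j)
  have hg₀ : IsGen L U g₀ := isGen_glocus (σ j)
  let H : Subring Γ(X, U) := Subring.closure (Set.range (f.appLE ⊤ U le_top) ∪
    Set.range fun k => hg₀.coef le_rfl (resM L le_top (σ k)))
  show H = ⊤
  have hbase : ∀ a : A, (X.presheaf.map (homOfLE (le_top (a := U))).op (φ a) : Γ(X, U)) ∈ H := fun a =>
    Subring.subset_closure (Or.inl ⟨(Scheme.ΓSpecIso (CommRingCat.of A)).inv a, by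
      rw [Scheme.Hom.appLE, ConcreteCategory.comp_apply]
      rfl⟩)
  have hone : ∀ z : GA φ L, ∃ c ∈ H, resM L (le_top : U ≤ ⊤) (show Γ(L, ⊤) from z) = c • g₀ := fun z => by
    have hz : z ∈ Submodule.span A (T : Set (GA φ L)) := hT.ge Submodule.mem_top
    induction hz using Submodule.span_induction with
    | mem x hx =>
      obtain ⟨i, hi⟩ := hσ (show Γ(L, ⊤) from x) (Finset.mem_union_left _ (Finset.mem_image_of_mem _ hx))
      refine ⟨_, Subring.subset_closure (Or.inr ⟨i, rfl⟩), ?_⟩
      have := hg₀.coef_spec le_rfl (resM L le_top (σ i))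
      rw [resM_self] at this
      rw [this, hi]
    | zero => exact ⟨0, zero_mem _, by rw [zero_smul]; exact map_zero _⟩
    | add x y _ _ hx hy =>
      obtain ⟨c, hc, ec⟩ := hx
      obtain ⟨d, hd, ed⟩ := hy
      refine ⟨c + d, add_mem hc hd, ?_⟩
      rw [add_smul, ← ec, ← ed]
      exact map_add _ _ _
    | smul a x _ hx =>
      obtain ⟨c, hc, ec⟩ := hx
      refine ⟨_, mul_mem (hbase a) hc, ?_⟩
      rw [mul_smul, ← ec]
      exact resM_smul L (le_top : U ≤ ⊤) (φ a) (show Γ(L, ⊤) from x)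
  have hglob : ∀ r : Γ(X, ⊤), (X.presheaf.map (homOfLE (le_top (a := U))).op r : Γ(X, U)) ∈ H := fun r => by
    obtain ⟨c, hc, e⟩ := hone (show GA φ L from r • σ j)
    have e' : (X.presheaf.map (homOfLE (le_top (a := U))).op r : Γ(X, U)) • g₀ = c • g₀ :=
      (resM_smul L (le_top : U ≤ ⊤) r (σ j)).symm.trans e
    have := (hg₀ U le_rfl).1 (a₁ := (X.presheaf.map (homOfLE (le_top (a := U))).op r : Γ(X, U))) (a₂ := c)
      (by simpa only [resM_self] using e')
    exact this ▸ hc
  have hpow : ∀ (n : ℕ) (z : Γ(CohB1.tensorPow L n, ⊤)),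
      ∃ c ∈ H, resM (CohB1.tensorPow L n) (le_top : U ≤ ⊤) z = c • powSec g₀ n := by
    intro n
    induction n with
    | zero =>
      intro z
      refine ⟨_, hglob (show Γ(X, ⊤) from z), ?_⟩
      exact (mul_one (X.presheaf.map (homOfLE (le_top (a := U))).op (show Γ(X, ⊤) from z) : Γ(X, U))).symm
    | succ n ih =>
      intro z
      obtain ⟨m, b, w, rfl⟩ := hdec n z
      choose c hc ec using fun i => ih (w i)
      choose d hd ed using fun i => hone (show GA φ L from b i)
      refine ⟨∑ i, c i * d i, sum_mem fun i _ => mul_mem (hc i) (hd i), ?_⟩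
      refine (map_sum (resM (CohB1.tensorPow L (n + 1)) (le_top : U ≤ ⊤)) _ _).trans ?_
      refine Eq.trans ?_ (Finset.sum_smul).symm
      refine Finset.sum_congr rfl fun i _ => ?_
      refine (resM_tmul (le_top : U ≤ ⊤) (w i) (b i)).trans ?_
      rw [ec i, show resM L (le_top : U ≤ ⊤) (b i) = d i • g₀ from ed i]
      exact tmul_smul_smul _ _ _ _
  refine eq_top_iff.2 fun c _ => ?_
  haveI : Coh.IsQCoh (Coh.structureModule X) := isQCoh_structureModule (X := X)
  obtain ⟨n, t, ht⟩ := exists_extend (Coh.structureModule X) (σ j) hL (show Γ(Coh.structureModule X, U) from c)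
  obtain ⟨d, hd, ed⟩ := hpow n ((unitTensorIso _).hom.app ⊤ t)
  have e : resM (CohB1.tensorPow L n) (le_top : U ≤ ⊤) ((unitTensorIso _).hom.app ⊤ t) = c • powSec g₀ n := by
    rw [← app_resM, ht]
    exact Bilin.desc_tmul _ _ _ _
  have := ((isGen_powSec hg₀ n) U le_rfl).1 (a₁ := c) (a₂ := d) (by simpa only [resM_self] using e.symm.trans ed)
  exact this ▸ hd

end

variable {X : Scheme.{u}}

theorem exists_sum_of_mem_span {n : ℕ} {L : X.Modules} {z : Γ(CohB1.tensorMod (CohB1.tensorPow L n) L, ⊤)}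
    (hz : z ∈ Submodule.span Γ(X, ⊤)
      (Set.range fun p : Γ(CohB1.tensorPow L n, ⊤) × Γ(L, ⊤) => tmul p.1 p.2)) :
    ∃ (m : ℕ) (b : Fin m → Γ(L, ⊤)) (w : Fin m → Γ(CohB1.tensorPow L n, ⊤)), z = ∑ i, tmul (w i) (b i) := by
  obtain ⟨m, c, g, rfl⟩ := (Submodule.mem_span_set'.1 hz)
  choose p hp using fun i => (g i).2
  refine ⟨m, fun i => (p i).2, fun i => c i • (p i).1, Finset.sum_congr rfl fun i _ => ?_⟩
  rw [← hp i]
  exact (tmul_smul_left _ _ _).symm

variable (k : Type u) [Field k] [X.Over (Spec (CommRingCat.of k))]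
  [IsProper (X ↘ Spec (CommRingCat.of k))] [IsIntegral X]

include k in
/-- The section ring is generated in degree one. -/
theorem span_tmul_pow_of_genus_one [Infinite k] (hdim : topologicalKrullDim X = 1)
    (hg : Curv2.genus k X = 1) {L : X.Modules} (hL : PicF.IsInvertible L)
    (hdeg : 3 ≤ Curv2.deg k X L 1) (m : ℕ) :
    Submodule.span (X.ringCatSheaf.obj.obj (Opposite.op ⊤))
        (Set.range (fun p : (CohB1.tensorPow L m).val.obj (Opposite.op ⊤) × L.val.obj (Opposite.op ⊤) =>
          SecTwist.tmul (CohB1.tensorPow L m) L ⊤ p.1 p.2)) = ⊤ := by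
  haveI := isNoetherian_of_proper k (X := X)
  haveI : X.IsSeparated := EulerLib.isSeparated_of_proper (X := X) k
  have h0 := h0_structure_of_genus_one k hg
  have hgl : Gl L := Gl.of_closedPoints fun P hP => exists_mem_glocus_of_gg k hP hL
    (globallyGenerated_of_deg k hdim h0 hL (by omega))
  have hv := noH2_of_dim (X := X) hdim.le
  have h11 : Subsingleton (Coh.HH X (CohB1.tensorPow L 1) 1) :=
    subsingleton_HH_congr (unitTensorIso L).symm 1 (subsingleton_h1_of_deg k hdim.le h0 hL (by omega))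
  match m with
  | 0 => exact hgl.span_tmul_pow_eq_top hv hL 0 (Or.inl rfl)
  | n + 2 => exact hgl.span_tmul_pow_eq_top hv hL (n + 2) (Or.inr (hgl.subsingleton_H1_pow hv hL h11 _ (by omega)))
  | 1 =>
    refine eq_top_iff.2 fun z _ => ?_
    let P := CohB1.tensorPow L 1
    let θ : CohB1.tensorMod L L ⟶ CohB1.tensorMod P L := tensorMap (unitTensorIso L).inv (𝟙 L)
    let θ' : CohB1.tensorMod P L ⟶ CohB1.tensorMod L L := tensorMap (unitTensorIso L).hom (𝟙 L)
    have hθ : θ' ≫ θ = 𝟙 _ := AmpleLib.hom_ext fun U a b => by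
      show θ.app U (θ'.app U (tmul a b)) = tmul a b
      rw [tensorMap_tmul, tensorMap_tmul]
      refine congrArg₂ tmul ?_ rfl
      show ((unitTensorIso L).hom ≫ (unitTensorIso L).inv).app U a = a
      rw [Iso.hom_inv_id]
      rfl
    have hz : (show Γ(CohB1.tensorMod P L, ⊤) from z) = θ.app ⊤ (θ'.app ⊤ (show Γ(CohB1.tensorMod P L, ⊤) from z)) :=
      (congrArg (fun f : CohB1.tensorMod P L ⟶ CohB1.tensorMod P L => f.app ⊤ (show Γ(CohB1.tensorMod P L, ⊤) from z)) hθ).symm
    have key : ∀ w ∈ Submodule.span Γ(X, ⊤) (Set.range fun p : Γ(L, ⊤) × Γ(L, ⊤) => tmul p.1 p.2),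
        θ.app ⊤ w ∈ Submodule.span Γ(X, ⊤) (Set.range fun p : Γ(P, ⊤) × Γ(L, ⊤) => tmul p.1 p.2) := by
      intro w hw
      induction hw using Submodule.span_induction with
      | mem x hx =>
        obtain ⟨p, rfl⟩ := hx
        refine Submodule.subset_span ⟨((unitTensorIso L).inv.app ⊤ p.1, p.2), ?_⟩
        show tmul ((unitTensorIso L).inv.app ⊤ p.1) p.2 = θ.app ⊤ (tmul p.1 p.2)
        exact (tensorMap_tmul (unitTensorIso L).inv (𝟙 L) p.1 p.2).symm
      | zero => rw [map_zero]; exact zero_mem _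
      | add x y _ _ hx hy => rw [map_add]; exact add_mem hx hy
      | smul r x _ hx => rw [Scheme.Modules.Hom.app_smul]; exact Submodule.smul_mem _ r hx
    have hfin := key _ (mem_span_tmul_of_genus_one k hdim hg hL hdeg (θ'.app ⊤ (show Γ(CohB1.tensorMod P L, ⊤) from z)))
    rw [← hz] at hfin
    exact hfin

include k in
/-- Very ample in degree at least three. -/
theorem exists_closedImmersion_of_genus_one [Infinite k] (hdim : topologicalKrullDim X = 1)
    (hg : Curv2.genus k X = 1) {L : X.Modules} (hL : PicF.IsInvertible L)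
    (hdeg : 3 ≤ Curv2.deg k X L 1) :
    ∃ (n : ℕ) (i : X ⟶ CohB1.ProjSpace n k), IsClosedImmersion i ∧
      i ≫ CohB1.ProjSpace.toSpec n k = X ↘ (Spec (CommRingCat.of k)) ∧
      Nonempty ((Scheme.Modules.pullback i).obj (Twist.twistProjSpace n k 1) ≅ L) := by
  haveI := isNoetherian_of_proper k (X := X)
  have h0 := h0_structure_of_genus_one k hg
  have hgl : Gl L := Gl.of_closedPoints fun P hP => exists_mem_glocus_of_gg k hP hL
    (globallyGenerated_of_deg k hdim h0 hL (by omega))
  have hA : CohB1.IsAmple L := (S1530.result k X hdim L hL).2 (by omega)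
  exact AbCubeLib.exists_isClosedImmersion_projSpace _ hL
    (isRelVeryAmplePn_of_decomp _ hA hgl fun n z => exists_sum_of_mem_span
      ((span_tmul_pow_of_genus_one k hdim hg hL hdeg n).ge Submodule.mem_top))

theorem infinite_of_isSepClosed' (K : Type u) [Field K] [IsSepClosed K] : Infinite K := by
  by_contra hc
  have : Finite K := not_infinite_iff_finite.mp hc
  have : IsAlgClosed K := IsAlgClosed.of_exists_root _ fun p _ hp =>
    IsSepClosed.exists_root p hp.degree_pos.ne' (PerfectField.separable_of_irreducible hp)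
  exact hc inferInstance

end Groth.Agent.CurveRR24
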