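import Groth.Agent.CurveRR24.GenusOneAlg
import Groth.Agent.CurveRR24.GenusOneH0
import Groth.Agent.CurveSq.Embed
import Groth.Agent.H0Growth23.Stable
import Groth.Agent.S1530

/-!
# Quadratic normality of an embedding of degree at least three in genus one
-/

set_option autoImplicit false
set_option linter.style.haveILetI false
set_option backward.isDefEq.respectTransparency.types false

universe u

open CategoryTheory CategoryTheory.Limits AlgebraicGeometry Opposite TopologicalSpace
open Groth.Agent.Coherent Groth.Agent.PicLib Groth.Agent.AmpleLib Groth.Agent.EulerLib Groth.Agent.Lipman24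

namespace Groth.Agent.CurveRR24

variable {X : Scheme.{u}} (k : Type u) [Field k] [X.Over (Spec (CommRingCat.of k))]
  [IsProper (X ↘ Spec (CommRingCat.of k))] [IsIntegral X]

include k in
theorem finite_GA {M : X.Modules} (hM : Coh.IsCoh M) : Module.Finite k (GA (baseHom k X) M) :=
  haveI := finite_HH_of_isCoh k hM 0
  Module.Finite.equiv (hhZero k M)

include k in
/-- In genus one and degree `≥ 3` every section of `L ⊗ L` is a sum of products. -/
theorem mem_span_tmul_of_genus_one [Infinite k] (hdim : topologicalKrullDim X = 1)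
    (hg : Curv2.genus k X = 1) {L : X.Modules} (hL : PicF.IsInvertible L)
    (hdeg : 3 ≤ Curv2.deg k X L 1) (z : Γ(CohB1.tensorMod L L, ⊤)) :
    z ∈ Submodule.span Γ(X, ⊤) (Set.range fun p : Γ(L, ⊤) × Γ(L, ⊤) => tmul p.1 p.2) := by
  classical
  haveI := isNoetherian_of_proper k (X := X)
  haveI : X.IsSeparated := EulerLib.isSeparated_of_proper (X := X) k
  haveI := isLocallyNoetherian_of_proper k (X := X)
  let φ := baseHom k X
  let O := Coh.structureModule X
  have hOc : Coh.IsCoh O := isCoh_structureModule X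
  haveI : Coh.IsQCoh O := hOc.1
  have hLc : Coh.IsCoh L := isCoh_of_isInvertible k hL
  haveI : Coh.IsQCoh L := hLc.1
  have h0 := h0_structure_of_genus_one k hg
  have h1 : Subsingleton (Coh.HH X L 1) := subsingleton_h1_of_deg k hdim.le h0 hL (by omega)
  haveI := finite_GA k hLc
  haveI := finite_GA k hOc
  have hgl : Gl L := Gl.of_closedPoints fun P hP => exists_mem_glocus_of_gg k hP hL
    (globallyGenerated_of_deg k hdim h0 hL (by omega))
  have hA : CohB1.IsAmple L := (S1530.result k X hdim L hL).2 (by omega)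
  let d := Module.finrank k (GA φ L)
  have hd : (d : ℤ) = Curv2.deg k X L 1 := by
    have := riemann_roch k hdim.le hL
    rw [h0, Module.finrank_zero_of_subsingleton (M := Coh.HH X L 1), finrank_GA_eq k L, hg] at this
    push_cast at this
    show (Module.finrank k (GA (baseHom k X) L) : ℤ) = _
    omega
  haveI : Nontrivial (GA φ L) := Module.nontrivial_of_finrank_pos (R := k) (by omega)
  obtain ⟨s', hs'⟩ := exists_ne (0 : GA φ L)
  let s : Γ(L, ⊤) := s'
  have hs : s ≠ 0 := hs'
  haveI := mono_unitDesc hL hs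
  let C := cokernel (unitDesc L s)
  let π : L ⟶ C := cokernel.π _
  let S₀ : ShortComplex X.Modules := ShortComplex.mk (unitDesc L s) π (cokernel.condition _)
  have hS₀ : S₀.ShortExact := { exact := ShortComplex.exact_of_g_is_cokernel _ (cokernelIsCokernel _) }
  have hCc : Coh.IsCoh C := isCoh_cokernel _ hOc.1 hLc
  haveI : Coh.IsQCoh C := hCc.1
  haveI := finite_GA k hCc
  let T : Set X := (glocus L s : Set X)ᶜ
  have hT : IsClosed T := (glocus L s).2.isClosed_compl
  have hη : genericPoint X ∉ T := fun h => h (genericPoint_mem_glocus hL hs)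
  have hCT : CohB1.support C ⊆ T := support_cokernel_unitDesc s
  obtain ⟨hTf, -, -⟩ := closed_small k hdim.le hT hη
  obtain ⟨u, hu⟩ := H0Growth23.exists_glocus_of_forall k hL hTf fun x _ => hgl x
  let U := glocus L u
  have hU : IsAffineOpen U :=
    MorProj.isAffineOpen_glocus_of_universallyClosed (X ↘ Spec (CommRingCat.of k)) hA u
  let g : Γ(L, U) := resM L le_top u
  have hgen : IsGen L U g := isGen_glocus u
  have hρ := bijective_resM_of_support C T hT hCT (W := U) hu
  -- dimensions
  let p : GA φ L →ₗ[k] GA φ C := mapGA φ π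
  let i : GA φ O →ₗ[k] GA φ L := mapGA φ (unitDesc L s)
  have hdimC : Module.finrank k (GA φ C) = d := by
    have h := euler_additive k X S₀ hS₀ hOc hLc hCc
    have h3 : Subsingleton (Coh.HH X C 1) :=
      subsingleton_HH_of_small k hdim.le hCc.1 hT hη hCT Nat.one_pos
    rw [euler_eq_h0_sub_h1 k hdim.le L hLc.1, euler_eq_h0_sub_h1 k hdim.le O hOc.1,
      euler_eq_h0_sub_h1 k hdim.le C hCc.1, Module.finrank_zero_of_subsingleton (M := Coh.HH X C 1),
      Module.finrank_zero_of_subsingleton (M := Coh.HH X L 1), finrank_GA_eq k L, finrank_GA_eq k C,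
      show Module.finrank k (Coh.HH X O 1) = 1 from hg, h0] at h
    push_cast at h
    show Module.finrank k (GA (baseHom k X) C) = Module.finrank k (GA (baseHom k X) L)
    omega
  have hkerp : Module.finrank k (LinearMap.ker p) = 1 := by
    have hrange : LinearMap.range i = LinearMap.ker p := by
      refine le_antisymm ?_ fun x hx => ?_
      · rintro _ ⟨a, rfl⟩
        exact sections_zero (S := S₀) ⊤ (show Γ(O, ⊤) from a)
      · obtain ⟨a, ha⟩ := sections_exact hS₀ (show Γ(L, ⊤) from x) hx
        exact ⟨a, ha⟩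
    rw [← hrange, LinearMap.finrank_range_of_inj (f := i) (show Function.Injective i from sections_injective hS₀ ⊤), ← finrank_GA_eq k O, h0]
  let H := LinearMap.range p
  have hH : Module.finrank k H + 1 = d := by
    have := LinearMap.finrank_range_add_finrank_ker p
    rw [hkerp] at this
    exact this
  -- the action of `Γ(X, U)`
  let ρ : GA φ C ≃+ Γ(C, U) := AddEquiv.ofBijective (resM C (le_top : U ≤ ⊤)) hρ
  have hρsmul : ∀ (c : k) (w : GA φ C), ρ (c • w) = res (le_top : U ≤ ⊤) (φ c) • ρ w :=
    fun c w => resM_smul C (le_top : U ≤ ⊤) (φ c) (show Γ(C, ⊤) from w)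
  let E : Γ(X, U) → GA φ C →ₗ[k] GA φ C := fun r =>
    { toFun := fun w => ρ.symm (r • ρ w)
      map_add' := fun a b => by rw [map_add, smul_add, map_add]
      map_smul' := fun c w => ρ.injective <| by
        show ρ (ρ.symm (r • ρ (c • w))) = ρ (c • ρ.symm (r • ρ w))
        rw [ρ.apply_symm_apply, hρsmul, hρsmul, ρ.apply_symm_apply, smul_comm] }
  have hE : ∀ r w, ρ (E r w) = r • ρ w := fun r w => ρ.apply_symm_apply _
  let e : GA φ C := p u
  have hρp : ∀ a : Γ(L, ⊤), ρ (p a) = π.app U (resM L (le_top : U ≤ ⊤) a) :=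
    fun a => (app_resM π (le_top : U ≤ ⊤) a).symm
  have hEb : ∀ (b : Γ(L, ⊤)) (r : Γ(X, U)), r • g = resM L (le_top : U ≤ ⊤) b → E r e = p b := fun b r hr =>
    ρ.injective <| by rw [hE, hρp, hρp, ← Scheme.Modules.Hom.app_smul, hr]
  have hsurjU : Function.Surjective (π.app U) := sections_surjective hS₀ hU
  have hcyc : ∀ w, ∃ r, E r e = w := fun w => by
    obtain ⟨l, hl⟩ := hsurjU (ρ w)
    obtain ⟨r, hr⟩ := (hgen U le_rfl).2 l
    beta_reduce at hr
    rw [resM_self] at hr
    exact ⟨r, ρ.injective <| by rw [hE, hρp, ← Scheme.Modules.Hom.app_smul, hr, hl]⟩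
  rcases span_prod_eq_top_or H (by omega) (by omega) E
      (fun r r' w => ρ.injective <| by rw [hE, hE, hE, hE, smul_comm]) e hcyc 1
      (fun w => ρ.injective <| by rw [hE, one_smul]) ⟨u, rfl⟩ with htop | ⟨c, hcH, hc0, hc⟩
  · -- the twisted sequence
    let D := Submodule.span Γ(X, ⊤) (Set.range fun q : Γ(L, ⊤) × Γ(L, ⊤) => tmul q.1 q.2)
    let S := twistSeq S₀ L
    have hS : S.ShortExact := twistSeq_shortExact hL hS₀
    let G : CohB1.tensorMod L L ⟶ CohB1.tensorMod C L := tensorMap π (𝟙 L)
    have hq : ∀ a b : Γ(L, ⊤), G.app ⊤ (tmul a b) = tmul (π.app ⊤ a) b := fun a b => by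
      show (tensorMap π (𝟙 L)).app ⊤ _ = _
      rw [tensorMap_tmul]
      rfl
    have hgen' : ∀ w : Γ(C, U), ∀ r : Γ(X, U), tmul (r • w) g = tmul w (r • g) := fun w r => by
      rw [tmul_smul_left, tmul_smul_right]
    have key : ∀ w : GA φ C, ∃ z ∈ D, resM (CohB1.tensorMod C L) (le_top : U ≤ ⊤) (G.app ⊤ z) = tmul (ρ w) g := fun w => by
      have hw : w ∈ Submodule.span k {w | ∃ r h, E r e ∈ H ∧ h ∈ H ∧ E r h = w} := htop.ge Submodule.mem_top
      induction hw using Submodule.span_induction with
      | mem x hx =>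
        obtain ⟨r, h, ⟨b, hb⟩, ⟨a, rfl⟩, rfl⟩ := hx
        obtain ⟨rb, hrb⟩ := (hgen U le_rfl).2 (resM L (le_top : U ≤ ⊤) b)
        beta_reduce at hrb
        rw [resM_self] at hrb
        obtain ⟨ra, hra⟩ := hcyc (p a)
        have hrr : r • ρ (p a) = rb • ρ (p a) := by
          rw [← hra, hE, smul_comm, smul_comm rb, ← hE r, ← hE rb, hEb b rb hrb, hb]
        refine ⟨tmul (show Γ(L, ⊤) from a) b, Submodule.subset_span ⟨(a, b), rfl⟩, ?_⟩
        rw [hq, resM_tmul, ← hrb, hE, hrr, hgen']
        rfl
      | zero => exact ⟨0, zero_mem _, by rw [map_zero, map_zero, map_zero, tmul_zero_left]⟩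
      | add x y _ _ hx hy =>
        obtain ⟨a, ha, ea⟩ := hx
        obtain ⟨b, hb, eb⟩ := hy
        exact ⟨a + b, add_mem ha hb, by rw [map_add, map_add, ea, eb, map_add, tmul_add_left]⟩
      | smul c x _ hx =>
        obtain ⟨a, ha, ea⟩ := hx
        refine ⟨φ c • a, D.smul_mem _ ha, ?_⟩
        rw [Scheme.Modules.Hom.app_smul, resM_smul, ea, hρsmul, tmul_smul_left]
    obtain ⟨v, hv⟩ := (bijective_tmul_gen (M := C) hgen U le_rfl).2 (resM (CohB1.tensorMod C L) (le_top : U ≤ ⊤) (G.app ⊤ z))
    simp only [resM_self] at hv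
    obtain ⟨z₁, hz₁, e₁⟩ := key (ρ.symm v)
    rw [ρ.apply_symm_apply] at e₁
    have heq : G.app ⊤ (z - z₁) = 0 := by
      refine (bijective_resM_of_support (CohB1.tensorMod C L) T hT ?_ (W := U) hu).1 ?_
      · rw [support_twist hL C]; exact hCT
      rw [map_sub, map_sub, map_zero, e₁, ← hv, sub_self]
    obtain ⟨y, hy⟩ := sections_exact hS (z - z₁) heq
    let b := (unitTensorIso L).hom.app ⊤ y
    have hyb : y = tmul (oneSec (⊤ : X.Opens)) b :=
      (ConcreteCategory.bijective_of_isIso ((unitTensorIso L).hom.app ⊤)).1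
        ((Bilin.desc_tmul _ _ _ _).trans (one_smul Γ(X, ⊤) b)).symm
    have hz : z - z₁ = tmul s b := by
      rw [← hy, hyb]
      refine (tensorMap_tmul _ _ _ _).trans ?_
      show tmul ((unitDesc L s).app ⊤ (1 : Γ(X, ⊤))) b = _
      rw [unitDesc_app, one_smul, resM_self]
    rw [show z = tmul s b + z₁ by rw [← hz, sub_add_cancel]]
    exact add_mem (Submodule.subset_span ⟨(s, b), rfl⟩) hz₁
  · -- no orbit lies in the hyperplane
    exfalso
    obtain ⟨σ, hσ⟩ := hcH
    let ψ := cokernel.π (unitDesc C (show Γ(C, ⊤) from c))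
    let C' := cokernel (unitDesc C (show Γ(C, ⊤) from c))
    have hC'c : Coh.IsCoh C' := isCoh_cokernel _ hOc.1 hCc
    haveI : Coh.IsQCoh C' := hC'c.1
    haveI : Epi (π ≫ ψ) := inferInstance
    let N := kernel (π ≫ ψ)
    have hNc : Coh.IsCoh N := isCoh_kernel _ hLc hC'c.1
    haveI := finite_GA k hNc
    let SN : ShortComplex X.Modules := ShortComplex.mk (kernel.ι (π ≫ ψ)) (π ≫ ψ) (kernel.condition _)
    have hSN : SN.ShortExact := { exact := ShortComplex.exact_kernel (π ≫ ψ) }
    have hker : ∀ w : GA φ C, ψ.app ⊤ w = 0 → w ∈ H := fun w hw => by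
      let F := factorThruImage (unitDesc C (show Γ(C, ⊤) from c))
      let SI : ShortComplex X.Modules :=
        ShortComplex.mk (Abelian.image.ι (unitDesc C (show Γ(C, ⊤) from c))) ψ (kernel.condition ψ)
      have hSI : SI.ShortExact := { exact := ShortComplex.exact_kernel ψ }
      have hwU : ψ.app U (ρ w) = 0 :=
        (app_resM ψ (le_top : U ≤ ⊤) (show Γ(C, ⊤) from w)).trans ((congrArg _ hw).trans (map_zero _))
      obtain ⟨t, ht⟩ := sections_exact hSI (ρ w) hwU
      haveI : Coh.IsQCoh (Abelian.image (unitDesc C (show Γ(C, ⊤) from c))) := isQCoh_kernel ψ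
      let fi := Abelian.factorThruImage (unitDesc C (show Γ(C, ⊤) from c))
      haveI : Coh.IsQCoh (kernel fi) := isQCoh_kernel fi
      have hSF : (ShortComplex.mk (kernel.ι fi) fi (kernel.condition fi)).ShortExact :=
        { exact := ShortComplex.exact_kernel fi }
      obtain ⟨r, hr⟩ := sections_surjective hSF hU t
      have h2 : (unitDesc C (show Γ(C, ⊤) from c)).app U r = ρ w := by
        rw [← ht, ← hr, ← ConcreteCategory.comp_apply, ← Scheme.Modules.Hom.comp_app]
        exact congrArg (fun f : O ⟶ C => f.app U r) (Abelian.image.fac _).symm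
      rw [unitDesc_app] at h2
      have : w = E r c := ρ.injective (by rw [hE]; exact h2.symm)
      rw [this]
      exact hc r
    have hN1 : Nontrivial (Coh.HH X N 1) := by
      by_contra hsub
      rw [not_nontrivial_iff_subsingleton] at hsub
      have hHtop : H = ⊤ := Submodule.eq_top_iff'.2 fun w => by
        obtain ⟨a, ha⟩ := surjective_app_top hSN hsub (ψ.app ⊤ (show Γ(C, ⊤) from w))
        have h2 : ψ.app ⊤ ((show Γ(C, ⊤) from w) - π.app ⊤ (show Γ(L, ⊤) from a)) = 0 := by
          rw [map_sub, sub_eq_zero]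
          exact ha.symm
        have := add_mem (hker (w - p (show GA φ L from a)) h2) (LinearMap.mem_range_self p (show GA φ L from a))
        rwa [sub_add_cancel] at this
      have := finrank_top k (GA φ C)
      rw [← hHtop] at this
      omega
    have hle := h0_le_genus_of_h1 k hdim.le hNc hL (kernel.ι (π ≫ ψ)) hN1
    rw [hg, finrank_GA_eq k N] at hle
    let j : GA φ N →ₗ[k] GA φ L := mapGA φ (kernel.ι (π ≫ ψ))
    have hmem : ∀ a : GA φ L, ψ.app ⊤ (p a) = 0 → a ∈ LinearMap.range j := fun a ha => by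
      obtain ⟨n, hn⟩ := sections_exact hSN (show Γ(L, ⊤) from a) ha
      exact ⟨n, hn⟩
    have hps : p s' = 0 := by
      have := sections_zero (S := S₀) ⊤ (1 : Γ(X, ⊤))
      rwa [show S₀.f.app ⊤ (1 : Γ(X, ⊤)) = s by
        show (unitDesc L s).app ⊤ _ = _
        rw [unitDesc_app, one_smul, resM_self]] at this
    have hψc : ψ.app ⊤ (p σ) = 0 := by
      rw [hσ]
      have := sections_zero (S := ShortComplex.mk (unitDesc C (show Γ(C, ⊤) from c)) ψ (cokernel.condition _)) ⊤ (1 : Γ(X, ⊤))
      rwa [unitDesc_app, one_smul, resM_self] at this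
    have hind : LinearIndependent k ![s', σ] := LinearIndependent.pair_iff.2 fun a b hab => by
      have h2 := congrArg p hab
      rw [map_add, map_smul, map_smul, hps, smul_zero, zero_add, map_zero, hσ] at h2
      have hb := (smul_eq_zero.1 h2).resolve_right hc0
      rw [hb, zero_smul, add_zero] at hab
      exact ⟨(smul_eq_zero.1 hab).resolve_right hs', hb⟩
    have hsub : Submodule.span k (Set.range ![s', σ]) ≤ LinearMap.range j := by
      rw [Submodule.span_le]
      rintro _ ⟨n, rfl⟩
      fin_cases n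
      · exact hmem s' (by rw [hps]; exact map_zero _)
      · exact hmem σ hψc
    have h3 := Submodule.finrank_mono hsub
    rw [finrank_span_eq_card hind, Fintype.card_fin] at h3
    have h4 : Module.finrank k (LinearMap.range j) ≤ Module.finrank k (GA (baseHom k X) N) :=
      LinearMap.finrank_range_le j
    omega

end Groth.Agent.CurveRR24
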