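import Groth.Agent.CurveRR24.RingGen
import Groth.Agent.CurveRR24.GG
import Groth.Agent.CurveRR24.Ample
import Groth.Agent.MorProj.QuasiAff
import Groth.Agent.PnEmb.Criterion
import Groth.Agent.PnEmb.Ample
import Mathlib.LinearAlgebra.Basis.VectorSpace

/-!
# Curves of genus zero are embedded by every module of positive degree
-/

set_option autoImplicit false
set_option linter.style.haveILetI false
set_option backward.isDefEq.respectTransparency.types false
set_option maxHeartbeats 1000000

universe u

open CategoryTheory CategoryTheory.Limits AlgebraicGeometry Opposite TopologicalSpace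
open Groth.Agent.Coherent Groth.Agent.PicLib Groth.Agent.AmpleLib Groth.Agent.EulerLib

namespace Groth.Agent.CurveRR24

variable (k : Type u) [Field k] {X : Scheme.{u}} [X.Over (Spec (CommRingCat.of k))]
  [IsProper (X ↘ Spec (CommRingCat.of k))] [IsIntegral X]

include k in
theorem surjective_app_cokernel (hg : Subsingleton (Coh.HH X (Coh.structureModule X) 1))
    {L : X.Modules} (hL : PicF.IsInvertible L) {s : Γ(L, ⊤)} (hs : s ≠ 0) :
    Function.Surjective ((cokernel.π (unitDesc L s)).app (⊤ : X.Opens)) := by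
  haveI := mono_unitDesc hL hs
  let S := ShortComplex.mk (unitDesc L s) (cokernel.π _) (cokernel.condition _)
  have hS : S.ShortExact := { exact := ShortComplex.exact_of_g_is_cokernel _ (cokernelIsCokernel _) }
  haveI : Subsingleton (HA (baseHom k X) S.X₁ (⊤ : X.Opens) (0 + 1)) :=
    haveI := hg
    (HHBaseEquiv k (Coh.structureModule X) 1).symm.toEquiv.subsingleton
  intro z
  obtain ⟨y, hy⟩ := (exact_postA_deltaA (baseHom k X) hS (⊤ : X.Opens) 0
    ((secA (baseHom k X) S.X₃).symm z)).1 (Subsingleton.elim _ _)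
  refine ⟨secA (baseHom k X) S.X₂ y, ?_⟩
  have := congrArg (secA (baseHom k X) S.X₃) hy
  rw [secA_natural, LinearEquiv.apply_symm_apply] at this
  exact this

theorem exists_closedImmersion_genus_zero (hdim : topologicalKrullDim X = 1)
    (h0 : Module.finrank k (Coh.HH X (Coh.structureModule X) 0) = 1) (hg : Curv2.genus k X = 0)
    {L : X.Modules} (hL : PicF.IsInvertible L) {d : ℕ} (hd : 0 < d) (hdeg : Curv2.deg k X L 1 = d) :
    ∃ i : X ⟶ CohB1.ProjSpace d k, IsClosedImmersion i ∧
      i ≫ CohB1.ProjSpace.toSpec d k = X ↘ (Spec (CommRingCat.of k)) ∧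
      Nonempty ((Scheme.Modules.pullback i).obj (Twist.twistProjSpace d k 1) ≅ L) := by
  classical
  let q := X ↘ Spec (CommRingCat.of k)
  haveI := isNoetherian_of_proper k (X := X)
  let φ := baseHom k X
  have hLc := isCoh_of_isInvertible k hL
  haveI h1 : Subsingleton (Coh.HH X (Coh.structureModule X) 1) := by
    haveI := finite_HH_of_isCoh k (isCoh_structureModule X) 1
    exact (Module.finrank_zero_iff (R := k)).1 hg
  haveI : Subsingleton (Coh.HH X L 1) := subsingleton_h1_of_deg k hdim.le h0 hL (by omega)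
  have hrr := riemann_roch k hdim.le hL
  rw [h0, hg, hdeg, Module.finrank_zero_of_subsingleton (M := Coh.HH X L 1)] at hrr
  haveI : Module.Finite k (GA φ L) := by
    haveI := finite_HH_of_isCoh k hLc 0
    exact Module.Finite.equiv (hhZero k L)
  have hfr : Module.finrank k (GA φ L) = d + 1 := by
    rw [← (hhZero k L).finrank_eq]; omega
  obtain ⟨s, hs⟩ := exists_ne_zero_of_nontrivial k
    (Module.nontrivial_of_finrank_pos (R := k) (M := Coh.HH X L 0) (by omega))
  have hsurj := surjective_app_cokernel k h1 hL hs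
  obtain ⟨u, hu⟩ := exists_section_generating k hdim.le hL hs hsurj
  have hcov : glocus L s ⊔ glocus L u = ⊤ := top_le_iff.1 fun x _ => by
    by_cases hx : x ∈ glocus L s
    · exact Or.inl hx
    · exact Or.inr (hu x hx)
  have hne : glocus L s ≠ ⊤ := fun h => by
    have hgen : IsGen L ⊤ s := by
      have := (le_glocus_iff s ⊤).1 h.ge
      rwa [resM_self] at this
    obtain ⟨e⟩ := PnEmb.nonempty_iso_of_isGen_top hgen
    rw [deg_congr k e, deg_structure] at hdeg
    omega
  have hu0 : u ≠ 0 := fun h => hne (top_le_iff.1 fun x _ => by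
    by_contra hx
    exact (mem_glocus_iff_germ hL u x).1 (hu x hx) (by rw [h, map_zero]; exact Submodule.zero_mem _))
  let s' : GA φ L := s
  let u' : GA φ L := u
  have hind : LinearIndepOn k id ({s', u'} : Set (GA φ L)) := by
    refine (linearIndepOn_pair_iff (id : GA φ L → GA φ L) (fun h => ?_) (show id s' ≠ 0 from hs)).2 ?_
    · exact hne (top_le_iff.1 fun x _ => by
        by_contra hx
        exact hx ((show s = u from h) ▸ hu x hx))
    · intro a ha
      have h : φ a • s = u := ha
      refine hne (top_le_iff.1 fun x _ => ?_)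
      by_contra hx
      have h2 := hu x hx
      rw [← h, glocus_smul_eq hL] at h2
      exact hx h2.1
  let B := Module.Basis.extend hind
  haveI : Fintype (hind.extend (Set.subset_univ _)) := FiniteDimensional.fintypeBasisIndex B
  have hcard : Fintype.card (hind.extend (Set.subset_univ _)) = d + 1 :=
    (Module.finrank_eq_card_basis B).symm.trans hfr
  let b := B.reindex (Fintype.equivFinOfCardEq hcard)
  have hmem : ∀ w : GA φ L, w ∈ ({s', u'} : Set (GA φ L)) → ∃ i, b i = w := fun w hw => by
    refine ⟨Fintype.equivFinOfCardEq hcard ⟨w, hind.subset_extend _ hw⟩, ?_⟩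
    rw [Module.Basis.reindex_apply, Equiv.symm_apply_apply]
    exact Module.Basis.extend_apply_self hind _
  obtain ⟨i, hi⟩ := hmem s' (Or.inl rfl)
  obtain ⟨j, hj⟩ := hmem u' (Or.inr rfl)
  let σ : Fin (d + 1) → Γ(L, ⊤) := fun i => (show Γ(L, ⊤) from b i)
  have hσi : σ i = s := hi
  have hσj : σ j = u := hj
  have hspan : ∀ a : Γ(L, ⊤), ∃ c : Fin (d + 1) → k, ∑ m, ProjUP.toGlobal q (c m) • σ m = a := fun a =>
    ⟨fun m => b.repr (show GA φ L from a) m, b.sum_repr (show GA φ L from a)⟩
  have hcov' : ∀ x : X, ∃ m, x ∈ glocus L (σ m) := fun x => by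
    rcases hcov.ge (show x ∈ (⊤ : X.Opens) from trivial) with hx | hx
    · exact ⟨i, hσi ▸ hx⟩
    · exact ⟨j, hσj ▸ hx⟩
  obtain ⟨r, hr, τ, hτ⟩ := UPLib.exists_hom_projSpace d q hL σ hcov'
  refine ⟨r, ?_, hr, ⟨τ⟩⟩
  have hA : CohB1.IsAmple L := isAmple_of_deg_pos k hdim hL (by omega)
  have haff : ∀ a : Γ(L, ⊤), IsAffineOpen (glocus L a) :=
    MorProj.isAffineOpen_glocus_of_universallyClosed q hA
  have hO : ∀ c : Γ(X, ⊤), ∃ a : k, φ a = c := by
    have hsu : Function.Surjective (fun a : k => φ a) := by
      let F : k →ₗ[k] GA φ (Coh.structureModule X) :=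
        { toFun := fun c => (show Γ(Coh.structureModule X, ⊤) from φ c)
          map_add' := fun a b => map_add φ a b
          map_smul' := fun a b => map_mul φ a b }
      haveI : Nontrivial Γ(X, ⊤) := inferInstance
      have hF : Function.Injective F := φ.injective
      haveI : Module.Finite k (GA φ (Coh.structureModule X)) := by
        haveI := finite_HH_of_isCoh k (isCoh_structureModule X) 0
        exact Module.Finite.equiv (hhZero k _)
      exact (LinearMap.injective_iff_surjective_of_finrank_eq_finrank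
        (by rw [Module.finrank_self, ← (hhZero k _).finrank_eq, h0])).1 hF
    exact hsu
  let J : Set (Fin (d + 1)) := {i, j}
  have key : ∀ m ∈ J, Function.Surjective (r.app (PnEmb.chartOpen d k m)) := by
    intro m hm
    have hring : ∀ S : Subring Γ(X, glocus L (σ m)), (∀ a, res le_top (φ a) ∈ S) →
        (∀ l, (isGen_glocus (σ m)).coef le_rfl (resM L le_top (σ l)) ∈ S) → ∀ f, f ∈ S := by
      intro S hS1 hS2 f
      have hconst : ∀ c : Γ(X, ⊤), res le_top c ∈ S := fun c => by
        obtain ⟨a, rfl⟩ := hO c; exact hS1 a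
      have hcoef : ∀ a : Γ(L, ⊤), (isGen_glocus (σ m)).coef le_rfl (resM L le_top a) ∈ S := fun a => by
        obtain ⟨c, rfl⟩ := hspan a
        have : (isGen_glocus (σ m)).coef le_rfl (resM L le_top (∑ l, ProjUP.toGlobal q (c l) • σ l)) =
            ∑ l, res le_top (ProjUP.toGlobal q (c l)) * (isGen_glocus (σ m)).coef le_rfl (resM L le_top (σ l)) := by
          refine (isGen_glocus (σ m)).coef_eq le_rfl ?_
          rw [Finset.sum_smul, map_sum]
          refine Finset.sum_congr rfl fun l _ => ?_
          rw [mul_smul, (isGen_glocus (σ m)).coef_spec, resM_smul]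
        rw [this]
        exact S.sum_mem fun l _ => S.mul_mem (hS1 _) (hS2 l)
      rcases hm with rfl | rfl
      · revert f S
        rw [hσi]
        intro S _ _ f hconst hcoef
        haveI := mono_unitDesc hL hs
        exact mem_of_lifts hcov (haff u) hsurj S hconst hcoef f
      · revert f S
        rw [hσj]
        intro S _ _ f hconst hcoef
        haveI := mono_unitDesc hL hu0
        exact mem_of_lifts (sup_comm (glocus L u) (glocus L s) ▸ hcov) (haff s)
          (surjective_app_cokernel k h1 hL hu0) S hconst hcoef f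
    have hpre := PnEmb.preimage_chartOpen r τ hτ m
    suffices key : ∀ W : X.Opens, W = glocus L (σ m) → ∀ hW : W ≤ r ⁻¹ᵁ PnEmb.chartOpen d k m,
        ∀ f, f ∈ (r.appLE (PnEmb.chartOpen d k m) W hW).hom.range by
      intro f
      obtain ⟨c, hc⟩ := key _ hpre le_rfl f
      refine ⟨c, ?_⟩
      rw [← hc, Scheme.Hom.app_eq_appLE]
    rintro W rfl hW f
    refine hring _ (fun a => ?_) (fun l => ?_) f
    · refine ⟨(CohB1.ProjSpace.toSpec d k).appLE ⊤ (PnEmb.chartOpen d k m) le_top
        ((Scheme.ΓSpecIso (CommRingCat.of k)).inv a), ?_⟩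
      show ((CohB1.ProjSpace.toSpec d k).appLE ⊤ (PnEmb.chartOpen d k m) le_top ≫ r.appLE _ _ hW) _ = _
      rw [Scheme.Hom.appLE_comp_appLE]
      simp only [hr]
      rfl
    · obtain ⟨c, hc⟩ := PnEmb.exists_app_eq_coef r τ hτ m l _ hW
      exact ⟨c, ((isGen_glocus (σ m)).coef_eq le_rfl (by rw [resM_self]; exact hc)).symm⟩
  haveI : IsImmersion r := PnEmb.isImmersion_of_charts r (fun m : J => PnEmb.chartOpen d k m)
    (fun m => PnEmb.isAffineOpen_chartOpen _) (fun m => (PnEmb.preimage_chartOpen r τ hτ m.1) ▸ haff _)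
    (fun m => key m.1 m.2) fun x => by
      rcases hcov.ge (show x ∈ (⊤ : X.Opens) from trivial) with hx | hx
      · exact ⟨⟨i, Or.inl rfl⟩, (PnEmb.preimage_chartOpen r τ hτ i).ge (hσi.symm ▸ hx)⟩
      · exact ⟨⟨j, Or.inr rfl⟩, (PnEmb.preimage_chartOpen r τ hτ j).ge (hσj.symm ▸ hx)⟩
  haveI : IsProper (r ≫ CohB1.ProjSpace.toSpec d k) := by rw [hr]; infer_instance
  haveI : IsSeparated (CohB1.ProjSpace.toSpec d k) :=
    haveI := CurveLib.isProper_projSpace k d
    inferInstance
  haveI : IsProper r := IsProper.of_comp r (CohB1.ProjSpace.toSpec d k)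
  exact IsClosedImmersion.of_isPreimmersion r r.isClosedMap.isClosed_range

end Groth.Agent.CurveRR24
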