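import Groth.Agent.CurveRR24.DegGroup
import Groth.Agent.CurveRR24.Ample
import Groth.Agent.Clifford24.Lipman.Field
import Groth.Agent.H0Growth23.Stable
import Groth.Agent.AbCubeLib.RosatiPositive
import Groth.Agent.CommAlg6.J2Small
import Groth.Agent.CAlgH3.RegularLocal
import Groth.Agent.CurveRR24.VeryAmple

/-!
# Regular points of bounded degree on curves without `H¹(O)` over infinite fields
-/

set_option autoImplicit false
set_option linter.style.haveILetI false
set_option backward.isDefEq.respectTransparency.types false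

universe u

open CategoryTheory CategoryTheory.Limits AlgebraicGeometry Opposite TopologicalSpace
open Groth.Agent.Coherent Groth.Agent.PicLib Groth.Agent.AmpleLib Groth.Agent.EulerLib

namespace Groth.Agent.CurveRR24

variable {X : Scheme.{u}} (k : Type u) [Field k] [X.Over (Spec (CommRingCat.of k))]
  [IsProper (X ↘ Spec (CommRingCat.of k))] [IsIntegral X]

include k in
/-- A nonempty open set of regular points. -/
theorem exists_open_regular :
    ∃ V : X.Opens, genericPoint X ∈ V ∧ ∀ x ∈ V, IsRegularLocalRing (X.presheaf.stalk x) := by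
  obtain ⟨U, hU, hηU, -⟩ := exists_isAffineOpen_mem_and_subset (x := genericPoint X) (U := (⊤ : X.Opens)) trivial
  haveI : Nonempty U := ⟨⟨_, hηU⟩⟩
  letI : Algebra k Γ(X, U) :=
    (((X ↘ Spec (CommRingCat.of k)).appLE ⊤ U le_top).hom.comp
      (Scheme.ΓSpecIso (CommRingCat.of k)).inv.hom).toAlgebra
  have hft : Algebra.FiniteType k Γ(X, U) := by
    refine RingHom.FiniteType.comp ?_ (RingHom.FiniteType.of_surjective _
      (ConcreteCategory.bijective_of_isIso (Scheme.ΓSpecIso (CommRingCat.of k)).inv).2)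
    exact (X ↘ Spec (CommRingCat.of k)).finiteType_appLE (isAffineOpen_top _) hU le_top
  have hopen := CommAlg6.isJ2_of_field k Γ(X, U) hft
  refine ⟨⟨hU.fromSpec '' EGA4.regLocus Γ(X, U), hU.fromSpec.isOpenEmbedding.isOpenMap _ hopen⟩,
    ⟨⟨⊥, Ideal.isPrime_bot⟩, CommAlg6.regLocus_generic _, ?_⟩, ?_⟩
  · have := hU.fromSpec_primeIdealOf ⟨genericPoint X, hηU⟩
    rw [hU.primeIdealOf_genericPoint, genericPoint_eq_bot_of_affine] at this
    exact this
  rintro x ⟨p, hp, rfl⟩
  have hmem : hU.fromSpec p ∈ U := by rw [← SetLike.mem_coe, ← hU.range_fromSpec]; exact ⟨p, rfl⟩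
  letI := TopCat.Presheaf.algebra_section_stalk X.presheaf ⟨hU.fromSpec p, hmem⟩
  haveI : IsLocalization p.asIdeal.primeCompl (X.presheaf.stalk (hU.fromSpec p)) :=
    hU.isLocalization_stalk' p hmem
  haveI : IsRegularLocalRing (Localization.AtPrime p.asIdeal) := hp
  exact IsRegularLocalRing.of_ringEquiv
    (IsLocalization.algEquiv p.asIdeal.primeCompl (Localization.AtPrime p.asIdeal)
      (X.presheaf.stalk (hU.fromSpec p))).toRingEquiv

include k in
theorem isIntegrallyClosed_of_regular (hdim : topologicalKrullDim X = 1) {P : X}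
    (hP : IsClosed ({P} : Set X)) (hreg : IsRegularLocalRing (X.presheaf.stalk P)) :
    IsIntegrallyClosed (X.presheaf.stalk P) := by
  haveI := isLocallyNoetherian_of_proper k (X := X)
  haveI := hreg
  haveI : IsDomain (X.presheaf.stalk P) := CAlgH3.isDomain_of_isRegularLocalRing _
  haveI : IsDiscreteValuationRing (X.presheaf.stalk P) :=
    IsLocalRing.finrank_CotangentSpace_eq_one_iff.1 (by
      have h := (IsRegularLocalRing.iff_finrank_cotangentSpace (X.presheaf.stalk P)).1 inferInstance
      rw [stalk_dim_eq_one hdim hP] at h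
      exact_mod_cast h)
  infer_instance

include k in
/-- A regular point of degree at most `deg L` off a prescribed finite set. -/
theorem exists_regular_point_of_deg [Infinite k] (hdim : topologicalKrullDim X = 1)
    (h1 : Subsingleton (Coh.HH X (Coh.structureModule X) 1)) {L : X.Modules} (hL : PicF.IsInvertible L)
    (hdeg : 0 < Curv2.deg k X L 1) {F : Set X} (hF : F.Finite) :
    ∃ Q : X, Q ∉ F ∧ IsClosed ({Q} : Set X) ∧ IsRegularLocalRing (X.presheaf.stalk Q) ∧
      (letI := Curv2.resAlgebra k X Q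
       (Module.finrank k (X.residueField Q) : ℤ) ≤ Curv2.deg k X L 1) := by
  haveI := isLocallyNoetherian_of_proper k (X := X)
  obtain ⟨V, hηV, hV⟩ := exists_open_regular k (X := X)
  obtain ⟨hVf, -, -⟩ := closed_small k hdim.le V.2.isClosed_compl (fun h => h hηV)
  have hgl : Lipman24.Gl L := Lipman24.gl_of_deg_nonneg k hdim.le h1 hL fun _ => hdeg.le
  let S : Set X := F ∪ (V : Set X)ᶜ ∪ {genericPoint X}
  have hS : S.Finite := (hF.union hVf).union (Set.finite_singleton _)
  obtain ⟨s, hs⟩ := H0Growth23.exists_glocus_of_forall k hL hS fun x _ => hgl x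
  have htop : glocus L s ≠ ⊤ := fun h => by
    haveI := AbCubeLib.isIso_of_glocus_eq_top (unitDesc L s) (by rw [unitVal_unitDesc, resM_self]; exact h)
    rw [← deg_congr k (asIso (unitDesc L s)), deg_structure] at hdeg
    exact lt_irrefl _ hdeg
  obtain ⟨Q, hQ⟩ : ∃ Q, Q ∉ glocus L s := by
    by_contra h
    push Not at h
    exact htop (top_le_iff.1 fun x _ => h x)
  have hQS : Q ∉ S := fun h => hQ (hs h)
  have hQη : Q ≠ genericPoint X := fun h => hQS (Or.inr h)
  have hQc : IsClosed ({Q} : Set X) :=
    (CurvesLib24.eq_genericPoint_or_isClosed hdim.le Q).resolve_left hQη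
  have hreg := hV Q (not_not.1 fun h => hQS (Or.inl (Or.inr h)))
  refine ⟨Q, fun h => hQS (Or.inl (Or.inl h)), hQc, hreg, ?_⟩
  have hI := isInvertible_ptIdeal_of_normal k hdim hQc (isIntegrallyClosed_of_regular k hdim hQc hreg)
  let M := CohB1.tensorMod (ClSub.idealMod (ptIdeal Q hQc)) L
  have hM : PicF.IsInvertible M := isInvertible_tensorMod hI hL
  have hd : Curv2.deg k X M 1 = Curv2.deg k X (ClSub.idealMod (ptIdeal Q hQc)) 1 + Curv2.deg k X L 1 :=
    deg_tensor k hdim.le hI hL
  rw [deg_ptIdeal k hQc] at hd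
  let z : Γ((ptSeq hQc L).X₂, ⊤) := (unitTensorIso L).inv.app ⊤ s
  have hz : (unitTensorIso L).hom.app ⊤ z = s :=
    congrArg (fun φ : L ⟶ L => φ.app ⊤ s) (unitTensorIso L).inv_hom_id
  obtain ⟨t, ht⟩ := sections_exact (shortExact_ptSeq hQc hL) z
    (app_g_eq_zero_of_not_mem hQc hL z (by rw [hz]; exact hQ))
  have hne : Nontrivial (Coh.HH X M 0) := by
    haveI : Nontrivial (GA (baseHom k X) M) := nontrivial_of_ne (show GA (baseHom k X) M from t) 0 fun h => by
      have h' : t = 0 := h
      rw [h', map_zero] at ht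
      have hs0 : s = 0 := by rw [← hz, ← ht]; exact map_zero _
      have hη : genericPoint X ∈ glocus L s := hs (Or.inr rfl)
      rw [hs0] at hη
      exact (mem_glocus_iff_germ hL 0 _).1 hη (by rw [map_zero]; exact zero_mem _)
    exact (hhZero k M).toEquiv.nontrivial
  have := (deg_nonneg_of_section k hdim.le hM hne).1
  omega

end Groth.Agent.CurveRR24
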