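import Groth.Agent.CurveRR24.Sky
import Groth.Agent.AmpleLib.Twist2
import Groth.Prelude.Def_Curv2

/-!
# The structure sheaf of a closed point, and its twists
-/

set_option autoImplicit false
set_option linter.style.haveILetI false
set_option backward.isDefEq.respectTransparency.types false

universe u

open CategoryTheory CategoryTheory.Limits AlgebraicGeometry Opposite TopologicalSpace
open Groth.Agent.Coherent Groth.Agent.PicLib Groth.Agent.AmpleLib Groth.Agent.EulerLib

namespace Groth.Agent.CurveRR24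

variable {X : Scheme.{u}}

/-- The reduced ideal sheaf of a closed point. -/
noncomputable abbrev ptIdeal (P : X) (hP : IsClosed ({P} : Set X)) : X.IdealSheafData :=
  Scheme.IdealSheafData.vanishingIdeal ⟨{P}, hP⟩

variable {P : X} (hP : IsClosed ({P} : Set X))

theorem support_ptIdeal : ((ptIdeal P hP).support : Set X) = {P} :=
  Scheme.IdealSheafData.coe_support_vanishingIdeal ..

theorem support_ptQuot : CohB1.support (ClSub.quotMod (ptIdeal P hP)) ⊆ {P} :=
  (support_quotMod_subset _).trans (support_ptIdeal hP).le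

theorem evaluation_surjective_of_isClosed {U : X.Opens} (hU : IsAffineOpen U) (hPU : P ∈ U)
    (hP : IsClosed ({P} : Set X)) : Function.Surjective (X.evaluation U P hPU) := by
  let x : U := ⟨P, hPU⟩
  haveI := hU.primeIdealOf_isMaximal_of_isClosed x hP
  let p := (hU.primeIdealOf x).asIdeal
  let _ := (X.presheaf.algebra_section_stalk x)
  haveI : IsLocalization.AtPrime (X.presheaf.stalk P) p := hU.isLocalization_stalk x
  intro z
  obtain ⟨t, rfl⟩ := X.residue_surjective P z
  obtain ⟨⟨a, s⟩, hst⟩ := IsLocalization.mk'_surjective p.primeCompl t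
  obtain ⟨y, m, hm, hy⟩ := (inferInstance : p.IsMaximal).exists_inv s.2
  refine ⟨a * y, ?_⟩
  have hm0 : X.evaluation U P hPU m = 0 := by
    have h : algebraMap Γ(X, U) (X.presheaf.stalk P) m ∈ IsLocalRing.maximalIdeal _ :=
      (IsLocalization.AtPrime.to_map_mem_maximal_iff (X.presheaf.stalk P) p m).2 hm
    exact (IsLocalRing.residue_eq_zero_iff _).2 h
  have hys : X.evaluation U P hPU y * X.evaluation U P hPU s.1 = 1 := by
    rw [← map_mul, ← add_zero (X.evaluation U P hPU (y * s.1)), ← hm0, ← map_add, hy, map_one]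
  have hsa : X.residue P t * X.evaluation U P hPU s.1 = X.evaluation U P hPU a := by
    show X.residue P t * X.residue P (algebraMap Γ(X, U) (X.presheaf.stalk P) s.1) =
      X.residue P (algebraMap Γ(X, U) (X.presheaf.stalk P) a)
    rw [← map_mul]
    exact congrArg _ (IsLocalization.eq_mk'_iff_mul_eq.1 hst.symm)
  rw [map_mul, ← hsa, mul_assoc, mul_comm (X.evaluation U P hPU s.1), hys, mul_one]

theorem mem_ideal_ptIdeal_iff (U : X.affineOpens) (hPU : P ∈ U.1) (a : Γ(X, U)) :
    a ∈ (ptIdeal P hP).ideal U ↔ X.evaluation U.1 P hPU a = 0 := by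
  rw [X.evaluation_eq_zero_iff_notMem_basicOpen]
  constructor
  · intro ha hmem
    have := (ptIdeal P hP).coe_support_inter U
    have hz : P ∈ X.zeroLocus (U := U.1) ((ptIdeal P hP).ideal U : Set Γ(X, U)) := by
      have h : P ∈ ((ptIdeal P hP).support : Set X) ∩ U.1 :=
        ⟨(support_ptIdeal hP).ge rfl, hPU⟩
      rw [this] at h
      exact h.1
    exact (Scheme.mem_zeroLocus_iff _ _ _).1 hz a ha hmem
  · intro hmem
    rw [Scheme.IdealSheafData.vanishingIdeal_ideal, PrimeSpectrum.mem_vanishingIdeal]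
    intro p hp
    have hp' : U.2.fromSpec p = P := hp
    have he : U.2.fromSpec ⁻¹ᵁ X.basicOpen a = PrimeSpectrum.basicOpen a := U.2.fromSpec_preimage_basicOpen a
    by_contra hap
    have : p ∈ (U.2.fromSpec ⁻¹ᵁ X.basicOpen a) := by rw [he]; exact hap
    exact hmem (hp' ▸ this)

variable (k : Type u) [Field k] [X.Over (Spec (CommRingCat.of k))]

theorem resMap_eq_evaluation {U : X.Opens} (hPU : P ∈ U) (c : k) :
    Curv2.resMap k X P c =
      X.evaluation U P hPU (res (le_top : U ≤ ⊤) (baseHom k X c)) := by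
  show X.residue P (X.presheaf.germ ⊤ P trivial (baseHom k X c)) = _
  rw [← TopCat.Presheaf.germ_res_apply X.presheaf (homOfLE (le_top : U ≤ ⊤)) P hPU]
  rfl

/-- The global sections of `O_P` form the residue field. -/
theorem exists_equiv_ptQuot :
    letI := Curv2.resAlgebra k X P
    Nonempty (GA (baseHom k X) (ClSub.quotMod (ptIdeal P hP)) ≃ₗ[k] X.residueField P) := by
  let _ := Curv2.resAlgebra k X P
  obtain ⟨U, hU, hPU, -⟩ := exists_isAffineOpen_mem_and_subset (x := P) (U := ⊤) trivial
  let I := ptIdeal P hP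
  let π : Γ(X, U) →+* Γ(I.subscheme, I.subschemeι ⁻¹ᵁ U) := (I.subschemeι.app U).hom
  have hπ : Function.Surjective π := I.subschemeι_app_surjective ⟨U, hU⟩
  have hker : RingHom.ker π = I.ideal ⟨U, hU⟩ := I.ker_subschemeι_app ⟨U, hU⟩
  let ev : Γ(X, U) →+* X.residueField P := (X.evaluation U P hPU).hom
  have hev : RingHom.ker ev = I.ideal ⟨U, hU⟩ := by
    ext a; rw [RingHom.mem_ker]; exact (mem_ideal_ptIdeal_iff hP ⟨U, hU⟩ hPU a).symm
  let ε : Γ(I.subscheme, I.subschemeι ⁻¹ᵁ U) →+* X.residueField P :=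
    π.liftOfSurjective hπ ⟨ev, by rw [hev, hker]⟩
  have hε : ∀ a, ε (π a) = ev a := π.liftOfRightInverse_comp_apply _ _ ⟨ev, by rw [hev, hker]⟩
  have hεbij : Function.Bijective ε := by
    refine ⟨(injective_iff_map_eq_zero ε).2 fun b hb => ?_, fun z => ?_⟩
    · obtain ⟨a, rfl⟩ := hπ b
      rw [hε] at hb
      exact RingHom.mem_ker.1 (hker ▸ hev ▸ (RingHom.mem_ker.2 hb))
    · obtain ⟨a, rfl⟩ := evaluation_surjective_of_isClosed hU hPU hP z
      exact ⟨π a, hε a⟩
  have hres := bijective_resM_of_support (ClSub.quotMod I) {P} hP (support_ptQuot hP)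
    (W := U) (by simpa using hPU)
  let f : GA (baseHom k X) (ClSub.quotMod I) →ₗ[k] X.residueField P :=
    { toFun := fun s => ε (resM (ClSub.quotMod I) (le_top : U ≤ ⊤) s)
      map_add' := fun s t =>
        (congrArg ε (map_add (resM (ClSub.quotMod I) (le_top : U ≤ ⊤))
          (show Γ(ClSub.quotMod I, ⊤) from s) (show Γ(ClSub.quotMod I, ⊤) from t))).trans (map_add ε _ _)
      map_smul' := fun c s => by
        refine (congrArg ε (resM_smul (ClSub.quotMod I) (le_top : U ≤ ⊤) (baseHom k X c)
          (show Γ(ClSub.quotMod I, ⊤) from s))).trans ?_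
        refine (map_mul ε (π (res (le_top : U ≤ ⊤) (baseHom k X c))) _).trans ?_
        rw [hε, RingHom.id_apply, Algebra.smul_def]
        congr 1
        exact (resMap_eq_evaluation k hPU c).symm }
  exact ⟨LinearEquiv.ofBijective f (hεbij.comp hres)⟩

theorem finrank_HH_zero_ptQuot :
    Module.finrank k (Coh.HH X (ClSub.quotMod (ptIdeal P hP)) 0) =
      letI := Curv2.resAlgebra k X P
      Module.finrank k (X.residueField P) := by
  let _ := Curv2.resAlgebra k X P
  obtain ⟨e⟩ := exists_equiv_ptQuot hP k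
  exact ((hhZero k _).trans e).finrank_eq

include hP in
theorem finite_resField [IsProper (X ↘ Spec (CommRingCat.of k))] :
    letI := Curv2.resAlgebra k X P
    Module.Finite k (X.residueField P) := by
  let _ := Curv2.resAlgebra k X P
  obtain ⟨e⟩ := exists_equiv_ptQuot hP k
  haveI : IsLocallyNoetherian X := LocallyOfFiniteType.isLocallyNoetherian (X ↘ Spec (CommRingCat.of k))
  haveI : Module.Finite k (Coh.HH X (ClSub.quotMod (ptIdeal P hP)) 0) :=
    (finite_HH_iff k _ 0).2 (finCoh_of_isProper (X ↘ Spec (CommRingCat.of k)) _ (isCoh_quotMod _) 0)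
  exact Module.Finite.equiv ((hhZero k _).trans e)

variable {L : X.Modules}

theorem support_twist_ptQuot (hL : PicF.IsInvertible L) :
    CohB1.support (CohB1.tensorMod (ClSub.quotMod (ptIdeal P hP)) L) ⊆ {P} := by
  rw [support_twist hL]; exact support_ptQuot hP

/-- Twisting `O_P` by an invertible module does not change its global sections. -/
theorem finrank_GA_twist_ptQuot (hL : PicF.IsInvertible L) :
    Nonempty (GA (baseHom k X) (ClSub.quotMod (ptIdeal P hP)) ≃ₗ[k]
      GA (baseHom k X) (CohB1.tensorMod (ClSub.quotMod (ptIdeal P hP)) L)) := by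
  obtain ⟨U, hPU, g, hg⟩ := exists_isGen hL P
  let M := ClSub.quotMod (ptIdeal P hP)
  let N := CohB1.tensorMod M L
  have hM := bijective_resM_of_support M {P} hP (support_ptQuot hP) (W := U) (by simpa using hPU)
  have hN := bijective_resM_of_support N {P} hP (support_twist_ptQuot hP hL) (W := U) (by simpa using hPU)
  have ht := bijective_tmul_gen (M := M) hg U le_rfl
  let fM : GA (baseHom k X) M → Γ(N, U) := fun s =>
    tmul (resM M (le_top : U ≤ ⊤) s) (resM L le_rfl g)
  let fN : GA (baseHom k X) N → Γ(N, U) := fun s => resM N (le_top : U ≤ ⊤) s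
  have hfM : Function.Bijective fM := ht.comp hM
  have hfN : Function.Bijective fN := hN
  let e := (Equiv.ofBijective fM hfM).trans (Equiv.ofBijective fN hfN).symm
  have key : ∀ s, fN (e s) = fM s := fun s => (Equiv.ofBijective fN hfN).apply_symm_apply _
  refine ⟨{ e with map_add' := fun s t => hfN.1 ?_, map_smul' := fun c s => hfN.1 ?_ }⟩
  · show fN (e (s + t)) = fN (e s + e t)
    refine (key _).trans ?_
    refine Eq.trans ?_ (map_add (resM N (le_top : U ≤ ⊤))
      (show Γ(N, ⊤) from e s) (show Γ(N, ⊤) from e t)).symm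
    show _ = fN (e s) + fN (e t)
    rw [key, key]
    exact (congrArg (fun m => tmul m (resM L le_rfl g)) (map_add (resM M (le_top : U ≤ ⊤))
      (show Γ(M, ⊤) from s) (show Γ(M, ⊤) from t))).trans (tmul_add_left _ _ _)
  · show fN (e (c • s)) = fN (c • e s)
    refine (key _).trans ?_
    refine Eq.trans ?_ (resM_smul N (le_top : U ≤ ⊤) (baseHom k X c) (show Γ(N, ⊤) from e s)).symm
    show _ = _ • fN (e s)
    rw [key]
    exact (congrArg (fun m => tmul m (resM L le_rfl g)) (resM_smul M (le_top : U ≤ ⊤) (baseHom k X c)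
      (show Γ(M, ⊤) from s))).trans (tmul_smul_left _ _ _)

theorem finrank_HH_zero_twist_ptQuot (hL : PicF.IsInvertible L) :
    Module.finrank k (Coh.HH X (CohB1.tensorMod (ClSub.quotMod (ptIdeal P hP)) L) 0) =
      letI := Curv2.resAlgebra k X P
      Module.finrank k (X.residueField P) := by
  let _ := Curv2.resAlgebra k X P
  obtain ⟨e⟩ := exists_equiv_ptQuot hP k
  obtain ⟨t⟩ := finrank_GA_twist_ptQuot hP k hL
  exact (((hhZero k _).trans t.symm).trans e).finrank_eq

theorem subsingleton_HH_of_support_point [IsProper (X ↘ Spec (CommRingCat.of k))] (M : X.Modules)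
    [Coh.IsQCoh M] (hM : CohB1.support M ⊆ {P}) (hP : IsClosed ({P} : Set X)) {q : ℕ} (hq : 0 < q) :
    Subsingleton (Coh.HH X M q) := by
  haveI := isNoetherian_of_proper k (X := X)
  haveI : IsSeparated (X ↘ Spec (CommRingCat.of k)) := inferInstance
  haveI : X.IsSeparated := ⟨by rw [← terminal.comp_from (X ↘ Spec (CommRingCat.of k))]; infer_instance⟩
  refine subsingleton_HH_of_support ⟨{P}, hP⟩ M inferInstance hM q ?_
  have : Subsingleton ({P} : Set X) := Set.subsingleton_singleton.coe_sort
  exact lt_of_le_of_lt (topologicalKrullDim_zero_of_discreteTopology ({P} : Set X)) (by exact_mod_cast hq)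

theorem subsingleton_HH_twist_ptQuot [IsProper (X ↘ Spec (CommRingCat.of k))]
    (hL : PicF.IsInvertible L) {q : ℕ} (hq : 0 < q) :
    Subsingleton (Coh.HH X (CohB1.tensorMod (ClSub.quotMod (ptIdeal P hP)) L) q) := by
  haveI : IsLocallyNoetherian X := LocallyOfFiniteType.isLocallyNoetherian (X ↘ Spec (CommRingCat.of k))
  haveI : Coh.IsQCoh (CohB1.tensorMod (ClSub.quotMod (ptIdeal P hP)) L) :=
    (isCoh_twist hL (isCoh_quotMod (ptIdeal P hP))).1
  exact subsingleton_HH_of_support_point k _ (support_twist_ptQuot hP hL) hP hq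

theorem euler_twist_ptQuot [IsProper (X ↘ Spec (CommRingCat.of k))] (hL : PicF.IsInvertible L) :
    Curv2.euler k X (CohB1.tensorMod (ClSub.quotMod (ptIdeal P hP)) L) =
      letI := Curv2.resAlgebra k X P
      (Module.finrank k (X.residueField P) : ℤ) := by
  rw [euler_eq_sum k X _ 0 fun q hq => subsingleton_HH_twist_ptQuot hP k hL hq]
  simp [finrank_HH_zero_twist_ptQuot hP k hL]

end Groth.Agent.CurveRR24
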