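import Groth.Agent.CurveRR24.Extremal
import Groth.Agent.CurveRR24.VeryAmple

/-!
# Functions on the nonvanishing locus of a section, when all sections along the zeros lift
-/

set_option autoImplicit false
set_option linter.style.haveILetI false
set_option backward.isDefEq.respectTransparency.types false
set_option maxHeartbeats 800000

universe u

open CategoryTheory CategoryTheory.Limits AlgebraicGeometry Opposite TopologicalSpace
open Groth.Agent.Coherent Groth.Agent.PicLib Groth.Agent.AmpleLib Groth.Agent.EulerLib

namespace Groth.Agent.CurveRR24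

variable {X : Scheme.{u}} {L : X.Modules}

theorem mem_of_lifts {s u : Γ(L, ⊤)} (hcov : glocus L s ⊔ glocus L u = ⊤)
    (hV : IsAffineOpen (glocus L u))
    (hsurj : Function.Surjective ((cokernel.π (unitDesc L s)).app (⊤ : X.Opens))) [Mono (unitDesc L s)]
    (S : Subring Γ(X, glocus L s)) (hconst : ∀ c : Γ(X, ⊤), res le_top c ∈ S)
    (hcoef : ∀ a : Γ(L, ⊤), (isGen_glocus s).coef le_rfl (resM L le_top a) ∈ S)
    (f : Γ(X, glocus L s)) : f ∈ S := by
  let W := glocus L s
  let V := glocus L u
  have hWV1 : W ⊓ V ≤ W := inf_le_left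
  have hWV2 : W ⊓ V ≤ V := inf_le_right
  let cW : Γ(L, ⊤) → Γ(X, W) := fun a => (isGen_glocus s).coef le_rfl (resM L le_top a)
  let cV : Γ(L, ⊤) → Γ(X, V) := fun a => (isGen_glocus u).coef le_rfl (resM L le_top a)
  let x := cW u
  let y := cV s
  have hspecW : ∀ a, res hWV1 (cW a) • resM L (le_top : W ⊓ V ≤ ⊤) s = resM L le_top a := fun a => by
    have h := congrArg (resM L hWV1) ((isGen_glocus s).coef_spec le_rfl (resM L le_top a))
    rw [resM_smul, resM_resM, resM_resM, resM_resM] at h
    exact h
  have hspecV : ∀ a, res hWV2 (cV a) • resM L (le_top : W ⊓ V ≤ ⊤) u = resM L le_top a := fun a => by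
    have h := congrArg (resM L hWV2) ((isGen_glocus u).coef_spec le_rfl (resM L le_top a))
    rw [resM_smul, resM_resM, resM_resM, resM_resM] at h
    exact h
  have hinj : Function.Injective (fun r : Γ(X, W ⊓ V) => r • resM L (le_top : W ⊓ V ≤ ⊤) s) := by
    have h := ((isGen_glocus s) (W ⊓ V) hWV1).1
    rwa [resM_resM] at h
  have hchg : ∀ a, res hWV1 (cW a) = res hWV1 x * res hWV2 (cV a) := fun a => hinj (by
    beta_reduce
    rw [hspecW, mul_comm, mul_smul, hspecW, hspecV])
  have hxy : res hWV1 x * res hWV2 y = 1 := by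
    rw [← hchg]
    exact hinj ((hspecW s).trans (one_smul _ _).symm)
  have hbasic : X.basicOpen y = W ⊓ V := (glocus_inf s (isGen_glocus u)).symm
  suffices key : ∀ (N : ℕ) (f : Γ(X, W)) (h : Γ(X, V)),
      res hWV1 f = res hWV1 x ^ N * res hWV2 h → f ∈ S by
    haveI := hV.isLocalization_basicOpen y
    obtain ⟨⟨h, _, N, rfl⟩, hN⟩ := IsLocalization.surj (Submonoid.powers y)
      (res (hbasic.le.trans hWV1 : X.basicOpen y ≤ W) f)
    refine key N f h ?_
    have h2 : res hWV1 f * res hWV2 y ^ N = res hWV2 h := by
      have h3 := congrArg (res (hbasic.ge : W ⊓ V ≤ X.basicOpen y)) hN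
      rw [map_mul] at h3
      change res hbasic.ge (res _ f) * res hbasic.ge (res (X.basicOpen_le y) (y ^ N)) =
        res hbasic.ge (res (X.basicOpen_le y) h) at h3
      rw [PicLib.res_res, PicLib.res_res, PicLib.res_res, map_pow] at h3
      exact h3
    rw [← h2, mul_left_comm, ← mul_pow, hxy, one_pow, mul_one]
  intro N
  induction N with
  | zero =>
    intro f h hfh
    rw [pow_zero, one_mul] at hfh
    let U : Bool → X.Opens := fun b => if b then W else V
    let sf : ∀ b, Γ(X, U b) := fun b => match b with
      | true => f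
      | false => h
    obtain ⟨c, hc, -⟩ := TopCat.Sheaf.existsUnique_gluing' X.sheaf U ⊤ (fun _ => homOfLE le_top)
      (fun z _ => by
        rcases (hcov.ge (show z ∈ (⊤ : X.Opens) from trivial)) with hz | hz
        · exact Opens.mem_iSup.2 ⟨true, hz⟩
        · exact Opens.mem_iSup.2 ⟨false, hz⟩) sf (by
        rintro (_ | _) (_ | _)
        · rfl
        · show res (inf_le_left : V ⊓ W ≤ V) h = res (inf_le_right : V ⊓ W ≤ W) f
          have h3 := congrArg (res (le_inf inf_le_right inf_le_left : V ⊓ W ≤ W ⊓ V)) hfh
          rw [PicLib.res_res, PicLib.res_res] at h3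
          exact h3.symm
        · exact hfh
        · rfl)
    have h4 : res (le_top : W ≤ ⊤) (c : Γ(X, ⊤)) = f := hc true
    rw [← h4]
    exact hconst c
  | succ N ih =>
    intro f h hfh
    -- a global section agreeing with `h` along the zeros of `s`
    let π := cokernel.π (unitDesc L s)
    let Q := cokernel (unitDesc L s)
    have hQ : ∀ O : X.Opens, O ≤ W → Subsingleton Γ(Q, O) := fun O hO =>
      subsingleton_sections_of_disjoint Q O (Set.disjoint_left.2 fun z hz hzQ =>
        support_cokernel_unitDesc s hzQ (hO hz))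
    let F : TopCat.Sheaf Ab X := ⟨Q.presheaf, Q.isSheaf⟩
    let U : Bool → X.Opens := fun b => if b then W else V
    let sq : ∀ b, ToType (F.presheaf.obj (op (U b))) := fun b => match b with
      | true => (0 : Γ(Q, W))
      | false => (π.app V (h • resM L le_top u) : Γ(Q, V))
    obtain ⟨z, hz, -⟩ := TopCat.Sheaf.existsUnique_gluing' F U ⊤ (fun _ => homOfLE le_top)
      (fun z _ => by
        rcases (hcov.ge (show z ∈ (⊤ : X.Opens) from trivial)) with hz | hz
        · exact Opens.mem_iSup.2 ⟨true, hz⟩
        · exact Opens.mem_iSup.2 ⟨false, hz⟩) sq (by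
        rintro (_ | _) (_ | _)
        · rfl
        · exact @Subsingleton.elim _ (hQ _ (inf_le_right (a := V) (b := W))) _ _
        · exact @Subsingleton.elim _ (hQ _ (inf_le_left (a := W) (b := V))) _ _
        · rfl)
    obtain ⟨a, ha⟩ := hsurj (z : Γ(Q, ⊤))
    have hd : π.app V (resM L le_top a - h • resM L le_top u) = 0 := by
      rw [map_sub, app_resM, ha]
      exact sub_eq_zero.2 (hz false)
    have hS : (ShortComplex.mk (unitDesc L s) (cokernel.π _) (cokernel.condition _)).ShortExact :=
      { exact := ShortComplex.exact_of_g_is_cokernel _ (cokernelIsCokernel _) }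
    obtain ⟨c', hc'⟩ := sections_exact hS _ hd
    let c : Γ(X, V) := c'
    have hc : resM L le_top a - h • resM L le_top u = c • resM L le_top s :=
      hc'.symm.trans (unitDesc_app L s V c)
    have hca : cV a = h + c * y := by
      refine (isGen_glocus u).coef_eq le_rfl ?_
      rw [resM_self, add_smul, mul_smul, sub_eq_iff_eq_add.1 hc]
      have := (isGen_glocus u).coef_spec le_rfl (resM L le_top s)
      rw [resM_self] at this
      rw [this, add_comm]
    have hrest : f - cW a * x ^ N ∈ S := by
      refine ih _ (-c) ?_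
      rw [map_sub, map_mul, map_pow, hchg a, hfh, hca, map_add, map_mul, map_neg]
      linear_combination (-(res hWV1 x ^ N * res hWV2 c)) * hxy
    have := S.add_mem hrest (S.mul_mem (hcoef a) (S.pow_mem (hcoef u) N))
    rwa [show f - cW a * x ^ N + _ = f from sub_add_cancel f _] at this

end Groth.Agent.CurveRR24
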