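import Groth.Agent.CurveRR24.SmoothCompletion

/-! Smoothness at a closed point with regular local ring. -/

set_option autoImplicit false
set_option linter.style.haveILetI false
set_option backward.isDefEq.respectTransparency.types false

universe u

open CategoryTheory CategoryTheory.Limits AlgebraicGeometry Opposite TopologicalSpace

namespace Groth.Agent.CurveRR24

variable {k : Type u} [Field k]

/-- Over an algebraically closed field, a closed point with regular local ring has a smooth neighbourhood. -/
theorem exists_smooth_nhd_of_regular [IsAlgClosed k] {X : Scheme.{u}} (q : X ⟶ Spec (CommRingCat.of k))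
    [LocallyOfFiniteType q] {x : X} (hxc : IsClosed ({x} : Set X))
    (h : IsRegularLocalRing (X.presheaf.stalk x)) : ∃ U : X.Opens, x ∈ U ∧ Smooth (U.ι ≫ q) := by
  haveI : LocallyOfFinitePresentation q := inferInstance
  refine ⟨q.smoothLocus, ?_, ?_⟩
  swap
  · rw [← Scheme.Hom.smoothLocus_eq_top_iff, ← Scheme.Hom.preimage_smoothLocus_eq]
    exact Scheme.Opens.ι_preimage_self _
  obtain ⟨V, hV, hxV, -⟩ := exists_isAffineOpen_mem_and_subset (x := x) (U := (⊤ : X.Opens)) trivial
  let A := Γ(X, V)
  let _ : Algebra k A := (EmbLib24.gl q V).toAlgebra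
  have hcomp : hV.fromSpec ≫ q = Spec.map (CommRingCat.ofHom (algebraMap k A)) := by
    rw [IsAffineOpen.fromSpec, Category.assoc, EmbLib24.toSpecΓ_gl, ← hV.isoSpec_hom, Iso.inv_hom_id_assoc]
    try rfl
  haveI : Algebra.FiniteType k A := by
    have h : LocallyOfFiniteType (Spec.map (CommRingCat.ofHom (algebraMap k A))) := by
      rw [← hcomp]; infer_instance
    exact RingHom.finiteType_algebraMap.1 ((HasRingHomProperty.Spec_iff (P := @LocallyOfFiniteType)).1 h)
  haveI : Algebra.FinitePresentation k A := Algebra.FinitePresentation.of_finiteType.1 inferInstance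
  let p := hV.primeIdealOf ⟨x, hxV⟩
  have hp : hV.fromSpec p = x := hV.fromSpec_primeIdealOf ⟨x, hxV⟩
  haveI : p.asIdeal.IsMaximal := hV.primeIdealOf_isMaximal_of_isClosed ⟨x, hxV⟩ hxc
  show (q.stalkMap x).hom.FormallySmooth
  rw [← hp]
  refine (EGA43.FibDepth.formallySmooth_stalkMap_chart_iff hV.fromSpec q hcomp p).2 ?_
  refine (S2116.result p.asIdeal).1 ?_
  haveI := h
  let _ := TopCat.Presheaf.algebra_section_stalk X.presheaf (⟨x, hxV⟩ : V)
  haveI := hV.isLocalization_stalk ⟨x, hxV⟩
  exact IsRegularLocalRing.of_ringEquiv (IsLocalization.algEquiv p.asIdeal.primeCompl (X.presheaf.stalk x)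
    (Localization.AtPrime p.asIdeal)).toRingEquiv

end Groth.Agent.CurveRR24
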