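import Groth.Agent.CurveRR24.AlgClosed
import Groth.Agent.CurveRR24.DegGroup
import Groth.Agent.CurveRR24.SmoothPoint
import Groth.Agent.AbVarLib.MulIsogeny

/-!
# Non-special invertible modules of any small `h⁰` on a curve over an algebraically closed field
-/

set_option autoImplicit false
set_option linter.style.haveILetI false
set_option backward.isDefEq.respectTransparency.types false

universe u

open CategoryTheory CategoryTheory.Limits AlgebraicGeometry Opposite TopologicalSpace
open Groth.Agent.Coherent Groth.Agent.PicLib Groth.Agent.AmpleLib Groth.Agent.EulerLib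

namespace Groth.Agent.CurveRR24

variable {X : Scheme.{u}} (k : Type u) [Field k] [IsAlgClosed k] [X.Over (Spec (CommRingCat.of k))]
  [IsProper (X ↘ Spec (CommRingCat.of k))] [IsIntegral X]

include k in
/-- Every nonempty open of a curve contains a closed point with discrete valuation local ring. -/
theorem exists_dvr_point_mem (hdim : topologicalKrullDim X = 1) (U : X.Opens) (hU : (U : Set X).Nonempty) :
    ∃ P ∈ U, IsClosed ({P} : Set X) ∧ IsIntegrallyClosed (X.presheaf.stalk P) := by
  haveI : Nonempty U.toScheme := hU.to_subtype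
  haveI : IsIntegral U.toScheme := isIntegral_of_isOpenImmersion U.ι
  let q := U.ι ≫ (X ↘ Spec (CommRingCat.of k))
  haveI : GeometricallyReduced q := AbVarLib.geometricallyReduced_of_perfectField q
  obtain ⟨t, ht, hreg⟩ := exists_section_regular q
  obtain ⟨pt⟩ : Nonempty (Spec (CommRingCat.of k)) := inferInstanceAs (Nonempty (PrimeSpectrum k))
  have hs : (t ≫ U.ι) ≫ (X ↘ Spec (CommRingCat.of k)) = 𝟙 _ := by rw [Category.assoc]; exact ht
  have hP := isClosed_section_point (t ≫ U.ι) hs pt
  haveI := hreg pt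
  haveI : IsRegularLocalRing (X.presheaf.stalk ((t ≫ U.ι) pt)) :=
    IsRegularLocalRing.of_ringEquiv (asIso (U.ι.stalkMap (t pt))).symm.commRingCatIsoToRingEquiv
  haveI := isLocallyNoetherian_of_proper k (X := X)
  haveI : IsDomain (X.presheaf.stalk ((t ≫ U.ι) pt)) := CAlgH3.isDomain_of_isRegularLocalRing _
  haveI : IsDiscreteValuationRing (X.presheaf.stalk ((t ≫ U.ι) pt)) :=
    IsLocalRing.finrank_CotangentSpace_eq_one_iff.1 (by
      have h := (IsRegularLocalRing.iff_finrank_cotangentSpace (X.presheaf.stalk ((t ≫ U.ι) pt))).1 inferInstance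
      rw [stalk_dim_eq_one hdim hP] at h
      exact_mod_cast h)
  exact ⟨(t ≫ U.ι) pt, (t pt).2, hP, inferInstance⟩

/-- A non-special invertible module with `h⁰ = n + 1` gives one with `h⁰ = n`. -/
theorem exists_nonspecial_pred (hdim : topologicalKrullDim X = 1) {L : X.Modules} (hL : PicF.IsInvertible L)
    (h1 : Subsingleton (Coh.HH X L 1)) {n : ℕ} (hn : Module.finrank k (Coh.HH X L 0) = n + 1) :
    ∃ N : X.Modules, PicF.IsInvertible N ∧ Subsingleton (Coh.HH X N 1) ∧
      Module.finrank k (Coh.HH X N 0) = n := by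
  haveI := isLocallyNoetherian_of_proper k (X := X)
  obtain ⟨s, hs⟩ := exists_ne_zero_of_nontrivial k
    (Module.nontrivial_of_finrank_pos (R := k) (M := Coh.HH X L 0) (by omega))
  obtain ⟨P, hPU, hP, hn'⟩ := exists_dvr_point_mem k hdim (glocus L s) ⟨_, genericPoint_mem_glocus hL hs⟩
  have hN : PicF.IsInvertible (CohB1.tensorMod L (ClSub.idealMod (ptIdeal P hP))) := isInvertible_tensorMod hL (isInvertible_ptIdeal_of_normal k hdim hP hn')
  have hne := h0_ne_of_mem_glocus k hP hL hPU
  obtain ⟨ha, hb⟩ := h0_tensor_ptIdeal k hP hL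
  have he := euler_tensor_ptIdeal k hP hL
  rw [finrank_resField k hP] at hb he
  rw [euler_eq_h0_sub_h1 k hdim.le _ (isCoh_of_isInvertible k hL).1,
    euler_eq_h0_sub_h1 k hdim.le _ (isCoh_of_isInvertible k hN).1,
    Module.finrank_zero_of_subsingleton (M := Coh.HH X L 1)] at he
  haveI := finite_HH_of_isCoh k (isCoh_of_isInvertible k hN) 1
  refine ⟨_, hN, (Module.finrank_zero_iff (R := k)).1 ?_, ?_⟩
  · omega
  · omega

/-- A non-special invertible module with `h⁰ = g + 1`. -/
theorem exists_nonspecial_top (hdim : topologicalKrullDim X = 1) :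
    ∃ L : X.Modules, PicF.IsInvertible L ∧ Subsingleton (Coh.HH X L 1) ∧
      Module.finrank k (Coh.HH X L 0) = Curv2.genus k X + 1 := by
  obtain ⟨P, -, hP, hn⟩ := exists_dvr_point_mem k hdim ⊤ ⟨genericPoint X, trivial⟩
  have h := deg_mem_degGroup k hdim hP hn
  rw [finrank_resField k hP] at h
  obtain ⟨L, hL, hd⟩ := (degGroup k hdim.le).zsmul_mem h (2 * (Curv2.genus k X : ℤ))
  have h0 := h0_structure k (X := X)
  have h1 := subsingleton_h1_of_deg k hdim.le h0 hL (by rw [hd]; simp)
  refine ⟨L, hL, h1, ?_⟩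
  have hrr := riemann_roch k hdim.le hL
  rw [h0, hd, Module.finrank_zero_of_subsingleton (M := Coh.HH X L 1)] at hrr
  simp at hrr
  omega

/-- Non-special invertible modules with every `h⁰ ≤ g + 1`. -/
theorem exists_nonspecial (hdim : topologicalKrullDim X = 1) {m : ℕ} (hm : m ≤ Curv2.genus k X + 1) :
    ∃ L : X.Modules, PicF.IsInvertible L ∧ Subsingleton (Coh.HH X L 1) ∧
      Module.finrank k (Coh.HH X L 0) = m := by
  induction hm using Nat.decreasingInduction with
  | self => exact exists_nonspecial_top k hdim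
  | of_succ j _ ih =>
    obtain ⟨L, hL, h1, hj⟩ := ih
    exact exists_nonspecial_pred k hdim hL h1 hj

end Groth.Agent.CurveRR24
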