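import Groth.Agent.CurveRR24.VeryAmple
import Groth.Agent.CurveRR24.GenSections

/-!
# Very ampleness in degree `≥ 2g + 1` over an algebraically closed field, singular curves allowed
-/

set_option autoImplicit false
set_option linter.style.haveILetI false
set_option backward.isDefEq.respectTransparency.types false
set_option maxHeartbeats 1000000

universe u

open CategoryTheory CategoryTheory.Limits AlgebraicGeometry Opposite TopologicalSpace
open Groth.Agent.Coherent Groth.Agent.PicLib Groth.Agent.AmpleLib Groth.Agent.EulerLib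

namespace Groth.Agent.CurveRR24

variable {X : Scheme.{u}}

local notation "St" => DerSch.stalkFunctor X

theorem stalk_map_mem_of_span {M N : X.Modules} (φ : M ⟶ N) {z : X} {u : M.presheaf.stalk z}
    (hu : u ∈ Submodule.span (X.presheaf.stalk z) (Set.range fun s : Γ(M, ⊤) => M.presheaf.germ ⊤ z trivial s))
    (S : Submodule (X.presheaf.stalk z) (N.presheaf.stalk z))
    (h : ∀ s : Γ(M, ⊤), N.presheaf.germ ⊤ z trivial (φ.app ⊤ s) ∈ S) :
    (show N.presheaf.stalk z from (St z).map φ u) ∈ S := by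
  induction hu using Submodule.span_induction with
  | mem x hx =>
    obtain ⟨s, rfl⟩ := hx
    exact (stalk_map_germ φ (W := ⊤) (y := z) trivial s).symm ▸ h s
  | zero => exact (map_zero ((St z).map φ).hom).symm ▸ S.zero_mem
  | add x y _ _ hx hy => exact (map_add ((St z).map φ).hom x y).symm ▸ S.add_mem hx hy
  | smul a x _ hx => exact (map_smul ((St z).map φ).hom a x).symm ▸ S.smul_mem a hx

theorem stalk_map_mem_smul_top {M N : X.Modules} (φ : M ⟶ N) {z : X} (I : Ideal (X.presheaf.stalk z))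
    {w : M.presheaf.stalk z} (hw : w ∈ I • (⊤ : Submodule (X.presheaf.stalk z) (M.presheaf.stalk z))) :
    (show N.presheaf.stalk z from (St z).map φ w) ∈
      I • (⊤ : Submodule (X.presheaf.stalk z) (N.presheaf.stalk z)) := by
  refine Submodule.smul_induction_on hw (fun a ha x _ => ?_) fun x y hx hy => ?_
  · exact (map_smul ((St z).map φ).hom a x).symm ▸ Submodule.smul_mem_smul ha Submodule.mem_top
  · exact (map_add ((St z).map φ).hom x y).symm ▸ Submodule.add_mem _ hx hy

/-- Multiples of a generator by the ideal come from the twist. -/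
theorem exists_stalk_preimage {P : X} (hP : IsClosed ({P} : Set X)) {L : X.Modules}
    (hL : PicF.IsInvertible L) (v : L.presheaf.stalk P)
    (hv : v ∈ (IsLocalRing.maximalIdeal (X.presheaf.stalk P) •
      (⊤ : Submodule (X.presheaf.stalk P) (L.presheaf.stalk P)))) :
    ∃ u : (CohB1.tensorMod (ClSub.idealMod (ptIdeal P hP)) L).presheaf.stalk P,
      (St P).map (twistMul (ptIdeal P hP) L) u = v := by
  let I := ptIdeal P hP
  obtain ⟨U, hPU, g, hg⟩ := exists_isGen hL P
  obtain ⟨a, rfl⟩ := (EmbLib24.bijective_smul_germ hg hPU).2 v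
  rw [EmbLib24.mem_smul_top_iff _ (EmbLib24.bijective_smul_germ hg hPU)] at hv
  obtain ⟨W, hPW, w, hw⟩ := TopCat.Presheaf.exists_germ_eq X.presheaf a
  obtain ⟨A, hA, hPA, hAW⟩ := exists_isAffineOpen_mem_and_subset (x := P) (U := W ⊓ U) ⟨hPW, hPU⟩
  have hA1 : A ≤ W := fun y hy => (hAW hy).1
  have hA2 : A ≤ U := fun y hy => (hAW hy).2
  have hmem : res hA1 w ∈ I.ideal ⟨A, hA⟩ := by
    refine (mem_ptIdeal_iff hP ⟨A, hA⟩ _).2 fun h => ?_
    rw [X.mem_basicOpen _ P hPA] at h
    refine hv ?_
    rw [← hw, ← TopCat.Presheaf.germ_res_apply X.presheaf (homOfLE hA1) P hPA w]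
    exact h
  obtain ⟨c, hc⟩ := (mem_range_idealModι I A (res hA1 w)).2
    (RingHom.mem_ker.1 ((I.ker_subschemeι_app ⟨A, hA⟩).symm ▸ hmem))
  refine ⟨(CohB1.tensorMod (ClSub.idealMod I) L).presheaf.germ A P hPA (tmul c (resM L hA2 g)), ?_⟩
  refine (stalk_map_germ (twistMul I L) hPA _).trans ?_
  refine (congrArg (L.presheaf.germ A P hPA) (twistMul_tmul I (L := L) A c _)).trans ?_
  refine (QCohLoc.germ_smul' (M := L) hPA _ _).trans ?_
  refine congrArg₂ (fun (b : X.presheaf.stalk P) (t : L.presheaf.stalk P) => b • t) ?_ ?_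
  · refine (congrArg (X.presheaf.germ A P hPA) hc).trans ?_
    rw [← hw]
    exact TopCat.Presheaf.germ_res_apply X.presheaf (homOfLE hA1) P hPA w
  · exact TopCat.Presheaf.germ_res_apply L.presheaf (homOfLE hA2) P hPA g

variable (k : Type u) [Field k] [IsAlgClosed k] [X.Over (Spec (CommRingCat.of k))]
  [IsProper (X ↘ Spec (CommRingCat.of k))] [IsIntegral X]

/-- The criterion: all twists by closed points have more than `g` sections. -/
theorem isClosedImmersion_of_genus_lt (hdim : topologicalKrullDim X ≤ 1) {L : X.Modules}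
    (hL : PicF.IsInvertible L) {n : ℕ} (r : X ⟶ CohB1.ProjSpace n k)
    (hr : r ≫ CohB1.ProjSpace.toSpec n k = (X ↘ (Spec (CommRingCat.of k))))
    (τ : EmbLib24.pbO r ≅ L)
    (hσ : ∀ s : Γ(L, ⊤), ∃ c : Fin (n + 1) → k,
      τ.hom.app ⊤ (∑ i, ProjUP.toGlobal (X ↘ (Spec (CommRingCat.of k))) (c i) • EmbLib24.sig r i) = s)
    (h : ∀ (P : X) (hP : IsClosed ({P} : Set X)), Curv2.genus k X <
      Module.finrank k (Coh.HH X (CohB1.tensorMod (ClSub.idealMod (ptIdeal P hP)) L) 0)) :
    IsClosedImmersion r := by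
  haveI := isNoetherian_of_proper k (X := X)
  haveI : IsProper (CohB1.ProjSpace.toSpec n k) := CurveLib.isProper_projSpace k n
  let pX := X ↘ Spec (CommRingCat.of k)
  haveI : IsProper (r ≫ CohB1.ProjSpace.toSpec n k) := by rw [hr]; infer_instance
  haveI : IsProper r := IsProper.of_comp r (CohB1.ProjSpace.toSpec n k)
  let M := EmbLib24.pbO r
  have hM : PicF.IsInvertible M := glocus_isInvertible_of_iso τ.symm hL
  have hiff : ∀ (c : Fin (n + 1) → k) (P : X), M.presheaf.germ ⊤ P trivial
      (∑ i, ProjUP.toGlobal pX (c i) • EmbLib24.sig r i) ∈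
      (IsLocalRing.maximalIdeal (X.presheaf.stalk P) • (⊤ : Submodule (X.presheaf.stalk P) (M.presheaf.stalk P))) ↔
      P ∉ glocus L (τ.hom.app ⊤ (∑ i, ProjUP.toGlobal pX (c i) • EmbLib24.sig r i)) := fun c P => by
    rw [glocus_map_iso, mem_glocus_iff_germ hM, not_not]
  have hgen := fun (P : X) (hP : IsClosed ({P} : Set X)) (z : X) =>
    haveI := mono_twistMul (ptIdeal P hP) hL
    span_germ_eq_top k hdim (isCoh_twist hL (isCoh_idealMod' (ptIdeal P hP))) hL
      (twistMul (ptIdeal P hP) L) (h P hP) z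
  refine EmbLib24.isClosedImmersion_of_separates r hr (pX := pX) (fun P Q hP hQ hne => ?_) fun P hP => ?_
  · let I := ptIdeal P hP
    by_contra hcon
    push Not at hcon
    have hall : ∀ u : (CohB1.tensorMod (ClSub.idealMod I) L).presheaf.stalk Q,
        (show L.presheaf.stalk Q from (St Q).map (twistMul I L) u) ∈
        (IsLocalRing.maximalIdeal (X.presheaf.stalk Q) •
          (⊤ : Submodule (X.presheaf.stalk Q) (L.presheaf.stalk Q))) := fun u => by
      have hu : u ∈ Submodule.span (X.presheaf.stalk Q) (Set.range fun s : Γ(CohB1.tensorMod (ClSub.idealMod I) L, ⊤) =>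
          (CohB1.tensorMod (ClSub.idealMod I) L).presheaf.germ ⊤ Q trivial s) := hgen P hP Q ▸ Submodule.mem_top
      refine stalk_map_mem_of_span (twistMul I L) hu _ fun z => ?_
      by_contra hz
      obtain ⟨c, hc⟩ := hσ ((twistMul I L).app ⊤ z)
      have h1 := (hcon c).1 ((hiff c P).2 (by
        rw [hc]
        exact fun h => glocus_twistMul_le I hL z h ((support_ptIdeal hP).ge rfl)))
      rw [hiff c Q, hc] at h1
      exact h1 ((mem_glocus_iff_germ hL _ Q).2 hz)
    obtain ⟨k₀, hk₀⟩ := exists_idealModι_eq_one I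
    obtain ⟨U₀, hQU₀, g₀, hg₀⟩ := exists_isGen hL Q
    let O : X.Opens := ⟨(I.support : Set X)ᶜ, I.support.2.isOpen_compl⟩
    let U : X.Opens := U₀ ⊓ O
    have hQU : Q ∈ U := ⟨hQU₀, fun hs => hne ((support_ptIdeal hP).le hs).symm⟩
    let g := resM L (inf_le_left : U ≤ U₀) g₀
    have hg : IsGen L U g := hg₀.restrict _
    let kU : Γ(ClSub.idealMod I, U) := resM _ (inf_le_right : U ≤ O) k₀
    have hkU : (ClSub.idealModι I).app U kU = (1 : Γ(X, U)) := by
      rw [app_resM]
      exact (congrArg (resM (Coh.structureModule X) (inf_le_right : U ≤ O)) hk₀).trans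
        (map_one (res (inf_le_right : U ≤ O)))
    have h1 := hall ((CohB1.tensorMod (ClSub.idealMod I) L).presheaf.germ U Q hQU (tmul kU g))
    rw [stalk_map_germ, twistMul_tmul, hkU] at h1
    have h2 : L.presheaf.germ U Q hQU ((1 : Γ(X, U)) • g) = (1 : X.presheaf.stalk Q) • L.presheaf.germ U Q hQU g := by
      rw [one_smul, one_smul]
    have h3 := (EmbLib24.mem_smul_top_iff _ (EmbLib24.bijective_smul_germ hg hQU) _ (1 : X.presheaf.stalk Q)).1
      (h2 ▸ h1)
    exact (IsLocalRing.maximalIdeal.isMaximal _).ne_top ((Ideal.eq_top_iff_one _).2 h3)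
  · intro w hw
    refine Submodule.mem_sup_left ?_
    have hv : (St P).map τ.hom w ∈ (IsLocalRing.maximalIdeal (X.presheaf.stalk P) •
        (⊤ : Submodule (X.presheaf.stalk P) (L.presheaf.stalk P))) := by
      exact stalk_map_mem_smul_top τ.hom _ hw
    obtain ⟨u, hu⟩ := exists_stalk_preimage hP hL _ hv
    have hw' : w = (St P).map τ.inv ((St P).map (twistMul (ptIdeal P hP) L) u) := by
      rw [hu]
      refine Eq.symm ((stalk_comp_apply τ.hom τ.inv w).trans ?_)
      rw [Iso.hom_inv_id]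
      exact stalk_id_apply _ w
    rw [hw']
    have hu' : u ∈ Submodule.span (X.presheaf.stalk P)
        (Set.range fun s : Γ(CohB1.tensorMod (ClSub.idealMod (ptIdeal P hP)) L, ⊤) =>
          (CohB1.tensorMod (ClSub.idealMod (ptIdeal P hP)) L).presheaf.germ ⊤ P trivial s) :=
      hgen P hP P ▸ Submodule.mem_top
    rw [stalk_comp_apply]
    refine stalk_map_mem_of_span (twistMul (ptIdeal P hP) L ≫ τ.inv) hu' _ fun z => ?_
    obtain ⟨c, hc⟩ := hσ ((twistMul (ptIdeal P hP) L).app ⊤ z)
    have he : M.presheaf.germ ⊤ P trivial ((twistMul (ptIdeal P hP) L ≫ τ.inv).app ⊤ z) =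
        M.presheaf.germ ⊤ P trivial (∑ i, ProjUP.toGlobal pX (c i) • EmbLib24.sig r i) := by
      rw [Scheme.Modules.Hom.comp_app, ConcreteCategory.comp_apply, ← hc]
      exact congrArg _ (congrArg (fun φ => φ.app ⊤ (∑ i, ProjUP.toGlobal pX (c i) • EmbLib24.sig r i))
        τ.hom_inv_id)
    refine Submodule.subset_span ⟨c, he, ?_⟩
    rw [he, hiff c P, hc]
    exact fun h => glocus_twistMul_le (ptIdeal P hP) hL z h ((support_ptIdeal hP).ge rfl)

end Groth.Agent.CurveRR24
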